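import Cfsg.Agent.TAB.F22.FxA_m3
import Cfsg.Agent.Prune
set_option linter.all false
prune_inst 0x7f00000000000000000000000000000000000000000000000000000000000000000000000000000000000000000000000000000000000000000000000000000000000000000000000000000000000000003fffffffffffffffffffffffffffbeffbdffffffff
private noncomputable def lq265bee135d {T : Sort _} (f :
    type_of% (@_root_.List.cons.{0} (Nat)) →
    type_of% (@_root_.List.cons.{0} (Int)) →
    type_of% (@_root_.List.cons.{0}) →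
    type_of% (@_root_.List.nil.{0}) →
    type_of% (@_root_.Prod.mk.{0, 0}) →
    type_of% (@_root_.List.cons.{0} (List (Prod Nat Nat))) →
    type_of% (@_root_.List.cons.{0} (List Int)) →
    type_of% (@_root_.Cfsg.Agent.TAB.Sz.Op.mul) →
    type_of% (@_root_.Cfsg.Agent.TAB.Sz.Op.psi) →
    type_of% (@_root_.Cfsg.Agent.TAB.Sz.Op.adj) →
    type_of% (@_root_.Cfsg.Agent.TAB.Sz.Op.del) → T) : T :=
  f (@_root_.List.cons.{0} (Nat)) (@_root_.List.cons.{0} (Int)) (@_root_.List.cons.{0}) (@_root_.List.nil.{0}) (@_root_.Prod.mk.{0, 0}) (@_root_.List.cons.{0} (List (Prod Nat Nat))) (@_root_.List.cons.{0} (List Int)) (@_root_.Cfsg.Agent.TAB.Sz.Op.mul) (@_root_.Cfsg.Agent.TAB.Sz.Op.psi) (@_root_.Cfsg.Agent.TAB.Sz.Op.adj) (@_root_.Cfsg.Agent.TAB.Sz.Op.del)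

/-!
# The table of `Fi22` : data (helper31, TAB)

The types are the 59 classes under `Fi22 : 2` (representatives of helper123, the identity first).
-/

set_option autoImplicit false
set_option maxRecDepth 100000

namespace Cfsg.Agent.TAB.F22

open Cfsg.Agent.TAB.Eng Cfsg.Agent.TAB.Sz

/-- the types -/
def dat : Dat where
  n := 59
  N := 64561751654400
  ordL := (beta% delta% lq265bee135d fun a _ d e _ _ _ _ _ _ _ =>
 (let c:=(let c:=(let c:=(let c:=(a 22<|a 24<|a 24<|a 30<|e);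
 (a 18<|a 18<|a 20<|a 21<|c));
 (a 12<|a 12<|a 13<|a 14<|a 15<|a 16<|a 18<|c));
 (let c:=(let c:=(a 12<|a 12<|a 12<|a 12<|c);
 (a 12<|a 12<|a 12<|a 12<|c));
 (a 8<|a 9<|a 9<|a 9<|a 10<|a 10<|a 11<|
 c)));
 (let c:=(let c:=(let c:=(a 7<|a 8<|a 8<|a 8<|c);
 (a 6<|a 6<|a 6<|a 6<|c));
 (a 6<|a 6<|a 6<|a 6<|a 6<|a 6<|a 6<|c));
 (let c:=(a 3<|a 4<|a 4<|a 4<|a 4<|a 4<|a 5<|c);
 (d 1<|d 2<|d 2<|d 2<|d 3<|d 3<|d 3<|c)))))
  cntL := (beta% delta% lq265bee135d fun a _ d e _ _ _ _ _ _ _ =>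
 (let c:=(let c:=(let c:=(let c:=(a 5869250150400<|a 1345036492800<|a 1345036492800<|a 2152058388480<|e);
 (a 1793381990400<|a 1195587993600<|a 3228087582720<|a 3074369126400<|
 c));
 (a 224172748800<|a 74724249600<|a 9932577177600<|a 4611553689600<|
 a 2152058388480<|a 4035109478400<|a 1195587993600<|c));
 (let c:=(let c:=(a 112086374400<|
 a 112086374400<|a 896690995200<|a 672518246400<|c);
 (a 1793381990400<|a 896690995200<|a 448345497600<|a 672518246400<|c));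
 (a 168129561600<|a 2391175987200<|a 398529331200<|a 199264665600<|a 1614043791360<|
 a 1076029194240<|a 5869250150400<|c)));
 (let c:=(let c:=(let c:=(a 1537184563200<|a 2017554739200<|
 a 504388684800<|a 168129561600<|c);
 (a 37362124800<|a 9340531200<|a 691891200<|a 415134720<|c));
 (a 298896998400<|a 18681062400<|a 149448499200<|a 18681062400<|a 74724249600<|
 a 16605388800<|a 6227020800<|c));
 (let c:=(a 3294720<|a 14010796800<|a 5254048800<|a 21016195200<|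
 a 1401079680<|a 583783200<|a 107602919424<|c);
 (d 1<|d 36486450<|d 1216215<|d 3510<|d 3690086400<|d 25625600<|d 461260800<|c)))))
  pwL := (beta% delta% lq265bee135d fun _ _ d e f g _ _ _ _ _ =>
 (let c:=(let c:=(let c:=(let c:=(g (d (f 1 55)<|d (f 2 35)<|d (f 11 3)<|d (f 22 0)<|e)<|g (d (f 1 56)<|d (f 2 40)<|d (f 3 28)<|d (f 4 22)<|d (f 6 12)<|d (f 8 7)<|d (f 12 2)<|d (f 24 0)<|e)<|
 g (d (f 1 57)<|d (f 2 40)<|d (f 3 29)<|d (f 4 22)<|d (f 6 12)<|d (f 8 7)<|d (f 12 2)<|d (f 24 0)<|e)<|g (d (f 1 58)<|d (f 2 48)<|d (f 3 34)<|d (f 5 24)<|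
 d (f 6 13)<|d (f 10 7)<|d (f 15 3)<|d (f 30 0)<|e)<|e);
 (g (d (f 1 51)<|d (f 2 32)<|d (f 3 20)<|d (f 6 5)<|d (f 9 2)<|d (f 18 0)<|e)<|g (d (f 1 52)<|d (f 2 32)<|d (f 3 23)<|d (f 6 5)<|
 d (f 9 3)<|d (f 18 0)<|e)<|g (d (f 1 53)<|d (f 2 33)<|d (f 4 13)<|d (f 5 11)<|d (f 10 2)<|d (f 20 0)<|e)<|g (d (f 1 54)<|d (f 3 25)<|d (f 7 7)<|d (f 21 0)<|e)<|
 c));
 (g (d (f 1 44)<|d (f 2 22)<|d (f 3 11)<|d (f 4 7)<|d (f 6 2)<|d (f 12 0)<|e)<|g (d (f 1 45)<|
 d (f 2 20)<|d (f 3 12)<|d (f 4 5)<|d (f 6 2)<|d (f 12 0)<|e)<|g (d (f 1 46)<|d (f 13 0)<|e)<|g (d (f 1 47)<|d (f 2 25)<|d (f 7 3)<|d (f 14 0)<|e)<|g (d (f 1 48)<|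
 d (f 3 13)<|d (f 5 7)<|d (f 15 0)<|e)<|g (d (f 1 49)<|d (f 2 27)<|d (f 4 9)<|d (f 8 2)<|d (f 16 0)<|e)<|g (d (f 1 50)<|d (f 2 31)<|d (f 3 23)<|d (f 6 5)<|
 d (f 9 3)<|d (f 18 0)<|e)<|c));
 (let c:=(let c:=(g (d (f 1 40)<|d (f 2 22)<|d (f 3 12)<|d (f 4 7)<|d (f 6 2)<|d (f 12 0)<|e)<|g (d (f 1 41)<|
 d (f 2 22)<|d (f 3 12)<|d (f 4 7)<|d (f 6 2)<|d (f 12 0)<|e)<|g (d (f 1 42)<|d (f 2 15)<|d (f 3 8)<|d (f 4 5)<|d (f 6 1)<|d (f 12 0)<|e)<|g (d (f 1 43)<|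
 d (f 2 20)<|d (f 3 9)<|d (f 4 5)<|d (f 6 2)<|d (f 12 0)<|e)<|c);
 (g (d (f 1 36)<|d (f 2 14)<|d (f 3 8)<|d (f 4 4)<|d (f 6 1)<|d (f 12 0)<|e)<|g (d (f 1 37)<|
 d (f 2 18)<|d (f 3 11)<|d (f 4 6)<|d (f 6 2)<|d (f 12 0)<|e)<|g (d (f 1 38)<|d (f 2 21)<|d (f 3 8)<|d (f 4 6)<|d (f 6 1)<|d (f 12 0)<|e)<|g (d (f 1 39)<|
 d (f 2 22)<|d (f 3 10)<|d (f 4 7)<|d (f 6 2)<|d (f 12 0)<|e)<|c));
 (g (d (f 1 29)<|d (f 2 12)<|d (f 4 2)<|d (f 8 0)<|e)<|g (d (f 1 30)<|d (f 3 4)<|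
 d (f 9 0)<|e)<|g (d (f 1 31)<|d (f 3 5)<|d (f 9 0)<|e)<|g (d (f 1 32)<|d (f 3 5)<|d (f 9 0)<|e)<|g (d (f 1 33)<|d (f 2 13)<|d (f 5 2)<|d (f 10 0)<|e)<|g (d (f 1 34)<|
 d (f 2 13)<|d (f 5 3)<|d (f 10 0)<|e)<|g (d (f 1 35)<|d (f 11 0)<|e)<|c)));
 (let c:=(let c:=(let c:=(g (d (f 1 25)<|d (f 7 0)<|e)<|g (d (f 1 26)<|d (f 2 8)<|d (f 4 1)<|d (f 8 0)<|e)<|g (d (f 1 27)<|d (f 2 9)<|
 d (f 4 2)<|d (f 8 0)<|e)<|g (d (f 1 28)<|d (f 2 12)<|d (f 4 2)<|d (f 8 0)<|e)<|c);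
 (g (d (f 1 21)<|d (f 2 6)<|d (f 3 1)<|d (f 6 0)<|e)<|g (d (f 1 22)<|d (f 2 7)<|d (f 3 2)<|d (f 6 0)<|e)<|g (d (f 1 23)<|d (f 2 5)<|d (f 3 3)<|d (f 6 0)<|e)<|
 g (d (f 1 24)<|d (f 2 7)<|d (f 3 3)<|d (f 6 0)<|e)<|c));
 (g (d (f 1 14)<|d (f 2 4)<|d (f 3 1)<|d (f 6 0)<|e)<|
 g (d (f 1 15)<|d (f 2 5)<|d (f 3 1)<|d (f 6 0)<|e)<|g (d (f 1 16)<|d (f 2 6)<|d (f 3 1)<|d (f 6 0)<|e)<|g (d (f 1 17)<|d (f 2 7)<|d (f 3 1)<|d (f 6 0)<|e)<|
 g (d (f 1 18)<|d (f 2 6)<|d (f 3 2)<|d (f 6 0)<|e)<|g (d (f 1 19)<|d (f 2 6)<|d (f 3 3)<|d (f 6 0)<|e)<|g (d (f 1 20)<|d (f 2 5)<|d (f 3 2)<|d (f 6 0)<|e)<|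
 c));
 (let c:=(g (d (f 1 7)<|d (f 3 0)<|e)<|g (d (f 1 8)<|d (f 2 1)<|d (f 4 0)<|e)<|g (d (f 1 9)<|d (f 2 2)<|d (f 4 0)<|e)<|g (d (f 1 10)<|d (f 2 2)<|d (f 4 0)<|e)<|
 g (d (f 1 11)<|d (f 2 2)<|d (f 4 0)<|e)<|g (d (f 1 12)<|d (f 2 2)<|d (f 4 0)<|e)<|g (d (f 1 13)<|d (f 5 0)<|e)<|c);
 (d (d (f 1 0)<|e)<|d (d (f 1 1)<|d (f 2 0)<|e)<|d (d (f 1 2)<|d (f 2 0)<|e)<|d (d (f 1 3)<|d (f 2 0)<|e)<|d (d (f 1 4)<|d (f 3 0)<|e)<|d (d (f 1 5)<|d (f 3 0)<|e)<|d (d (f 1 6)<|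
 d (f 3 0)<|e)<|c)))))

/-- the permutation character of degree 3510 -/
def vF : List ℤ := (beta% delta% lq265bee135d fun _ b d e _ _ _ _ _ _ _ =>
 (let c:=(let c:=(let c:=(let c:=(b 1<|b 0<|b 0<|b 1<|e);
 (b 2<|b 4<|b 0<|b 0<|c));
 (b 6<|b 11<|b 0<|b 1<|b 1<|b 0<|b 1<|c));
 (let c:=(let c:=(b 2<|b 2<|b 3<|b 3<|c);
 (b 0<|b 0<|b 0<|b 2<|c));
 (b 6<|b 0<|
 b 3<|b 6<|b 2<|b 4<|b 1<|c)));
 (let c:=(let c:=(let c:=(b 3<|b 2<|b 2<|b 6<|c);
 (b 12<|b 14<|b 19<|b 46<|c));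
 (b 0<|b 3<|b 6<|b 6<|b 8<|b 10<|b 11<|c));
 (let c:=(b 126<|b 6<|b 6<|b 14<|b 30<|b 38<|b 10<|c);
 (d 3510<|d 54<|d 182<|d 694<|d 0<|d 27<|d 36<|c)))))

/-- the character of degree 78 -/
def vC : List ℤ := (beta% delta% lq265bee135d fun _ b d e _ _ _ _ _ _ _ =>
 (let c:=(let c:=(let c:=(let c:=(b (-1)<|b (-1)<|b 1<|b (-2)<|e);
 (b (-1)<|b (-1)<|b (-1)<|b 1<|c));
 (b (-3)<|b (-3)<|b 0<|b 1<|b 0<|b 0<|b 2<|c));
 (let c:=(let c:=(b 3<|b (-3)<|b (-1)<|b 1<|c);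
 (b (-1)<|b 0<|b 2<|b (-1)<|c));
 (b (-2)<|b 0<|b 0<|b 3<|
 b (-1)<|b 1<|b 1<|c)));
 (let c:=(let c:=(let c:=(b 1<|b 0<|b 2<|b 2<|c);
 (b (-2)<|b (-1)<|b (-7)<|b (-7)<|c));
 (b 1<|b 1<|b (-2)<|b 1<|b 2<|b 2<|b 5<|c));
 (let c:=(b 15<|b 2<|b (-2)<|b 2<|b (-6)<|b 6<|b 3<|c);
 (d 78<|d (-2)<|d 14<|d (-34)<|d (-3)<|d (-3)<|d 6<|c)))))

/-- the seeds -/
def seeds : List (List ℤ) := [vF, vC, List.replicate 59 1]

/-- a linear combination; a term is coded by a number -/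
def ln (l : List ℕ) : Sz.Op := .lin (l.map fun a =>
  (cond (Nat.beq (Nat.mod (Nat.div a 256) 2) 0) (Int.ofNat (Nat.div a 512)) (Int.negSucc (Nat.div a 512)), Nat.mod a 256))

/-- the program, part 0 -/
def ops0 : List Sz.Op := (beta% delta% lq265bee135d fun _ _ d e _ _ _ i j k l =>
 (d (ln (d 512<|d 258<|e))<|d (l 2 2)<|d (l 3 3)<|d (j 2 4)<|d (j 3 5)<|d (i 6 4)<|d (l 2 5)<|d (j 2 6)<|d (k 2 10)<|d (ln (d 263<|e))<|d (ln (d 518<|d 264<|d 268<|e))<|d (ln (d 263<|d 521<|d 522<|d 525<|e))<|d (ln (d 265<|d 269<|e))<|d (ln (d 520<|d 266<|d 270<|e))<|d (ln (d 264<|d 521<|d 779<|d 271<|e))<|d (ln (d 263<|d 1035<|d 269<|d 1038<|e))<|d (ln (d 265<|d 526<|d 271<|e))<|d (ln (d 520<|d 522<|d 268<|d 1038<|d 530<|d 275<|e))<|d (l 2 6)<|d (i 20 7)<|d (i 10 8)<|d (j 2 9)<|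
 d (l 2 12)<|d (i 11 12)<|d (j 2 14)<|d (j 3 13)<|e))

/-- the program, part 1 -/
def ops1 : List Sz.Op := (beta% delta% lq265bee135d fun _ _ d e _ _ _ i _ k l =>
 (d (ln (d 263<|e))<|d (ln (d 519<|d 524<|e))<|d (ln (d 264<|d 269<|d 526<|e))<|d (ln (d 519<|d 266<|d 273<|d 274<|d 287<|e))<|d (ln (d 518<|d 274<|d 275<|e))<|d (ln (d 518<|d 1031<|d 264<|d 521<|d 270<|d 527<|d 1299<|d 2324<|d 801<|e))<|d (ln (d 1032<|d 265<|d 269<|d 271<|d 788<|d 789<|d 790<|e))<|d (ln (d 266<|d 791<|e))<|d (ln (d 265<|d 524<|d 271<|d 278<|d 535<|d 792<|e))<|d (ln (d 265<|d 525<|d 271<|d 272<|d 276<|d 533<|d 537<|e))<|d (ln (d 268<|d 525<|d 270<|d 272<|d 1041<|d 530<|d 531<|d 1048<|d 1049<|d 1050<|d 550<|e))<|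
 d (i 38 9)<|d (i 39 8)<|d (i 40 12)<|d (i 28 12)<|d (i 42 6)<|d (l 3 30)<|d (k 2 44)<|d (i 32 17)<|d (ln (d 519<|d 267<|d 803<|e))<|
 d (ln (d 264<|d 267<|d 1036<|d 1060<|e))<|d (ln (d 519<|d 264<|d 283<|e))<|d (ln (d 259<|d 773<|d 522<|d 268<|d 525<|d 782<|d 273<|d 786<|d 277<|d 804<|d 293<|d 294<|e))<|
 d (ln (d 516<|d 518<|d 523<|d 783<|d 273<|d 278<|d 1319<|e))<|d (ln (d 261<|d 263<|d 266<|d 524<|d 525<|d 527<|d 272<|d 531<|d 276<|d 535<|d 542<|d 296<|e))<|d (ln (d 522<|d 269<|d 270<|d 272<|d 1041<|d 276<|d 280<|d 542<|d 1065<|e))<|e))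

/-- the program, part 2 -/
def ops2 : List Sz.Op := (beta% delta% lq265bee135d fun _ _ d e _ _ _ i j k _ =>
 (d (ln (d 522<|d 277<|d 543<|e))<|d (ln (d 265<|d 268<|d 527<|d 787<|d 277<|d 811<|e))<|d (i 42 25)<|d (i 56 23)<|d (i 57 23)<|d (i 45 44)<|d (i 59 12)<|
 d (j 3 49)<|d (j 3 49)<|d (j 2 41)<|d (ln (d 263<|d 524<|d 525<|d 526<|d 527<|d 272<|d 1047<|d 538<|d 540<|d 542<|d 287<|d 1056<|d 1057<|d 1059<|d 297<|d 554<|d 575<|e))<|d (ln (d 264<|d 266<|d 523<|d 524<|d 525<|d 1039<|d 273<|d 1560<|d 543<|d 1057<|d 1058<|d 298<|d 555<|d 576<|e))<|d (ln (d 518<|d 265<|d 269<|d 270<|d 272<|d 273<|d 1042<|d 800<|d 545<|d 802<|d 805<|d 300<|d 577<|e))<|d (ln (d 264<|d 521<|d 538<|d 292<|d 557<|d 308<|e))<|d (ln (d 523<|d 524<|d 271<|d 272<|d 274<|d 532<|d 795<|d 805<|d 551<|d 302<|d 821<|d 323<|e))<|d (ln (d 518<|d 263<|d 524<|d 526<|d 271<|d 272<|d 787<|d 277<|d 1308<|d 543<|d 1057<|d 548<|d 1829<|d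 294<|d 302<|d 815<|d 311<|d 824<|d 324<|d 325<|e))<|d (ln (d 523<|d 270<|d 272<|d 273<|d 274<|d 276<|d 1046<|d 797<|d 290<|d 804<|d 806<|d 551<|d 296<|d 297<|d 559<|d 304<|d 567<|e))<|d (ln (d 522<|d 267<|d 524<|d 269<|d 526<|d 785<|d 1298<|d 787<|d 532<|d 789<|d 534<|d 1559<|d 1310<|d 545<|d 292<|d 293<|d 294<|d 807<|d 1320<|d 809<|d 554<|
 d 560<|d 824<|d 326<|e))<|d (ln (d 520<|d 271<|d 528<|d 785<|d 530<|d 531<|d 1044<|d 789<|d 534<|d 2839<|d 3352<|d 1567<|d 3108<|d 805<|d 2598<|d 1831<|d 2344<|d 1065<|d 4139<|d 561<|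
 d 306<|d 1850<|d 3387<|d 2108<|d 583<|d 840<|e))<|d (ln (d 522<|d 269<|d 526<|d 271<|d 1040<|d 529<|d 532<|d 278<|d 792<|d 1561<|d 1312<|d 2083<|d 293<|d 1318<|d 295<|d 809<|d 1322<|d 1579<|d 300<|d 819<|
 d 314<|d 827<|d 2364<|d 829<|d 840<|d 1353<|e))<|d (i 62 42)<|
 d (i 63 46)<|d (i 64 46)<|d (k 2 55)<|d (i 64 44)<|d (j 2 49)<|e))

/-- the program, part 3 -/
def ops3 : List Sz.Op := (beta% delta% lq265bee135d fun a _ d e _ _ _ i j k l =>
 (d (i 66 45)<|d (i 80 45)<|d (ln (d 256<|d 1029<|d 266<|d 270<|d 271<|d 272<|d 284<|d 1309<|d 798<|d 543<|d 288<|d 2082<|d 297<|d 556<|d 303<|d 816<|d 561<|d 818<|d 1843<|d 820<|d 309<|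
 d 315<|d 2883<|d 1873<|e))<|d (ln (d 1025<|d 1798<|d 1035<|d 524<|d 526<|d 527<|d 1040<|d 1041<|d 1053<|d 3102<|d 2591<|d 800<|d 1057<|d 4387<|d 1066<|d 813<|d 559<|d 1072<|d 2609<|
 d 818<|d 2611<|d 3636<|d 2613<|d 566<|d 1084<|d 6724<|d 4178<|e))<|d (ln (d 258<|d 1031<|d 268<|d 273<|d 274<|d 286<|d 1311<|d 800<|d 545<|d 290<|d 2084<|d 299<|d 558<|d 305<|d 818<|d 563<|d 820<|d 1845<|d 822<|d 311<|d 317<|
 d 2885<|d 1875<|e))<|
 d (ln (d 771<|d 2056<|d 781<|d 270<|d 273<|d 786<|d 787<|d 799<|d 2848<|d 1825<|d 1058<|d 803<|d 4645<|d 812<|d 1071<|d 305<|d 818<|d 2355<|d 1076<|d 2357<|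
 d 3894<|d 2359<|d 824<|d 830<|d 6470<|d 3924<|e))<|d (ln (d 260<|d 1545<|d 1294<|d 786<|d 1811<|d 276<|d 533<|d 1824<|d 5409<|d 4386<|d 1059<|d 3364<|d 805<|d 8230<|d 2349<|d 560<|d 306<|d 819<|d 4916<|
 d 1589<|d 6454<|d 5943<|d 2360<|d 2873<|d 575<|d 832<|d 5959<|d 2901<|e))<|d (ln (let c:=(let c:=(let c:=(a 4168<|a 329<|a 330<|a 587<|a 2134<|e);
 (a 1593<|a 1082<|a 576<|a 321<|c));
 (let c:=(a 1077<|a 310<|a 311<|a 2616<|c);
 (a 558<|a 305<|a 1075<|a 308<|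
 c)));
 (let c:=(let c:=(a 1059<|a 804<|a 1318<|a 2855<|c);
 (a 531<|a 532<|a 1045<|a 1570<|c));
 (let c:=(a 270<|a 527<|a 528<|a 530<|c);
 (d 517<|d 778<|d 523<|d 268<|c)))))<|d (ln (let c:=(let c:=(let c:=(a 2377<|a 842<|a 843<|a 1100<|a 855<|e);
 (a 314<|a 571<|a 1601<|a 1346<|c));
 (let c:=(a 3382<|a 823<|a 8504<|a 3897<|c);
 (a 1839<|a 562<|a 1588<|
 a 1333<|c)));
 (let c:=(let c:=(a 3364<|a 3878<|a 2855<|a 4648<|c);
 (a 1301<|a 1558<|a 2850<|a 4387<|c));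
 (let c:=(a 784<|a 529<|a 531<|a 276<|c);
 (d 523<|d 1036<|d 781<|d 271<|c)))))<|d (ln (d 520<|d 266<|d 293<|d 294<|d 296<|d 1065<|d 307<|d 821<|d 822<|d 312<|d 825<|d 314<|d 571<|d 316<|d 578<|d 323<|d 843<|d 332<|d 333<|e))<|
 d (ln (d 264<|d 1549<|d 782<|d 1039<|d 529<|d 786<|d 275<|d 277<|d 790<|d 1303<|d 1816<|d 1049<|d 292<|d 4389<|d 4390<|d 1063<|d 1832<|d 1065<|d 9258<|
 d 1841<|d 2870<|d 5432<|d 3641<|d 3386<|d 4923<|d 2876<|d 5437<|d 6475<|d 1100<|d 1101<|d 846<|d 2905<|e))<|d (ln (let c:=(let c:=(let c:=(a 11340<|a 845<|a 1358<|a 1103<|a 5210<|e);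
 (a 7740<|a 4669<|a 2622<|a 580<|a 837<|c));
 (let c:=(a 4151<|a 312<|a 5689<|a 1850<|a 3131<|c);
 (a 2346<|
 a 11563<|a 2610<|a 1845<|c)));
 (let c:=(let c:=(a 2085<|a 7206<|a 5671<|a 3368<|a 3113<|c);
 (a 1046<|a 1559<|a 2072<|a 2073<|c));
 (let c:=(a 527<|a 784<|a 274<|a 2067<|a 532<|c);
 (d 1033<|d 522<|d 525<|d 2318<|c)))))<|d (ln (let c:=(let c:=(let c:=(a 9037<|a 2126<|a 1103<|a 336<|a 3931<|e);
 (a 2878<|a 2879<|a 325<|a 1094<|c));
 (let c:=(a 824<|a 1337<|a 5434<|a 4155<|a 4925<|c);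
 (a 3627<|
 a 9260<|a 1843<|a 2102<|c)));
 (let c:=(let c:=(a 1318<|a 5415<|a 3880<|a 3113<|a 1834<|c);
 (a 1304<|a 1305<|a 1818<|a 283<|c));
 (let c:=(a 1041<|a 531<|a 788<|a 789<|a 1303<|c);
 (d 778<|d 525<|d 2063<|d 1296<|c)))))<|d (ln (let c:=(let c:=(let c:=(a 6222<|a 1615<|a 1104<|a 593<|a 2140<|e);
 (a 1599<|a 1344<|a 2118<|a 1095<|c));
 (let c:=(a 1082<|a 4667<|a 1084<|a 4669<|a 2622<|c);
 (a 7981<|a 2612<|a 311<|
 a 3129<|c)));
 (let c:=(let c:=(a 1575<|a 5160<|a 4649<|a 2091<|a 2604<|c);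
 (a 1560<|a 538<|a 539<|a 1564<|c));
 (let c:=(a 273<|a 532<|a 533<|a 534<|c);
 (d 523<|d 268<|d 526<|d 784<|c)))))<|d (ln (let c:=(let c:=(let c:=(a 336<|a 3409<|a 3666<|a 8285<|
 a 862<|e);
 (a 5696<|a 5185<|a 5703<|a 328<|a 15439<|c));
 (let c:=(a 2363<|a 5180<|a 3389<|a 6462<|a 5695<|c);
 (a 6957<|a 18734<|a 1589<|a 14394<|c)));
 (let c:=(let c:=(a 1832<|a 4649<|a 6698<|a 2347<|a 2348<|
 c);
 (a 2585<|a 1050<|a 1051<|a 6684<|a 797<|c));
 (let c:=(a 530<|a 1299<|a 789<|a 2070<|a 2071<|c);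
 (d 2060<|d 526<|d 527<|d 3857<|c)))))<|d (ln (let c:=(let c:=(let c:=(a 9552<|a 337<|a 338<|a 595<|a 5982<|e);
 (a 5440<|a 2881<|a 1352<|a 329<|c));
 (let c:=(a 1852<|a 2877<|a 574<|a 4927<|c);
 (a 6703<|a 1334<|
 a 1593<|a 571<|c)));
 (let c:=(let c:=(a 4906<|a 3371<|a 1068<|a 1837<|a 814<|c);
 (a 795<|a 1308<|a 797<|a 2345<|c));
 (let c:=(a 277<|a 278<|a 1303<|a 280<|c);
 (d 1293<|d 3090<|d 531<|d 276<|c)))))<|d (j 2 65)<|d (k 2 83)<|d (j 2 66)<|d (j 2 70)<|d (i 86 52)<|d (l 2 79)<|d (k 2 87)<|d (k 2 91)<|d (ln (d 258<|d 1034<|d 1038<|d 1040<|d 2322<|d 275<|d 3860<|d 789<|d 806<|d 2855<|d 818<|d 6963<|d 1844<|d 1077<|d 1846<|d 1335<|d 10296<|d 3903<|d 1090<|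
 d 5444<|d 4165<|d 5446<|d 3911<|d 840<|d 4937<|d 842<|d 1355<|d 4433<|d 6489<|d 346<|d 859<|d 2396<|e))<|d (ln (let c:=(let c:=(let c:=(a 7244<|a 3155<|a 4442<|a 603<|a 604<|e);
 (a 3912<|a 5193<|a 1866<|a 1099<|c));
 (let c:=(a 3651<|a 1605<|a 838<|a 2631<|c);
 (a 2101<|a 2614<|a 3128<|
 a 313<|c)));
 (let c:=(let c:=(a 1062<|a 1063<|a 2856<|a 2355<|a 1844<|c);
 (a 1554<|a 787<|a 788<|a 1813<|c));
 (let c:=(a 525<|a 526<|a 272<|a 1041<|c);
 (d 516<|d 263<|d 523<|d 268<|c)))))<|e))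

/-- the program, part 4 -/
def ops4 : List Sz.Op := (beta% delta% lq265bee135d fun a _ d e _ _ _ i j k l =>
 (d (ln (let c:=(let c:=(let c:=(a 8011<|a 6221<|a 851<|a 2132<|a 9563<|e);
 (a 1095<|a 3912<|a 5449<|a 842<|c));
 (let c:=(a 10298<|a 3905<|a 4164<|a 1350<|c);
 (a 1334<|a 2615<|a 4408<|
 a 569<|c)));
 (let c:=(let c:=(a 1576<|a 4905<|a 4404<|a 9525<|c);
 (a 2324<|a 2325<|a 4886<|a 551<|c));
 (let c:=(a 528<|a 1297<|a 2066<|a 2067<|c);
 (d 517<|d 1036<|d 269<|d 526<|c)))))<|d (ln (let c:=(let c:=(let c:=(a 1108<|a 2389<|a 4700<|a 349<|a 350<|e);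
 (a 3915<|a 2636<|a 333<|a 5966<|c));
 (let c:=(a 1351<|a 584<|a 1353<|a 3658<|c);
 (a 1848<|a 2362<|a 315<|
 a 2885<|c)));
 (let c:=(let c:=(a 809<|a 3114<|a 2613<|a 2614<|a 1847<|c);
 (a 1045<|a 1046<|a 2071<|a 296<|c));
 (let c:=(a 272<|a 530<|a 787<|a 788<|c);
 (d 262<|d 521<|d 269<|d 526<|c)))))<|d (ln (let c:=(let c:=(let c:=(a 1622<|a 16221<|a 350<|a 863<|a 2400<|e);
 (a 1356<|a 12621<|a 846<|a 4687<|a 5973<|c));
 (let c:=(a 5190<|a 6984<|a 5705<|a 10058<|a 9547<|c);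
 (a 6458<|
 a 1339<|a 20540<|a 8515<|c)));
 (let c:=(let c:=(a 7979<|a 5430<|a 17207<|a 3384<|a 3641<|c);
 (a 8984<|a 1305<|a 553<|a 554<|c));
 (let c:=(a 787<|a 3092<|a 1557<|a 4886<|a 2327<|c);
 (d 262<|d 519<|d 2062<|d 2066<|c)))))<|d (ln (let c:=(let c:=(let c:=(a 2654<|a 607<|a 608<|a 1633<|a 364<|e);
 (a 2893<|a 3150<|a 335<|a 1616<|a 4694<|c));
 (let c:=(a 839<|a 1609<|a 1866<|a 3659<|a 2636<|c);
 (a 1083<|a 316<|
 a 5949<|a 2116<|c)));
 (let c:=(let c:=(a 555<|a 3116<|a 4152<|a 569<|a 1338<|c);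
 (a 1559<|a 1048<|a 3097<|a 1050<|c));
 (let c:=(a 274<|a 275<|a 276<|a 277<|a 1046<|c);
 (d 261<|d 262<|d 519<|d 271<|c)))))<|d (ln (let c:=(let c:=(let c:=(a 8271<|a 6481<|a 599<|a 1880<|a 9823<|e);
 (a 843<|a 4684<|a 6221<|a 1102<|c));
 (let c:=(a 10046<|a 4165<|a 3912<|a 1610<|c);
 (a 2106<|a 2875<|
 a 4668<|a 317<|c)));
 (let c:=(let c:=(a 299<|a 1324<|a 5165<|a 4664<|a 10297<|c);
 (a 2584<|a 2585<|a 5146<|a 296<|c));
 (let c:=(a 276<|a 1557<|a 1814<|a 1815<|c);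
 (d 265<|d 784<|d 529<|d 274<|c)))))<|d (ln (let c:=(let c:=(let c:=(a 1113<|a 12896<|a 1121<|
 a 1634<|a 2659<|e);
 (a 6735<|a 11344<|a 2129<|a 1106<|a 5720<|c));
 (let c:=(a 1865<|a 7755<|a 5964<|a 11853<|a 6222<|c);
 (a 6205<|a 4158<|a 20799<|a 8774<|c)));
 (let c:=(let c:=(a 5678<|a 3641<|a 15930<|a 6203<|a 1340<|
 c);
 (a 2074<|a 7195<|a 1052<|a 556<|a 557<|c));
 (let c:=(a 1813<|a 1046<|a 2327<|a 280<|a 3609<|c);
 (d 521<|d 269<|d 1809<|d 532<|c)))))<|d (ln (let c:=(let c:=(let c:=(a 6745<|a 16481<|a 1123<|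
 a 3684<|a 623<|e);
 (a 6735<|a 7248<|a 13905<|a 2130<|a 1875<|c));
 (let c:=(a 8775<|a 2890<|a 9804<|a 6989<|a 13390<|c);
 (a 2365<|a 7230<|a 3135<|a 25408<|c)));
 (let c:=(let c:=(a 558<|a 6703<|a 5178<|a 19515<|a 6716<|
 c);
 (a 4634<|a 2075<|a 9244<|a 1565<|a 1069<|c));
 (let c:=(a 1045<|a 1814<|a 2071<|a 2840<|a 1817<|c);
 (d 520<|d 522<|d 526<|d 1810<|c)))))<|d (ln (d 525<|d 270<|d 283<|d 542<|d 302<|d 572<|d 318<|d 320<|d 584<|d 331<|d 590<|d 847<|d 337<|d 338<|d 852<|d 603<|d 611<|d 613<|d 624<|e))<|d (ln (let c:=(let c:=(let c:=(a 12117<|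
 a 6235<|a 3932<|a 20067<|a 869<|a 4710<|e);
 (a 6479<|a 9296<|a 14929<|a 16467<|a 1108<|c));
 (let c:=(a 1857<|a 21314<|a 8777<|a 8012<|a 5710<|c);
 (a 8764<|a 20029<|a 1598<|a 4927<|a 7744<|c)));
 (let c:=(let c:=(a 10782<|a 1567<|a 303<|a 2352<|
 a 11825<|c);
 (a 2073<|a 4378<|a 2843<|a 5660<|a 4125<|c));
 (let c:=(a 2324<|a 533<|a 278<|a 279<|a 1816<|c);
 (d 524<|d 781<|d 270<|d 528<|d 529<|c)))))<|d (ln (let c:=(let c:=(let c:=(a 869<|a 5478<|a 2663<|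
 a 370<|a 883<|e);
 (a 341<|a 10838<|a 2652<|a 1117<|a 4452<|c));
 (let c:=(a 1104<|a 2641<|a 6994<|a 10067<|a 4948<|c);
 (a 5442<|a 3395<|a 1866<|a 2637<|a 7247<|c)));
 (let c:=(let c:=(a 3389<|a 5438<|a 575<|a 576<|a 2881<|
 c);
 (a 798<|a 1311<|a 304<|a 3121<|a 2354<|c));
 (let c:=(a 280<|a 537<|a 1306<|a 2587<|a 1564<|c);
 (d 267<|d 785<|d 530<|d 276<|d 533<|c)))))<|d (ln (let c:=(let c:=(let c:=(a 2406<|a 5991<|a 3176<|a 371<|a 884<|e);
 (a 1365<|a 8279<|a 3165<|a 350<|c));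
 (let c:=(a 8272<|a 1361<|a 4690<|a 5459<|a 9044<|c);
 (a 6979<|a 7492<|a 843<|
 a 590<|c)));
 (let c:=(let c:=(a 1342<|a 831<|a 1088<|a 833<|a 1346<|c);
 (a 544<|a 558<|a 3122<|a 819<|c));
 (let c:=(a 1564<|a 541<|a 542<|a 287<|c);
 (d 272<|d 529<|d 531<|d 283<|c)))))<|d (ln (let c:=(let c:=(let c:=(a 3174<|a 4199<|a 8808<|a 617<|a 1140<|a 1141<|e);
 (a 8790<|a 3159<|a 11864<|a 3678<|
 a 8287<|c));
 (let c:=(a 6223<|a 3665<|a 7506<|a 13907<|a 340<|a 29269<|c);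
 (a 5698<|a 7747<|a 19012<|a 16709<|a 10828<|c)));
 (let c:=(let c:=(a 2082<|a 3634<|a 1075<|a 1844<|
 a 13888<|a 10817<|c);
 (a 1562<|a 1819<|a 1821<|a 2078<|a 2593<|c));
 (let c:=(a 787<|a 276<|a 533<|a 791<|a 792<|a 1049<|c);
 (d 525<|d 527<|d 1552<|d 529<|d 274<|c)))))<|d (k 2 105)<|d (k 2 88)<|d (i 106 84)<|d (j 3 99)<|
 d (k 2 92)<|d (i 111 89)<|d (l 2 94)<|d (i 113 90)<|d (ln (let c:=(let c:=(let c:=(a 359<|a 1128<|a 13423<|a 2160<|a 4721<|a 2674<|a 1661<|e);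
 (a 14428<|
 a 8285<|a 23134<|a 19039<|a 4704<|a 7265<|c));
 (let c:=(a 9293<|a 22350<|a 9813<|a 1112<|a 18010<|a 9051<|c);
 (a 316<|a 3144<|a 13385<|a 6218<|a 4171<|a 12364<|c)));
 (let c:=(let c:=(a 3367<|
 a 6696<|a 1065<|a 7210<|a 299<|a 1595<|c);
 (a 2836<|a 4629<|a 2083<|a 1572<|a 2597<|a 806<|c));
 (let c:=(a 2062<|a 527<|a 528<|a 273<|a 1298<|a 3091<|c);
 (d 514<|d 2051<|d 3078<|d 1287<|d 266<|d 781<|c)))))<|d (ln (let c:=(let c:=(let c:=(a 5225<|a 9072<|a 3185<|a 7794<|a 4211<|a 2686<|e);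
 (a 2398<|a 29279<|a 6496<|a 7265<|a 24674<|a 10600<|c));
 (let c:=(a 16975<|a 598<|a 14425<|a 10843<|a 6492<|a 2397<|
 c);
 (a 8521<|a 17226<|a 6219<|a 15948<|a 4941<|a 15950<|c)));
 (let c:=(let c:=(a 7978<|
 a 12075<|a 2860<|a 2108<|a 5181<|a 17726<|c);
 (a 5654<|a 3108<|a 1573<|a 1318<|a 2599<|a 3881<|c));
 (let c:=(a 783<|a 528<|a 1041<|a 2322<|a 1811<|a 532<|c);
 (d 515<|d 2052<|d 518<|d 2055<|d 2312<|d 267<|c)))))<|d (ln (let c:=(let c:=(let c:=(a 873<|a 1386<|a 13169<|a 626<|a 883<|a 628<|e);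
 (a 23390<|a 1887<|
 a 19296<|a 18273<|a 1890<|a 3427<|c));
 (let c:=(a 5455<|a 35920<|a 9559<|a 1626<|a 11100<|a 5725<|c);
 (a 6463<|a 6986<|a 24395<|a 11596<|a 1613<|a 16206<|c)));
 (let c:=(let c:=(a 2601<|a 4906<|a 5931<|
 a 10028<|a 1853<|a 2622<|c);
 (a 2582<|a 535<|a 1829<|a 1062<|a 4903<|a 2088<|c));
 (let c:=(a 784<|a 529<|a 530<|a 275<|a 276<|a 1813<|c);
 (d 258<|d 516<|d 1029<|d 1032<|d 268<|c)))))<|d (ln (let c:=(let c:=(let c:=(a 7274<|a 1131<|a 15474<|a 1395<|a 2932<|a 1397<|a 896<|e);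
 (a 26207<|a 352<|a 8289<|a 20578<|a 1379<|a 2916<|c));
 (let c:=(a 848<|a 42833<|a 10328<|a 5979<|a 3165<|a 1374<|
 c);
 (a 12352<|a 9803<|a 31308<|a 10829<|a 6478<|a 18511<|c)));
 (let c:=(let c:=(a 6187<|
 a 8748<|a 14893<|a 2094<|a 2110<|a 3391<|c);
 (a 2328<|a 1062<|a 1319<|a 4648<|a 2857<|a 1834<|c));
 (let c:=(a 274<|a 787<|a 1044<|a 1557<|a 1558<|a 1815<|c);
 (d 261<|d 1798<|d 2313<|d 1034<|d 525<|d 1553<|c)))))<|d (ln (let c:=(let c:=(let c:=(a 14195<|a 372<|a 1397<|a 886<|a 385<|e);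
 (a 19811<|a 3428<|a 4453<|a 2923<|a 1388<|
 c));
 (let c:=(a 13662<|a 7263<|a 21344<|a 3937<|a 19810<|c);
 (a 14672<|a 6481<|a 33874<|a 9561<|a 604<|c)));
 (let c:=(let c:=(a 4929<|a 4940<|a 20813<|
 a 9550<|a 335<|c);
 (a 6444<|a 3885<|a 10030<|a 1855<|a 1600<|c));
 (let c:=(a 1305<|a 1831<|a 3881<|a 2090<|a 3115<|c);
 (d 523<|d 529<|d 1298<|d 2327<|d 3096<|c)))))<|d (ln (let c:=(let c:=(let c:=(a 3437<|a 16500<|a 885<|a 2934<|a 1399<|a 898<|e);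
 (a 9826<|a 7523<|
 a 18532<|a 869<|a 15206<|a 9836<|c));
 (let c:=(a 27987<|a 5210<|a 9565<|a 4703<|a 2912<|a 11361<|c);
 (a 22094<|a 1871<|a 9552<|a 11857<|a 5970<|c)));
 (let c:=(let c:=(a 14895<|a 2096<|
 a 320<|a 4417<|a 14914<|a 8269<|c);
 (a 808<|a 3114<|a 2859<|a 1836<|a 8237<|a 6702<|c));
 (let c:=(a 276<|a 277<|a 1558<|a 2072<|a 2841<|a 794<|c);
 (d 264<|d 266<|d 1036<|d 274<|d 2067<|c)))))<|e))

/-- the program, part 5 -/
def ops5 : List Sz.Op := (beta% delta% lq265bee135d fun a _ d e _ _ _ _ _ k l =>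
 (d (ln (let c:=(let c:=(let c:=(a 6765<|a 2670<|a 8309<|a 2166<|a 1143<|a 3192<|a 1155<|e);
 (a 10850<|a 4195<|
 a 11876<|a 13413<|a 4198<|a 7783<|c));
 (let c:=(a 6227<|a 16212<|a 6235<|a 2654<|a 10336<|a 6497<|c);
 (a 579<|a 846<|a 7247<|a 2128<|a 3665<|a 7762<|c)));
 (let c:=(let c:=(a 5678<|a 303<|
 a 5168<|a 1073<|a 2113<|a 1602<|c);
 (a 2330<|a 4123<|a 1065<|a 1578<|a 300<|a 813<|c));
 (let c:=(a 787<|a 2068<|a 533<|a 791<|a 1304<|a 2585<|c);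
 (d 774<|d 1032<|d 1545<|d 1548<|d 781<|d 784<|c)))))<|d (ln (let c:=(let c:=(let c:=(a 871<|a 872<|a 2414<|a 1391<|
 a 8054<|e);
 (a 3170<|a 12643<|a 1380<|a 9573<|a 11622<|c));
 (let c:=(a 2388<|a 21077<|a 4956<|a 1119<|a 5473<|c);
 (a 13648<|a 5457<|a 1106<|a 9555<|c)));
 (let c:=(let c:=(a 306<|a 1346<|a 1603<|a 3908<|a 3407<|
 c);
 (a 1581<|a 1582<|a 3375<|a 2864<|a 6449<|c));
 (let c:=(a 535<|a 1306<|a 1563<|a 810<|a 2348<|c);
 (d 522<|d 525<|d 532<|d 789<|c)))))<|d (ln (let c:=(let c:=(let c:=(a 2416<|a 13687<|a 376<|a 1401<|a 890<|a 389<|e);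
 (a 18790<|a 18791<|a 2920<|a 4969<|a 2927<|
 c));
 (let c:=(a 608<|a 12642<|a 7267<|a 20836<|a 3429<|c);
 (a 339<|a 15188<|a 6485<|a 31830<|a 10077<|c)));
 (let c:=(let c:=(a 1859<|a 1092<|a 4421<|a 4432<|
 a 20817<|a 9042<|c);
 (a 2607<|a 5936<|a 3889<|a 9522<|a 307<|c));
 (let c:=(a 2588<|a 1309<|a 1835<|a 3373<|a 2094<|c);
 (d 527<|d 533<|d 1302<|d 536<|d 2331<|c)))))<|
 d (ln (let c:=(let c:=(let c:=(a 1648<|
 a 632<|a 1145<|a 634<|a 1659<|a 646<|e);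
 (a 868<|a 1893<|a 1126<|a 360<|a 1129<|a 2154<|c));
 (let c:=(a 1365<|a 1622<|a 3159<|a 606<|a 1633<|a 2659<|c);
 (a 1862<|a 1873<|a 3410<|a 1363<|a 2644<|c)));
 (let c:=(let c:=(a 559<|a 1073<|a 1842<|a 307<|a 324<|
 a 1605<|c);
 (a 283<|a 540<|a 2078<|a 557<|a 1326<|c));
 (let c:=(a 275<|a 278<|a 535<|a 536<|a 537<|a 282<|c);
 (d 265<|d 523<|d 1036<|d 1039<|d 272<|c)))))<|d (ln (let c:=(let c:=(let c:=(a 25451<|a 25201<|a 3442<|a 33913<|a 1914<|a 9595<|a 2439<|e);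
 (a 1893<|a 34918<|a 9319<|a 18792<|a 39017<|a 6506<|c));
 (let c:=(a 21845<|a 28246<|a 16215<|a 73048<|
 a 15967<|a 21346<|a 6756<|c);
 (a 581<|a 5958<|a 31303<|a 18002<|a 54867<|a 3156<|c)));
 (let c:=(let c:=(a 5167<|a 5936<|a 3377<|a 16434<|a 14899<|a 33844<|a 7733<|c);
 (a 2076<|a 3101<|a 3870<|a 2847<|a 1837<|a 1326<|
 c));
 (let c:=(a 275<|a 278<|a 1303<|a 5144<|a 281<|a 1306<|a 2587<|c);
 (d 1290<|d 523<|d 524<|d 781<|d 784<|d 2577<|c)))))<|d (ln (let c:=(let c:=(let c:=(a 1906<|a 627<|a 378<|a 379<|a 1148<|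
 a 381<|e);
 (a 2663<|a 872<|a 5737<|a 2155<|a 4204<|c));
 (let c:=(a 1369<|a 608<|a 2147<|a 2661<|a 1894<|c);
 (a 1108<|
 a 2133<|a 1110<|a 1111<|a 3160<|c)));
 (let c:=(let c:=(a 564<|a 309<|a 310<|a 840<|a 339<|c);
 (a 558<|a 303<|a 1072<|a 562<|a 307<|c));
 (let c:=(a 536<|a 281<|a 282<|a 287<|a 288<|c);
 (d 523<|d 269<|d 782<|d 1297<|d 533<|c)))))<|d (ln (let c:=(let c:=(let c:=(a 1388<|a 1389<|a 1651<|a 372<|a 5755<|e);
 (a 871<|a 7272<|a 1641<|a 2154<|a 7787<|c));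
 (let c:=(a 345<|a 11610<|a 4705<|a 2916<|a 2150<|c);
 (a 9301<|
 a 2134<|a 2391<|a 6232<|c)));
 (let c:=(let c:=(a 1079<|a 583<|a 840<|a 3145<|a 3668<|c);
 (a 306<|a 819<|a 2612<|a 2101<|a 5174<|c));
 (let c:=(a 542<|a 543<|a 288<|a 545<|a 561<|c);
 (d 527<|d 1042<|d 1050<|d 541<|c)))))<|d (ln (let c:=(let c:=(let c:=(a 12142<|a 8308<|a 3445<|a 35452<|a 1150<|a 383<|e);
 (a 10088<|
 a 34409<|a 16490<|a 18539<|a 43116<|a 365<|c));
 (let c:=(a 30809<|a 2650<|a 65371<|a 18018<|a 12645<|a 23143<|c);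
 (a 19530<|a 16981<|a 47190<|a 9815<|a 8536<|c)));
 (let c:=(let c:=(a 15413<|a 11830<|
 a 26679<|a 2616<|a 1096<|a 6985<|c);
 (a 1584<|a 561<|a 8242<|a 4915<|a 7988<|c));
 (let c:=(a 4635<|a 285<|a 2078<|a 5152<|a 5409<|a 1058<|c);
 (d 525<|d 1040<|d 274<|d 3091<|d 1306<|c)))))<|d (ln (let c:=(let c:=(let c:=(a 622<|a 3957<|a 6781<|a 638<|a 2687<|a 651<|e);
 (a 3433<|a 7786<|a 5227<|a 13420<|a 10349<|
 c));
 (let c:=(a 8282<|a 4187<|a 13660<|a 5219<|a 870<|a 8296<|c);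
 (a 1611<|a 4694<|a 9815<|a 5208<|a 601<|c)));
 (let c:=(let c:=(a 2614<|a 2103<|a 4152<|a 825<|
 a 1097<|a 2378<|c);
 (a 1073<|a 562<|a 2611<|a 820<|a 2357<|c));
 (let c:=(a 540<|a 543<|a 288<|a 1057<|a 802<|a 547<|c);
 (d 526<|d 529<|d 1556<|d 277<|d 283<|c)))))<|
 d (ln (let c:=(let c:=(let c:=(a 15478<|a 2423<|a 16510<|a 1407<|a 5504<|a 1409<|a 1420<|e);
 (a 16491<|a 5228<|a 10605<|a 19566<|a 879<|a 12656<|c));
 (let c:=(a 6492<|a 34653<|a 5732<|a 9063<|a 2665<|a 1898<|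
 c);
 (a 16972<|a 7255<|a 25176<|a 1369<|a 10586<|a 13403<|c)));
 (let c:=(let c:=(a 822<|
 a 9271<|a 8248<|a 16953<|a 3642<|a 3915<|c);
 (a 2851<|a 1828<|a 1330<|a 307<|a 3124<|a 3381<|c));
 (let c:=(a 2589<|a 286<|a 799<|a 1568<|a 545<|a 2594<|c);
 (d 271<|d 1298<|d 276<|d 1813<|d 1558<|d 284<|c)))))<|d (ln (let c:=(let c:=(let c:=(a 1144<|a 639<|a 1152<|a 641<|a 1666<|a 653<|e);
 (a 2157<|a 1134<|a 1647<|a 2160<|a 2673<|
 a 2679<|c));
 (let c:=(a 2654<|a 613<|a 1640<|a 1642<|a 2411<|a 876<|c);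
 (a 2393<|a 1882<|a 1627<|a 348<|a 1117<|c)));
 (let c:=(let c:=(a 1337<|a 314<|a 587<|
 a 1612<|a 1357<|a 2392<|c);
 (a 292<|a 2085<|a 1076<|a 821<|a 567<|a 1080<|c));
 (let c:=(a 282<|a 285<|a 542<|a 289<|a 802<|a 547<|c);
 (d 272<|d 530<|d 1043<|d 1046<|d 279<|c)))))<|
 d (ln (let c:=(let c:=(let c:=(a 17016<|a 2169<|a 70784<|a 1665<|a 4738<|
 a 643<|a 1678<|e);
 (a 85101<|a 27246<|a 67695<|a 93808<|a 7793<|a 1650<|c));
 (let c:=(a 68701<|a 20062<|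
 a 142175<|a 43110<|a 12649<|a 48747<|a 26988<|c);
 (a 10573<|a 30286<|a 28249<|a 97882<|a 31835<|a 5980<|c)));
 (let c:=(let c:=(a 10039<|a 13624<|a 31289<|a 22074<|a 50747<|a 3132<|a 6732<|c);
 (a 11812<|a 12069<|a 6182<|a 6708<|a 1589<|
 a 15926<|c));
 (let c:=(a 283<|a 540<|a 2846<|a 8735<|a 1313<|a 1570<|a 1315<|c);
 (d 529<|d 274<|d 1044<|d 790<|d 3095<|d 1304<|c)))))<|
 d (ln (let c:=(let c:=(let c:=(a 14969<|a 2426<|a 27009<|a 1410<|a 13187<|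
 a 2692<|a 2959<|e);
 (a 15981<|a 34670<|a 12655<|a 68464<|a 36209<|a 6514<|a 16755<|c));
 (let c:=(a 11101<|a 28510<|a 27487<|
 a 45664<|a 19303<|a 4458<|a 27500<|c);
 (a 3917<|a 5198<|a 2127<|a 11098<|a 31067<|a 23388<|c)));
 (let c:=(let c:=(a 9015<|a 2616<|a 9273<|a 8506<|a 5435<|a 9532<|a 4669<|c);
 (a 290<|a 1572<|a 4901<|a 4646<|a 5415<|a 6453<|
 a 1334<|c));
 (let c:=(a 3097<|a 283<|a 284<|a 798<|a 543<|a 1312<|a 289<|c);
 (d 2834<|d 1043<|d 1556<|d 1301<|d 1047<|d 3864<|c)))))<|d (ln (let c:=(let c:=(let c:=(a 6004<|a 5754<|a 8066<|a 1923<|a 5508<|a 1413<|a 1424<|e);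
 (a 7790<|
 a 7535<|a 8560<|a 23921<|a 12658<|a 3955<|c));
 (let c:=(a 8543<|a 10592<|a 12385<|a 5992<|a 2411<|a 15725<|c);
 (a 1615<|a 2640<|a 2907<|a 6492<|a 5469<|a 5982<|c)));
 (let c:=(let c:=(a 3642<|
 a 2875<|a 572<|a 2365<|a 2110<|a 846<|c);
 (a 2087<|a 2856<|a 1846<|a 1335<|a 1848<|a 569<|c));
 (let c:=(a 541<|a 544<|a 801<|a 291<|a 2085<|a 1830<|c);
 (d 275<|d 277<|d 1302<|d 2841<|d 1562<|d 539<|c)))))<|d (ln (let c:=(let c:=(let c:=(a 11899<|a 4988<|a 2435<|a 2436<|a 8581<|a 3462<|a 2449<|e);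
 (a 13168<|a 369<|a 39794<|a 8051<|a 5492<|a 23925<|c));
 (let c:=(a 17761<|a 9314<|a 8553<|a 10092<|a 18286<|a 9327<|
 c);
 (a 12369<|a 1628<|a 1373<|a 13662<|a 13151<|a 7008<|c)));
 (let c:=(let c:=(a 316<|
 a 3133<|a 3646<|a 2623<|a 2895<|a 2384<|c);
 (a 4905<|a 3895<|a 824<|a 1337<|a 826<|a 2619<|c));
 (let c:=(a 291<|a 804<|a 1573<|a 1062<|a 1319<|a 1064<|c);
 (d 276<|d 1815<|d 281<|d 2330<|d 2587<|d 288<|c)))))<|d (ln (let c:=(let c:=(let c:=(a 1404<|a 2941<|a 32644<|a 4997<|a 8070<|a 4999<|a 2962<|e);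
 (a 35697<|a 20850<|a 52595<|a 46964<|a 8565<|a 9590<|c));
 (let c:=(a 7008<|a 32609<|a 19298<|a 60515<|a 22378<|
 a 37743<|a 19568<|c);
 (a 4432<|a 3665<|a 4434<|a 10077<|a 36702<|a 15711<|c)));
 (let c:=(let c:=(a 5946<|
 a 3643<|a 9276<|a 15165<|a 2878<|a 18751<|a 576<|c);
 (a 4135<|a 6952<|a 6697<|a 8490<|a 4920<|a 3897<|c));
 (let c:=(a 1567<|a 545<|a 3106<|a 4899<|a 804<|a 1062<|c);
 (d 533<|d 1815<|d 3864<|d 6939<|d 3100<|d 541<|c)))))<|d (ln (let c:=(let c:=(let c:=(let c:=(a 100487<|a 51336<|a 30867<|a 2196<|e);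
 (a 17789<|a 6782<|a 75909<|a 33926<|c));
 (a 139121<|a 68722<|a 75379<|a 313460<|
 a 125557<|a 116342<|a 269943<|c));
 (let c:=(let c:=(a 11876<|a 80491<|a 95342<|a 268400<|c);
 (a 2144<|a 165473<|a 40546<|a 224867<|c));
 (a 18752<|a 8513<|a 8017<|a 55378<|
 a 128851<|a 88926<|a 80735<|c)));
 (let c:=(let c:=(let c:=(a 20540<|a 20797<|a 59966<|a 52543<|c);
 (a 102443<|a 23609<|a 30266<|a 19771<|c));
 (a 23076<|a 3109<|a 10278<|
 a 12583<|a 33064<|a 46121<|a 35626<|c));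
 (let c:=(a 32541<|a 286<|a 2847<|a 5408<|a 6689<|a 3106<|a 2083<|c);
 (d 2582<|d 3863<|d 2584<|d 30233<|d 282<|d 5403<|d 27676<|c)))))<|d (k 2 120)<|
 d (k 3 136)<|d (l 2 120)<|d (ln (let c:=(let c:=(let c:=(let c:=(a 761098300553<|a 148016735882<|a 64650316427<|a 144450028940<|e);
 (a 655681067898<|a 752021557115<|
 a 590789155969<|a 338990540162<|c));
 (a 22995971442<|a 486986802548<|
 a 318809426805<|a 180381323638<|a 640891885687<|a 241468917112<|a 570088805497<|c));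
 (let c:=(let c:=(a 322187058278<|a 712657011303<|a 127152075368<|a 967024405615<|c);
 (a 190646302818<|a 546874490467<|
 a 366651707748<|a 772342657125<|c));
 (a 178069146690<|a 107384979779<|
 a 849111241796<|a 611191537733<|a 543440118613<|a 126171442518<|a 349947121751<|c)));
 (let c:=(let c:=(let c:=(a 22105440815<|a 572905609535<|a 350961562432<|a 72290923329<|c);
 (a 285539534102<|a 457596886295<|
 a 289357669656<|a 372975700505<|c));
 (a 36924911887<|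
 a 329185363216<|a 260424751633<|a 418019506450<|a 54925271827<|a 206411764500<|a 95244889877<|c));
 (let c:=(let c:=(a 126120831243<|a 130633878796<|a 94067102733<|a 370836870414<|c);
 (a 48218733063<|
 a 1283305736<|a 153060447241<|a 59703300106<|c));
 (d 20731698944<|d 42135263489<|d 63306585602<|d 16140308995<|d 22251706884<|d 2906357509<|d 30733394694<|c)))))<|d (ln (let c:=(let c:=(let c:=(let c:=(a 761098300298<|a 148016735627<|a 64650316172<|a 144450029197<|e);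
 (a 655681068155<|a 752021557372<|
 a 590789155714<|a 338990540419<|c));
 (a 22995971699<|a 486986802805<|
 a 318809427062<|a 180381323895<|a 640891885432<|a 241468917369<|a 570088804730<|c));
 (let c:=(let c:=(a 322187058023<|a 712657011048<|a 127152075113<|a 967024405360<|c);
 (a 190646302563<|a 546874490212<|
 a 366651708005<|a 772342656870<|c));
 (a 178069146435<|a 107384980036<|
 a 849111241541<|a 611191537478<|a 543440118870<|a 126171442775<|a 349947121496<|c)));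
 (let c:=(let c:=(let c:=(a 22105440560<|a 572905609792<|a 350961562689<|a 72290923586<|c);
 (a 285539534359<|a 457596886552<|
 a 289357669913<|a 372975700250<|c));
 (a 36924912144<|
 a 329185363473<|a 260424751378<|a 418019506707<|a 54925272084<|a 206411764757<|a 95244890134<|c));
 (let c:=(let c:=(a 126120831500<|a 130633879053<|a 94067102478<|a 370836870671<|c);
 (a 48218732808<|
 a 1283305993<|a 153060446986<|a 59703299851<|c));
 (d 20731699201<|d 42135263746<|d 63306585347<|d 16140308740<|d 22251706629<|d 2906357766<|d 30733394951<|c)))))<|d (ln (let c:=(let c:=(let c:=(let c:=(a 761098300555<|a 148016735884<|a 64650316429<|a 144450028942<|e);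
 (a 655681067900<|a 752021557117<|
 a 590789155971<|a 338990539652<|c));
 (a 22995971444<|a 486986802550<|
 a 318809426807<|a 180381323640<|a 640891885689<|a 241468917114<|a 570088804987<|c));
 (let c:=(let c:=(a 322187058280<|a 712657011305<|a 127152075370<|a 967024405617<|c);
 (a 190646302820<|a 546874490469<|
 a 366651707750<|a 772342657127<|c));
 (a 178069146692<|a 107384979781<|
 a 849111241798<|a 611191537735<|a 543440118615<|a 126171442520<|a 349947121753<|c)));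
 (let c:=(let c:=(let c:=(a 22105440817<|a 572905609537<|a 350961562434<|a 72290923331<|c);
 (a 285539534104<|a 457596886297<|
 a 289357669658<|a 372975700507<|c));
 (a 36924911889<|
 a 329185363218<|a 260424751635<|a 418019506452<|a 54925271829<|a 206411764502<|a 95244889879<|c));
 (let c:=(let c:=(a 126120831245<|a 130633878798<|a 94067102735<|a 370836870416<|c);
 (a 48218733065<|
 a 1283305738<|a 153060447243<|a 59703300108<|c));
 (d 20731698946<|d 42135263491<|d 63306585604<|d 16140308997<|d 22251706886<|d 2906357511<|d 30733394696<|c)))))<|d (ln (let c:=(let c:=(let c:=(let c:=(a 38009483660<|a 62928244365<|a 42937579662<|a 37286947215<|e);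
 (a 391811909501<|a 244321554302<|a 320035570820<|
 a 411266229637<|c));
 (a 283756080245<|a 44806772087<|
 a 22181809016<|a 527700471161<|a 84200510586<|a 143471058299<|a 268605586812<|c));
 (let c:=(let c:=(a 472195752297<|a 652009398890<|a 751194740843<|a 169391832434<|c);
 (a 215641136997<|a 705339949414<|
 a 300578317671<|a 712681062504<|c));
 (a 160207190341<|
 a 160137601350<|a 46070289735<|a 380597432904<|a 354938233688<|a 10579766361<|a 33402102362<|c)));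
 (let c:=(let c:=(let c:=(a 174871500594<|a 176371538754<|a 131357555011<|a 222628314436<|c);
 (a 107009770265<|a 230212163866<|
 a 173693076763<|a 316400866332<|c));
 (a 9646322450<|
 a 127297406739<|a 58620593684<|a 244092995349<|a 84642769686<|a 11115944215<|a 8964114968<|c));
 (let c:=(let c:=(a 55136340238<|a 180976440591<|a 107577741328<|a 205322434321<|c);
 (a 14729273866<|
 a 3782855947<|a 73601083404<|a 251650573<|c));
 (d 6740387587<|d 23376542980<|d 23146044421<|d 7076346886<|d 10602599431<|d 2962239496<|d 16391709961<|c)))))<|d (ln (let c:=(let c:=(let c:=(let c:=(a 38009484429<|a 62928244110<|a 42937579407<|a 37286947472<|e);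
 (a 391811909758<|a 244321554559<|a 320035570565<|
 a 411266229894<|c));
 (a 283756079990<|a 44806772344<|
 a 22181809273<|a 527700471418<|a 84200510331<|a 143471058556<|a 268605587069<|c));
 (let c:=(let c:=(a 472195752554<|a 652009398635<|a 751194740588<|a 169391832691<|c);
 (a 215641137254<|a 705339949671<|
 a 300578317928<|a 712681062249<|c));
 (a 160207190598<|
 a 160137601607<|a 46070289992<|a 380597432649<|a 354938233945<|a 10579766106<|a 33402102107<|c)));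
 (let c:=(let c:=(let c:=(a 174871500851<|a 176371539011<|a 131357555268<|a 222628314693<|c);
 (a 107009770522<|a 230212164123<|
 a 173693077020<|a 316400866077<|c));
 (a 9646322707<|
 a 127297406996<|a 58620593429<|a 244092995606<|a 84642769943<|a 11115944472<|a 8964114713<|c));
 (let c:=(let c:=(a 55136340495<|a 180976440848<|a 107577741073<|a 205322434578<|c);
 (a 14729273611<|
 a 3782856204<|a 73601083149<|a 251650318<|c));
 (d 6740387844<|d 23376543237<|d 23146044166<|d 7076346631<|d 10602599176<|d 2962239241<|d 16391710218<|c)))))<|d (ln (let c:=(let c:=(let c:=(let c:=(a 637960995470<|a 129422029455<|a 61908385936<|a 115923979665<|e);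
 (a 594212840831<|a 712361146240<|a 547035115654<|
 a 355638776711<|c));
 (a 7904856183<|a 385687334777<|a 281692317562<|
 a 296971490683<|a 582978775164<|a 299294421885<|a 396221077630<|c));
 (let c:=(let c:=(a 165493183083<|a 662970807916<|a 297639195757<|a 749697327732<|c);
 (a 110546752615<|a 310471877224<|a 393789690217<|
 a 739366084714<|c));
 (a 123633100871<|a 126351346504<|
 a 692601310281<|a 564726933066<|a 524383004506<|a 91219771227<|a 296853443676<|c)));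
 (let c:=(let c:=(let c:=(a 2228673844<|a 509023579972<|a 309486642501<|a 94295293254<|c);
 (a 252355557147<|a 415922410780<|
 a 264298828573<|a 357424334878<|c));
 (a 30107423508<|
 a 294670145813<|a 231621046806<|a 377306222359<|a 56450526488<|a 178686690585<|a 81071057690<|c));
 (let c:=(let c:=(a 108819933456<|a 138097114897<|a 95700576274<|a 338851836179<|c);
 (a 40105602060<|
 a 1851952909<|a 137445284878<|a 55241936911<|c));
 (d 17108333829<|d 38051026694<|d 54239668231<|d 14091800072<|d 19660937737<|d 1148998410<|d 27644068619<|c)))))<|e))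

/-- the program, part 6 -/
def ops6 : List Sz.Op := (beta% delta% lq265bee135d fun a _ d e _ _ _ _ _ _ _ =>
 (d (ln (let c:=(let c:=(let c:=(let c:=(a 637960995215<|a 129422029200<|a 61908385681<|a 115923979922<|e);
 (a 594212841600<|a 712361146497<|a 547035115399<|
 a 355638776968<|c));
 (a 7904855928<|a 385687335034<|a 281692317819<|
 a 296971490940<|a 582978774909<|a 299294422142<|a 396221077375<|c));
 (let c:=(let c:=(a 165493182828<|a 662970807661<|a 297639195502<|a 749697327477<|c);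
 (a 110546752360<|a 310471876969<|a 393789690474<|
 a 739366084459<|c));
 (a 123633100616<|a 126351346761<|
 a 692601310026<|a 564726932811<|a 524383004763<|a 91219771484<|a 296853443421<|c)));
 (let c:=(let c:=(let c:=(a 2228674101<|a 509023580229<|a 309486642758<|a 94295293511<|c);
 (a 252355557404<|a 415922411037<|
 a 264298828830<|a 357424334623<|c));
 (a 30107423765<|
 a 294670146070<|a 231621046551<|a 377306222616<|a 56450526745<|a 178686690842<|a 81071057947<|c));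
 (let c:=(let c:=(a 108819933713<|a 138097115154<|a 95700576019<|a 338851836436<|c);
 (a 40105601805<|
 a 1851953166<|a 137445284623<|a 55241936656<|c));
 (d 17108334086<|d 38051026951<|d 54239667976<|d 14091799817<|d 19660937482<|d 1148998667<|d 27644068876<|c)))))<|d (ln (let c:=(let c:=(let c:=(let c:=(a 329423485840<|a 85540925841<|a 19439220114<|a 122127630995<|e);
 (a 347219989633<|a 85426103938<|a 226601325448<|a 67969576073<|
 c));
 (a 45822146937<|a 381482633851<|a 87347159676<|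
 a 323150698365<|a 113964085118<|a 306114627455<|a 514662501760<|c));
 (let c:=(let c:=(a 376388325741<|a 446948217710<|a 432123776111<|a 659803116918<|c);
 (a 200362409833<|a 548408992106<|a 78862398315<|
 a 376302115692<|c));
 (a 106855044937<|a 30861465418<|
 a 467952797003<|a 276307290956<|a 137621596252<|a 129858632797<|a 168884019550<|c)));
 (let c:=(let c:=(let c:=(a 2937755190<|a 239445192262<|a 175970220103<|a 11619955784<|c);
 (a 140252253725<|a 204802891806<|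
 a 142654552607<|a 159848088864<|c));
 (a 28745366038<|
 a 144351853079<|a 92159638296<|a 225501480473<|a 30208838682<|a 74126488091<|a 31558318108<|c));
 (let c:=(let c:=(a 81819463698<|a 36639447571<|a 30263577876<|a 169761412117<|c);
 (a 34810246926<|
 a 873701647<|a 75095385360<|a 156244241<|c));
 (d 15986020359<|d 21746552328<|d 39890196745<|d 9593517834<|d 12574741771<|d 6175571980<|d 15984437261<|c)))))<|
 d (ln (let c:=(let c:=(let c:=(let c:=(a 336997244817<|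
 a 30619979154<|a 32677088147<|a 12961547668<|e);
 (a 158411822210<|a 581588236931<|a 249878045577<|a 187097777290<|c));
 (a 114139816058<|a 3077167740<|a 196439992957<|a 486660821630<|
 a 463062779263<|a 575501757056<|a 34901180545<|c));
 (let c:=(let c:=(a 79099107950<|a 59293559151<|a 536166126448<|a 156822151543<|c);
 (a 28632835690<|a 39241352811<|a 403052983404<|a 192219865453<|
 c));
 (a 63444329290<|a 117727194699<|a 256794905932<|
 a 202039930189<|a 306189129821<|a 33217615198<|a 127444836703<|c)));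
 (let c:=(let c:=(let c:=(a 47748717879<|a 236620297799<|a 106967621192<|a 25417720905<|c);
 (a 90483455518<|a 160994476063<|a 82405599264<|
 a 122571022625<|c));
 (a 381700887<|a 124449744408<|
 a 130298538265<|a 96821195290<|a 5054638619<|a 106677217308<|a 54247077405<|c));
 (let c:=(let c:=(a 15246856211<|a 56669302292<|a 39201653013<|a 123466293270<|c);
 (a 2467677967<|a 1760369168<|
 a 46449132817<|a 56607378706<|c));
 (d 207522056<|d 11093847049<|d 9659304714<|d 2993775883<|d 4790899468<|d 4198148365<|d 8033317390<|c)))))<|d (ln (let c:=(let c:=(let c:=(let c:=(a 336997245074<|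
 a 30619979411<|a 32677088404<|a 12961547925<|e);
 (a 158411821955<|a 581588236164<|a 249878045834<|a 187097777035<|c));
 (a 114139815803<|a 3077167485<|a 196439992702<|a 486660821375<|
 a 463062779520<|a 575501756801<|a 34901180290<|c));
 (let c:=(let c:=(a 79099107695<|a 59293559408<|a 536166126705<|a 156822151800<|c);
 (a 28632835435<|a 39241352556<|a 403052983149<|a 192219865710<|
 c));
 (a 63444329547<|a 117727194444<|a 256794906189<|
 a 202039930446<|a 306189129566<|a 33217615455<|a 127444836960<|c)));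
 (let c:=(let c:=(let c:=(a 47748718136<|a 236620297544<|a 106967620937<|a 25417720650<|c);
 (a 90483455263<|a 160994475808<|a 82405599009<|
 a 122571022882<|c));
 (a 381701144<|a 124449744153<|
 a 130298538522<|a 96821195035<|a 5054638364<|a 106677217053<|a 54247077150<|c));
 (let c:=(let c:=(a 15246855956<|a 56669302037<|a 39201653270<|a 123466293015<|c);
 (a 2467678224<|a 1760368913<|
 a 46449133074<|a 56607378963<|c));
 (d 207522313<|d 11093846794<|d 9659304971<|d 2993776140<|d 4790899725<|d 4198148622<|d 8033317135<|c)))))<|d (ln (let c:=(let c:=(let c:=(let c:=(a 848043351443<|a 137398833556<|a 65826917269<|a 119422580374<|e);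
 (a 599093073028<|
 a 898471090309<|a 592630773131<|a 319874823820<|c));
 (a 120253097596<|
 a 437183017086<|a 372943334015<|a 286984821888<|a 772836622721<|a 448199166082<|a 550422708611<|c));
 (let c:=(let c:=(a 340415649648<|a 562367929713<|a 221587633522<|a 979122477945<|c);
 (a 198386846060<|a 602958624109<|
 a 459197066862<|a 664688835439<|c));
 (a 217827967820<|a 121869604941<|
 a 894337668942<|a 579695494991<|a 568224054879<|a 102149996128<|a 369022613345<|c)));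
 (let c:=(let c:=(let c:=(a 71400049465<|a 595376191561<|a 343987464778<|a 38493338699<|c);
 (a 281361094176<|a 447768211489<|
 a 269745088034<|a 338874110243<|c));
 (a 31796602393<|
 a 332542701082<|a 284368899355<|a 381094756892<|a 37603020829<|a 233004110878<|a 112163562015<|c));
 (let c:=(let c:=(a 112042499605<|a 112588878870<|a 84303315735<|a 356545045528<|c);
 (a 42457167633<|
 a 1288337426<|a 147106809107<|a 79232456980<|c));
 (d 17626137098<|d 39212653579<|d 57906158348<|d 14793601805<|d 20540311822<|d 1313859599<|d 28689991696<|c)))))<|d (ln (let c:=(let c:=(let c:=(let c:=(a 447385057940<|a 148620968085<|a 75852538518<|a 129186851735<|e);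
 (a 749807706501<|a 651568341894<|
 a 637936580748<|a 550382094733<|c));
 (a 230596203133<|a 364009338751<|
 a 213633641344<|a 511382776193<|a 455698100866<|a 225593494915<|a 163896820868<|c));
 (let c:=(let c:=(a 167038701937<|a 1013172182642<|a 655973099635<|a 494283307130<|c);
 (a 47771363181<|a 213040142702<|a 456461358959<|
 a 1090713916016<|c));
 (a 19181138765<|a 193444971854<|
 a 507573384271<|a 706421236816<|a 629606183776<|a 79209634145<|a 250499822690<|c)));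
 (let c:=(let c:=(let c:=(a 134601985338<|a 508198680906<|a 334294600011<|a 230528385356<|c);
 (a 271760858913<|a 482614812450<|
 a 330340427555<|a 500857108516<|c));
 (a 32835805978<|
 a 314615306523<|a 210966519836<|a 473708646173<|a 106527090462<|a 137604805919<|a 51337052960<|c));
 (let c:=(let c:=(a 128937637654<|a 232212992791<|a 148530873880<|a 407324635417<|c);
 (a 44359413778<|
 a 3825938195<|a 159324218900<|a 34863863317<|c));
 (d 19532232971<|d 46603246860<|d 60774977037<|d 16417073678<|d 23270763023<|d 96273936<|d 33452023569<|c)))))<|d (ln (let c:=(let c:=(let c:=(let c:=(a 318883350421<|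
 a 40820638102<|a 21741401495<|a 29693139608<|e);
 (a 171817923206<|a 353557650567<|a 193589940621<|a 92265071246<|c));
 (a 83260055678<|a 126586213504<|a 145659739777<|a 127690460802<|
 a 308778125187<|a 227677340292<|a 182082345861<|c));
 (let c:=(let c:=(a 130073424242<|a 118398588787<|a 96874358644<|a 336360571771<|c);
 (a 73578770798<|a 237153963887<|a 184268649072<|a 168091448177<|
 c));
 (a 91453878094<|a 43508197967<|a 318428759888<|
 a 175224819537<|a 193624824929<|a 25179246178<|a 130573501795<|c)));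
 (let c:=(let c:=(let c:=(a 46285347131<|a 205169302603<|a 110270626892<|a 4308741965<|c);
 (a 90793101858<|a 142144748579<|a 79682076196<|
 a 94611508005<|c));
 (a 8505033243<|a 110502765084<|
 a 103583011613<|a 109033678878<|a 4338127391<|a 88258735648<|a 44345701921<|c));
 (let c:=(let c:=(a 31119563799<|a 27422413848<|a 22503607577<|a 110274406426<|c);
 (a 11742225171<|a 363694612<|
 a 45683220757<|a 34134399254<|c));
 (d 4587079180<|d 11590573069<|d 16908571918<|d 4310794511<|d 6032163088<|d 119959313<|d 8530249234<|c)))))<|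
 d (ln (let c:=(let c:=(let c:=(let c:=(a 419372570774<|
 a 8083146903<|a 15770786968<|a 24592363673<|e);
 (a 714217863<|a 528731917704<|a 130623954062<|a 2050041743<|c));
 (a 269683317631<|a 8568637313<|a 213930601346<|a 247087951747<|
 a 481095580292<|a 544880986501<|a 137222439046<|c));
 (let c:=(let c:=(a 182433597555<|a 236137641332<|a 179295528053<|a 310561741948<|c);
 (a 93762099823<|a 359416913520<|a 288741206897<|a 124435404146<|
 c));
 (a 160952470607<|a 46566746960<|a 344383139409<|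
 a 49854945362<|a 168852084578<|a 21982005859<|a 137306330212<|c)));
 (let c:=(let c:=(let c:=(a 142893657148<|a 190662054220<|a 64651179341<|a 85279799374<|c);
 (a 56163459363<|a 76156174628<|a 13056283941<|
 a 14289712934<|c));
 (a 3261631004<|a 83882754333<|
 a 121853623326<|a 956705311<|a 35653973536<|a 118625150753<|a 67384474914<|c));
 (let c:=(let c:=(a 5315190808<|a 27195296793<|a 9393131290<|a 44548734235<|c);
 (a 2252048660<|a 47916565<|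
 a 19462065686<|a 62956983831<|c));
 (d 2515933197<|d 1948964622<|d 1809124367<|d 406238736<|d 815928849<|d 2698687506<|d 1704283923<|c)))))<|d (ln (let c:=(let c:=(let c:=(let c:=(a 419372570519<|
 a 8083146648<|a 15770786713<|a 24592363418<|e);
 (a 714218120<|a 528731917961<|a 130623953807<|a 2050042000<|c));
 (a 269683317888<|a 8568637570<|a 213930601603<|a 247087952004<|
 a 481095580037<|a 544880987270<|a 137222438791<|c));
 (let c:=(let c:=(a 182433597300<|a 236137641589<|a 179295527798<|a 310561741693<|c);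
 (a 93762099568<|a 359416913265<|a 288741207154<|a 124435404403<|
 c));
 (a 160952470352<|a 46566747217<|a 344383139154<|
 a 49854945107<|a 168852084835<|a 21982005604<|a 137306329957<|c)));
 (let c:=(let c:=(let c:=(a 142893656893<|a 190662054477<|a 64651179598<|a 85279799119<|c);
 (a 56163459620<|a 76156174885<|a 13056284198<|
 a 14289713191<|c));
 (a 3261630749<|a 83882754590<|
 a 121853623071<|a 956705056<|a 35653973281<|a 118625151010<|a 67384475171<|c));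
 (let c:=(let c:=(a 5315190553<|a 27195296538<|a 9393131547<|a 44548734492<|c);
 (a 2252048917<|a 47916310<|
 a 19462065431<|a 62956983576<|c));
 (d 2515932942<|d 1948964879<|d 1809124112<|d 406238481<|d 815928594<|d 2698687251<|d 1704284180<|c)))))<|d (ln (let c:=(let c:=(let c:=(let c:=(a 90355837336<|a 40411793561<|a 24350160538<|a 31824532379<|e);
 (a 254561787273<|a 56116116362<|a 181830144656<|a 256922128785<|
 c));
 (a 227612716673<|a 39104454531<|a 23048503428<|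
 a 270334436741<|a 33346144134<|a 22672087175<|a 174625872776<|c));
 (let c:=(let c:=(a 313943930741<|a 463290403958<|a 417820188279<|a 140410882942<|c);
 (a 144349038961<|a 485571838322<|a 130038266227<|
 a 477757674100<|c));
 (a 125630747473<|a 89592651090<|
 a 76727165779<|a 236074778708<|a 193354135908<|a 1921783141<|a 909633638<|c)));
 (let c:=(let c:=(let c:=(a 135083953470<|a 82029184334<|a 75389000015<|a 154281485136<|c);
 (a 60660606245<|a 135520841510<|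
 a 110099855655<|a 204248943656<|c));
 (a 7560455454<|
 a 68226907935<|a 16820578848<|a 159159782689<|a 60131048738<|a 12644754467<|a 17013209124<|c));
 (let c:=(let c:=(a 37944598298<|a 118507556123<|a 69472926236<|a 124776146717<|c);
 (a 10729786902<|
 a 2324853527<|a 44560982040<|a 11539300121<|c));
 (d 5188105999<|d 14868423440<|d 15365738001<|d 4636911122<|d 6848119827<|d 1126086164<|d 10387939093<|c)))))<|d (ln (let c:=(let c:=(let c:=(let c:=(a 370073195417<|a 101576889242<|a 49557860763<|a 91642929308<|e);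
 (a 493716216970<|a 465405175435<|a 426539429265<|
 a 332945648274<|c));
 (a 106028559746<|a 274575870596<|a 167444041861<|
 a 280870961798<|a 349004411271<|a 156302467720<|a 195902535561<|c));
 (let c:=(let c:=(a 13532715126<|a 631859377015<|a 339062555000<|a 435365706623<|c);
 (a 16412310898<|a 10558369139<|a 293096531060<|
 a 680951562101<|c));
 (a 27288462162<|a 114470436435<|
 a 417219066196<|a 463667044693<|a 412664121445<|a 63990766694<|a 191686518119<|c)));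
 (let c:=(let c:=(let c:=(a 60056109631<|a 360739995215<|a 232090476624<|a 125248660049<|c);
 (a 188713520678<|a 324949836839<|
 a 217583175208<|a 316375378729<|c));
 (a 23328921631<|
 a 218138066464<|a 154320796449<|a 312702307362<|a 62321974307<|a 108121962532<|a 44053595685<|c));
 (let c:=(let c:=(a 87680973851<|a 137980830748<|a 90411833117<|a 271124552734<|c);
 (a 31166036759<|
 a 2092479512<|a 107702216985<|a 28843112218<|c));
 (d 13623381008<|d 30967499793<|d 42116385042<|d 11178227987<|d 15714501396<|d 562477589<|d 22328947222<|c)))))<|d (ln (let c:=(let c:=(let c:=(let c:=(a 1047815352730<|a 154964327835<|a 99625117084<|a 81265665693<|e);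
 (a 732789841035<|a 1454249877644<|
 a 826719195026<|a 564283466899<|c));
 (a 170297480323<|a 340571740805<|
 a 529816768134<|a 940702539399<|a 1176501108616<|a 1087757724297<|a 308496475530<|c));
 (let c:=(let c:=(a 51205327735<|a 638558929784<|a 1003147172217<|a 891082099072<|c);
 (a 64859624307<|a 245976055156<|a 914584058485<|
 a 894979748214<|c));
 (a 206986054483<|a 273937743956<|
 a 980161444693<|a 770475254614<|a 886725090406<|a 32413523047<|a 442918289256<|c)));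
 (let c:=(let c:=(let c:=(a 74618823488<|a 780464289872<|a 420158970961<|a 109741402194<|c);
 (a 347315898919<|a 587243615272<|
 a 343223829545<|a 476712080682<|c));
 (a 25420660768<|
 a 432610344993<|a 388771981090<|a 460060513315<|a 53119174692<|a 310296694821<|a 149839130662<|c));
 (let c:=(let c:=(a 115028469276<|a 195098852381<|a 135873983774<|a 466536768543<|c);
 (a 38081724184<|
 a 4003298329<|a 184408720666<|a 130210876187<|c));
 (d 14404145169<|d 48371640850<|d 60498415891<|d 16371570964<|d 23697306901<|d 4931141910<|d 35129508375<|c)))))<|d (ln (let c:=(let c:=(let c:=(let c:=(a 948131145627<|a 106981497244<|a 57783942557<|a 73920735902<|e);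
 (a 431554696844<|a 1030821558413<|
 a 519597153683<|a 210653169812<|c));
 (a 301897606788<|a 345134624390<|
 a 432408465543<|a 334419615368<|a 917039864201<|a 697481675402<|a 551521630603<|c));
 (let c:=(let c:=(a 437081283960<|a 219497936761<|a 215133190522<|a 993077933953<|c);
 (a 240287177588<|a 784584097653<|a 520908287606<|
 a 367471747447<|c));
 (a 294197416788<|a 110110916693<|
 a 935923063126<|a 449868676951<|a 522005326951<|a 66991277160<|a 377605961065<|c)));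
 (let c:=(let c:=(let c:=(a 168542483777<|a 576209135697<|a 299845378130<|a 48962762579<|c);
 (a 247466170920<|a 378913380393<|
 a 202993666602<|a 224623765291<|c));
 (a 21878920737<|
 a 303945724450<|a 298174323491<|a 274120798756<|a 2669092133<|a 260520832038<|a 133671307815<|c));
 (let c:=(let c:=(a 78987752989<|a 51984696350<|a 49047489311<|a 288826802720<|c);
 (a 30411077913<|
 a 591758874<|a 121028387099<|a 103878020380<|c));
 (d 11517429778<|d 29736132115<|d 44381397268<|d 11181320981<|d 15610717974<|d 440555287<|d 22013631000<|c)))))<|d (ln (let c:=(let c:=(let c:=(let c:=(a 1013693365404<|a 75863662237<|a 98664425118<|a 71691584159<|e);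
 (a 410723618701<|
 a 1843266115470<|a 737110979732<|a 566000312725<|c));
 (a 393729131397<|
 a 79610070663<|a 612444309384<|a 1615326820745<|a 1463000002698<|a 1918455161739<|a 215820383628<|c));
 (let c:=(let c:=(a 315933093753<|a 54385014394<|a 1787978167931<|a 364102800002<|c);
 (a 126626844021<|a 214248975222<|
 a 1301965857143<|a 496018502264<|c));
 (a 188757042261<|a 378221365078<|
 a 723799514199<|a 568235093592<|a 937198134120<|a 136238415465<|a 370688861802<|c)));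
 (let c:=(let c:=(let c:=(a 163996698690<|a 699074138962<|a 297803406163<|a 67459019092<|c);
 (a 254094087977<|a 460201142058<|
 a 223937319211<|a 341948997164<|c));
 (a 8311920674<|
 a 361628092707<|a 396075798052<|a 247753943333<|a 4890175270<|a 326541283111<|a 168232352552<|c));
 (let c:=(let c:=(a 27545997086<|a 164759780639<|a 113789983776<|a 348492637985<|c);
 (a 778186522<|
 a 5675695899<|a 128734944284<|a 182527389725<|c));
 (d 4680478227<|d 29567279892<|d 20807951893<|d 7087117846<|d 12014409751<|d 14793206808<|d 21384730393<|c)))))<|d (ln (let c:=(let c:=(let c:=(let c:=(a 435984408221<|a 86668144286<|a 45198240415<|a 69849779616<|e);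
 (a 407215116174<|a 538151586191<|a 389349663893<|
 a 269761618838<|c));
 (a 3723531398<|a 235020677000<|a 202706994569<|
 a 290655946122<|a 431120097931<|a 282710249356<|a 215694961805<|c));
 (let c:=(let c:=(a 57210076794<|a 448492430971<|a 313013139068<|a 465543825539<|c);
 (a 48360910454<|a 136356912759<|a 321078411128<|
 a 519865930873<|c));
 (a 74700198486<|a 105080997207<|
 a 455217629784<|a 395926930521<|a 387101014889<|a 48727710058<|a 201246301291<|c)));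
 (let c:=(let c:=(let c:=(a 4396032835<|a 355428753235<|a 211573014356<|a 74625433941<|c);
 (a 173043246890<|a 290482186027<|
 a 183039148844<|a 254409374253<|c));
 (a 18626205987<|
 a 205273377572<|a 164083227173<|a 257662357286<|a 39996917031<|a 125472247592<|a 57012765993<|c));
 (let c:=(let c:=(a 71295554335<|a 103461341984<|a 70579573281<|a 236501919010<|c);
 (a 25414312475<|
 a 1634987804<|a 94736124445<|a 42450987550<|c));
 (d 10663883540<|d 26125174037<|d 35603426838<|d 9395032599<|d 13253535256<|d 179033113<|d 18938928410<|c)))))<|d (ln (let c:=(let c:=(let c:=(let c:=(a 312840776606<|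
 a 4492167583<|a 21413713312<|a 40979891617<|e);
 (a 22428184719<|a 541790792848<|a 153751905686<|a 90797910167<|c));
 (a 192983766663<|a 65538673033<|a 188070618762<|a 438618013835<|
 a 449983862668<|a 618726485133<|a 53025838222<|c));
 (let c:=(let c:=(a 31043821691<|a 157530718332<|a 455418709373<|a 103342552452<|c);
 (a 10656420983<|a 38731865976<|a 366094182009<|a 21027583098<|
 c));
 (a 87601905495<|a 91319050328<|a 209174637401<|
 a 81765019482<|a 218474658410<|a 52342274923<|a 100429507948<|c)));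
 (let c:=(let c:=(let c:=(a 91300202820<|a 171227808340<|a 55048169557<|a 26779559766<|c);
 (a 48834650667<|a 84483929644<|a 24476604461<|
 a 30925242670<|c));
 (a 7040706340<|a 79214191141<|
 a 109308605222<|a 10603197991<|a 18974512424<|a 98264635433<|a 54304447018<|c));
 (let c:=(let c:=(a 9295178016<|a 11937523745<|a 11598744866<|a 56161675811<|c);
 (a 6153127452<|a 1105948189<|
 a 20257060638<|a 59449392927<|c));
 (d 4230220565<|d 2907904534<|d 1322978839<|d 36379928<|d 650844441<|d 4671486234<|d 2193891355<|c)))))<|d (ln (let c:=(let c:=(let c:=(let c:=(a 620527141791<|a 133636740000<|a 97634719649<|a 51958639778<|e);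
 (a 719344193168<|a 1189659029649<|
 a 764595477399<|a 692285343896<|c));
 (a 82434670984<|a 169175728778<|
 a 367118212747<|a 1154935640204<|a 863882424717<|a 962390900366<|a 128325340815<|c));
 (let c:=(let c:=(a 426500942460<|a 822735043965<|a 1398924335486<|a 318590620549<|c);
 (a 173339065464<|a 513476867705<|a 896428460154<|
 a 1069572313467<|c));
 (a 4930059864<|a 323738611801<|
 a 528266932570<|a 757081118555<|a 858124129899<|a 21052883820<|a 291665767789<|c)));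
 (let c:=(let c:=(let c:=(a 79238318149<|a 619262272085<|a 348001920086<|a 243393859671<|c);
 (a 287914716204<|a 533173891629<|
 a 334993357870<|a 532941135151<|c));
 (a 17337751589<|
 a 362466340902<|a 293774817575<|a 448102800936<|a 93456166953<|a 207230472746<|a 90358834731<|c));
 (let c:=(let c:=(a 100525534241<|a 265169131042<|a 169342227747<|a 438660974116<|c);
 (a 28467536157<|
 a 5943467038<|a 165440342815<|a 92172526368<|c));
 (d 10875430934<|d 45920238615<|d 49295965976<|d 14289554713<|d 21319743258<|d 7442909979<|d 32851853340<|c)))))<|d (ln (let c:=(let c:=(let c:=(let c:=(a 145844342688<|a 47883838625<|a 2299912610<|a 101800607651<|e);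
 (a 217779472273<|a 414209226898<|a 25974063768<|a 29468248473<|
 c));
 (a 256939160713<|a 245700732811<|a 129713635468<|
 a 450218252429<|a 347951437198<|a 686339984015<|a 232771495568<|c));
 (let c:=(let c:=(a 107850309757<|a 482783017598<|a 471315641727<|a 174539117190<|c);
 (a 59119896697<|a 75792177274<|a 315754730619<|a 335737866876<|
 c));
 (a 64044727641<|a 66873558618<|a 12584803419<|
 a 127792819804<|a 68107891820<|a 106321907565<|a 8573086574<|c)));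
 (let c:=(let c:=(let c:=(a 121047828806<|a 13073726550<|a 56398373207<|a 74768966488<|c);
 (a 40813702957<|a 62184986414<|a 77864552751<|
 a 108383781936<|c));
 (a 21719148326<|a 18588466471<|
 a 47145454376<|a 143036226857<|a 48477588266<|a 54729559595<|a 37608325164<|c));
 (let c:=(let c:=(a 57395562786<|a 42058277155<|a 24737173540<|a 67310135589<|c);
 (a 24710683166<|a 671401503<|
 a 30580780064<|a 55018128673<|c));
 (d 12645907735<|d 12012563736<|d 24258591257<|d 5807551514<|d 7318549531<|d 6588053788<|d 8618915101<|c)))))<|d (ln (let c:=(let c:=(let c:=(let c:=(a 831506358945<|a 195608513698<|a 115662254755<|a 132977209252<|e);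
 (a 987626654098<|
 a 1285556911507<|a 950602719897<|a 787531599258<|c));
 (a 141824103562<|
 a 414884455820<|a 429317483405<|a 1024274833806<|a 956296581263<|a 799621554064<|a 163796837521<|c));
 (let c:=(let c:=(a 246337249662<|a 1181972580479<|a 1226862902400<|a 718225735815<|c);
 (a 72944606586<|a 251233782651<|
 a 891224246140<|a 1394469241981<|c));
 (a 45156224090<|
 a 325741531995<|a 823738653276<|a 980378913373<|a 993445988717<|a 58772517230<|a 404956237935<|c)));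
 (let c:=(let c:=(let c:=(a 100419075911<|a 796264338775<|a 476731082584<|a 277327091033<|c);
 (a 390906756910<|
 a 692881443631<|a 447105415472<|a 673500388913<|c));
 (a 36570899239<|
 a 471201965352<|a 361729355305<|a 620985827114<|a 122503229227<|a 257720099116<|a 110458383661<|c));
 (let c:=(let c:=(a 158884360483<|a 310726720292<|a 201897521701<|a 572505565478<|c);
 (a 52182880287<|
 a 5875902752<|a 222444699169<|a 93615253026<|c));
 (d 21732380952<|d 62614221081<|d 77363336730<|d 21231742491<|d 30594502684<|d 3994958877<|d 45027243294<|c)))))<|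
 d (ln (let c:=(let c:=(let c:=(let c:=(a 364833007778<|a 118749436579<|a 34135511716<|a 156870951333<|e);
 (a 520285392787<|a 145368599956<|
 a 351371437210<|a 192271990683<|c));
 (a 142996519051<|a 466962424205<|
 a 101060042126<|a 253441243279<|a 138148058768<|a 349815867025<|a 535583846034<|c));
 (let c:=(let c:=(a 313574383743<|a 719825917056<|a 320110330753<|a 728184679048<|c);
 (a 176731899515<|a 448185635964<|a 25166803069<|
 a 647152027262<|c));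
 (a 77269316187<|a 4498335068<|
 a 531168032861<|a 430528221278<|a 252998705518<|a 153035446127<|a 204674071664<|c)));
 (let c:=(let c:=(let c:=(a 56935228232<|a 325260940120<|a 242742162777<|a 77745190234<|c);
 (a 193898558255<|a 303395828528<|
 a 216651539761<|a 276944741426<|c));
 (a 37050024744<|
 a 203090615593<|a 120606079530<|a 335154529067<|a 60472372012<|a 86375376173<|a 32344462126<|c));
 (let c:=(let c:=(a 112775137572<|a 93843112741<|a 65616506406<|a 256203698983<|c);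
 (a 45618770976<|
 a 17176097<|a 108684679202<|a 2443665187<|c));
 (d 21006721817<|d 32189546778<|d 53783305755<|d 13344438300<|d 17838170653<|d 6683398430<|d 23434807583<|c)))))<|d (ln (let c:=(let c:=(let c:=(let c:=(a 227152980131<|
 a 34843267236<|a 15466859685<|a 32533438374<|e);
 (a 146068160916<|a 220148242837<|a 143726143131<|a 65616245148<|c));
 (a 41271188364<|a 120980248974<|a 96416247695<|a 39982805392<|
 a 196050750097<|a 97940356498<|a 167368262803<|c));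
 (let c:=(let c:=(a 118493029504<|a 128696131201<|a 10359550082<|a 276434991753<|c);
 (a 65899082876<|a 200532807293<|a 101113639806<|a 149831153279<|
 c));
 (a 65512276572<|a 23068556637<|a 243596162142<|
 a 139401558623<|a 133238653295<|a 30451409776<|a 97499703409<|c)));
 (let c:=(let c:=(let c:=(a 25541624393<|a 151002085721<|a 87159060314<|a 561209691<|c);
 (a 71193891632<|a 110147096881<|a 65455350578<|
 a 77400490035<|c));
 (a 8555778857<|a 83436774698<|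
 a 72526955563<|a 93283370284<|a 6850963757<|a 60970056494<|a 29835638063<|c));
 (let c:=(let c:=(a 28627712805<|a 21937737510<|a 17715973159<|a 86970618152<|c);
 (a 11232631329<|a 136829218<|
 a 36519616035<|a 20097704996<|c));
 (d 4684538138<|d 9627406619<|d 14950199324<|d 3750645789<|d 5150788638<|d 654648607<|d 7076813088<|c)))))<|d (ln (let c:=(let c:=(let c:=(let c:=(a 597429841060<|a 93413143205<|a 38528875174<|a 93422186919<|e);
 (a 385178917269<|a 538376155030<|a 366938136220<|a 152703720861<|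
 c));
 (a 105890914189<|a 341824417167<|a 245427467664<|
 a 35973489041<|a 489443643538<|a 194458921875<|a 484083914388<|c));
 (let c:=(let c:=(a 355213792897<|a 345349579906<|a 58819468163<|a 764715283594<|c);
 (a 194585024125<|a 586253437054<|a 224951975295<|
 a 385574781568<|c));
 (a 179610358365<|a 46126806366<|
 a 655448000607<|a 360346554976<|a 328697340272<|a 91186452337<|a 257989412978<|c)));
 (let c:=(let c:=(let c:=(a 68732763210<|a 391904562522<|a 229855508827<|a 5812149852<|c);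
 (a 187320779057<|a 285750111026<|
 a 171034352947<|a 196807608372<|c));
 (a 24146477866<|
 a 216917712683<|a 186346437676<|a 246701895981<|a 17257393454<|a 157711643951<|a 77137265968<|c));
 (let c:=(let c:=(a 78081341734<|a 51130673959<|a 42876511784<|a 225731173161<|c);
 (a 31248960546<|
 a 75722531<|a 95760802340<|a 49036195365<|c));
 (d 13195558171<|d 25337838364<|d 40635431453<|d 10092511262<|d 13749506079<|d 2496434976<|d 18655756577<|c)))))<|d (ln (let c:=(let c:=(let c:=(let c:=(a 857836113573<|a 195868930214<|a 93655842471<|a 177683276712<|e);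
 (a 919384061846<|
 a 988839440791<|a 820566553757<|a 574853361566<|c));
 (a 93108893838<|
 a 566041079184<|a 379807462289<|a 467969841554<|a 785483853459<|a 371266652052<|a 517403273877<|c));
 (let c:=(let c:=(a 146143952514<|a 1092626500739<|a 510846953604<|a 1018744810635<|c);
 (a 115995491454<|a 296893583999<|
 a 570441296768<|a 1195009295489<|c));
 (a 132431023710<|a 199114081631<|
 a 947790165088<|a 867311753313<|a 786606740849<|a 134612696946<|a 415293682803<|c)));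
 (let c:=(let c:=(let c:=(a 49930654027<|a 735786518875<|a 458681514844<|a 181662748509<|c);
 (a 373461952306<|a 625632932147<|
 a 406878922036<|a 566642602037<|c));
 (a 45658557739<|
 a 433581766956<|a 326334370349<|a 583337719598<|a 99534351663<|a 243150935856<|a 106251391793<|c));
 (let c:=(let c:=(a 166875945767<|a 230541280552<|a 155793892393<|a 514907363626<|c);
 (a 60761496611<|
 a 3233275684<|a 207280598565<|a 70657667110<|c));
 (d 26224629020<|d 58338386205<|d 81877586462<|d 21431583775<|d 29965465120<|d 1672530721<|d 42255094562<|c)))))<|d (ln (let c:=(let c:=(let c:=(let c:=(a 594946034342<|a 62185889959<|a 61549581992<|a 14739141801<|e);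
 (a 324422604183<|a 1038075868056<|a 472690207390<|a 366145398175<|
 c));
 (a 170829663631<|a 23174690705<|a 347146130322<|a 884365104019<|
 a 817971298452<|a 1004122680213<|a 67127363478<|c));
 (let c:=(let c:=(a 167839689603<|a 179498119300<|a 987291539077<|a 280998868620<|c);
 (a 62589157247<|a 113833441664<|a 726588788609<|a 413971579010<|
 c));
 (a 99470056543<|a 218633174368<|a 459550745185<|
 a 396792043618<|a 570752430450<|a 54147494515<|a 230998936692<|c)));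
 (let c:=(let c:=(let c:=(a 66855439436<|a 436794848604<|a 204658563933<|a 65238085470<|c);
 (a 172432104755<|a 308878341428<|a 164618726197<|
 a 248343768118<|c));
 (a 1257585964<|a 233582792493<|
 a 235546473518<|a 199189776687<|a 17704441648<|a 189389604145<|a 94736856370<|c));
 (let c:=(let c:=(a 34570703656<|a 116688911145<|a 79269371946<|a 239992429355<|c);
 (a 6904992292<|a 3382733093<|
 a 90353254950<|a 98571516455<|c));
 (d 834792221<|d 22252273438<|d 20384204319<|d 6209502752<|d 9770713633<|d 7360520226<|d 16072388387<|c)))))<|d (ln (let c:=(let c:=(let c:=(let c:=(a 63404145575<|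
 a 5772395944<|a 12869683625<|a 16076685738<|e);
 (a 49513745048<|a 206184273561<|a 87355845023<|a 97401961632<|c));
 (a 12375277712<|a 43768903570<|a 55433086099<|a 259231636628<|
 a 146128396181<|a 244153733782<|a 107797991063<|c));
 (let c:=(let c:=(a 126521567876<|a 32468913541<|a 314063138694<|a 53020263565<|c);
 (a 59032345728<|a 161328006273<|a 175207388290<|a 91862646147<|
 c));
 (a 10622376032<|a 60098594913<|a 18199403362<|
 a 71821149539<|a 121210903667<|a 28951711604<|a 23428911477<|c)));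
 (let c:=(let c:=(let c:=(a 3072640077<|a 65642874461<|a 26496498270<|a 31139860575<|c);
 (a 23084626484<|a 51249403957<|a 27409490486<|
 a 53925820215<|c));
 (a 2814152493<|a 35899691054<|
 a 37109573423<|a 29037973552<|a 6970441777<|a 26525876274<|a 12690936883<|c));
 (let c:=(let c:=(a 367161385<|a 33574297130<|a 20660640043<|a 40793071148<|c);
 (a 2114659365<|a 1104003110<|
 a 13486513959<|a 18560194344<|c));
 (d 1413154078<|d 3358297119<|d 500472096<|d 505136929<|d 1091204898<|d 2503684387<|d 2342394916<|c)))))<|d (ln (let c:=(let c:=(let c:=(let c:=(a 856662450856<|a 76460510377<|a 69247941802<|a 7573394603<|e);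
 (a 356598546329<|a 1286870867866<|a 550867086496<|
 a 347717440929<|c));
 (a 313096824721<|a 91793840019<|a 463090410388<|
 a 904259969941<|a 1061389766806<|a 1198595950999<|a 110626160792<|c));
 (let c:=(let c:=(a 22454126213<|a 96482353286<|a 938296687751<|a 559720830606<|c);
 (a 34372563585<|a 209425230978<|a 827285805443<|
 a 367022016132<|c));
 (a 207586453089<|a 223084107618<|
 a 710781735523<|a 440642504804<|a 648643852148<|a 40690769525<|a 324046539382<|c)));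
 (let c:=(let c:=(let c:=(a 147917934670<|a 556917718366<|a 256792976223<|a 9554714464<|c);
 (a 216018740021<|a 364064152374<|
 a 182953677111<|a 245757276216<|c));
 (a 4083213102<|
 a 289572133679<|a 305618897456<|a 220203090737<|a 413052466<|a 258349036851<|a 133200378164<|c));
 (let c:=(let c:=(a 42386049834<|a 96371272491<|a 71935157292<|a 275760339245<|c);
 (a 10903363110<|
 a 2914330407<|a 107378807848<|a 128621626409<|c));
 (d 1965759263<|d 25265229600<|d 26580519969<|d 7570243618<|d 11587857955<|d 7321047588<|d 18477275429<|c)))))<|e))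

/-- the program, part 7 -/
def ops7 : List Sz.Op := (beta% delta% lq265bee135d fun a _ d e _ _ _ _ _ _ _ =>
 (d (ln (let c:=(let c:=(let c:=(let c:=(a 15434887593<|
 a 42217243818<|a 23093171371<|a 36422511532<|e);
 (a 244258575258<|a 89913832859<|a 181091729057<|a 219589740450<|c));
 (a 175072132754<|a 69476974996<|a 3506400149<|a 209617393046<|
 a 15318726295<|a 11770421400<|a 86361470873<|c));
 (let c:=(let c:=(a 212051214726<|a 411022991495<|a 316919696520<|a 32567858063<|c);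
 (a 94229388162<|a 326057029507<|a 119477340036<|a 423698707589<|
 c));
 (a 83183036258<|a 74409640291<|a 4116993124<|
 a 225426013797<|a 184678426485<|a 12551009654<|a 26058841207<|c)));
 (let c:=(let c:=(let c:=(a 102724848463<|a 103600368991<|a 83628212576<|a 123306199905<|c);
 (a 67438062390<|a 136993553207<|a 105773545272<|
 a 183632112697<|c));
 (a 8799086895<|a 75948549936<|
 a 30877307953<|a 153428837170<|a 50354116915<|a 4514614068<|a 6592620597<|c));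
 (let c:=(let c:=(a 38923554091<|a 99918493484<|a 59852172845<|a 122629548846<|c);
 (a 12073459239<|a 1840189224<|
 a 45415233065<|a 5354603818<|c));
 (d 5661831456<|d 14533973281<|d 16672550946<|d 4788144163<|d 6933406756<|d 522395173<|d 10252776230<|c)))))<|d (ln (let c:=(let c:=(let c:=(let c:=(a 221429834154<|a 121136557483<|a 78727145900<|a 73829189293<|e);
 (a 687464361627<|
 a 656516944540<|a 611931392930<|a 654184418467<|c));
 (a 318756006803<|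
 a 161202913941<|a 158882058902<|a 864557567639<|a 391574893464<|a 418189112473<|a 231299619994<|c));
 (let c:=(let c:=(a 556586928263<|a 998099001224<|a 1152930497929<|a 40451343248<|c);
 (a 242544036483<|a 792140008580<|
 a 588855367813<|a 1130479437190<|c));
 (a 145262404707<|
 a 263912245860<|a 204115989349<|a 677794864998<|a 664282567286<|a 2670534775<|a 157580815736<|c)));
 (let c:=(let c:=(let c:=(a 202012209232<|a 421469882976<|a 275594875489<|a 306170529378<|c);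
 (a 225506941495<|a 441083118648<|
 a 308391022649<|a 520225203002<|c));
 (a 19959705648<|
 a 271432913969<|a 171523126066<|a 429704671283<|a 120747374132<|a 92161866293<|a 26244873270<|c));
 (let c:=(let c:=(a 101661282348<|a 275698533421<|a 169137085742<|a 379022646831<|c);
 (a 29724655400<|
 a 5640617513<|a 140840664874<|a 31163172139<|c));
 (d 12890265121<|d 42183196706<|d 45921812771<|d 13370605348<|d 19721588517<|d 4492524838<|d 29912704039<|c)))))<|d (ln (let c:=(let c:=(let c:=(let c:=(a 244289793707<|a 86563191980<|a 48796783277<|a 66188533678<|e);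
 (a 453282084252<|a 432586953629<|a 398190104227<|
 a 368882962340<|c));
 (a 152817496724<|a 178801877398<|
 a 130108657047<|a 416032569752<|a 291386093209<|a 212569915802<|a 13349420699<|c));
 (let c:=(let c:=(a 189882205576<|a 618217072777<|a 537894952586<|a 213561353361<|c);
 (a 72496626052<|a 256164293509<|a 330384476038<|
 a 685044798599<|c));
 (a 34957804388<|a 139973406565<|
 a 259710857318<|a 436593807975<|a 409397794679<|a 29985011064<|a 140379586681<|c)));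
 (let c:=(let c:=(let c:=(a 93722065745<|a 305286951777<|a 197609986914<|a 158284085603<|c);
 (a 161165085496<|a 294918080825<|
 a 201621649210<|a 316822703163<|c));
 (a 17249778481<|
 a 189953099570<|a 127877782067<|a 285192401716<|a 68313634101<|a 80462739766<|a 29124703543<|c));
 (let c:=(let c:=(a 73700447021<|a 154263584046<|a 97302659631<|a 249625920816<|c);
 (a 24069185577<|
 a 2825147690<|a 95946098731<|a 23793271852<|c));
 (d 10479798562<|d 28129655075<|d 34456667684<|d 9536969253<|d 13715088422<|d 1245751847<|d 20117260584<|c)))))<|d (ln (let c:=(let c:=(let c:=(let c:=(a 214384852140<|a 118248734893<|a 34529094318<|a 158114468783<|e);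
 (a 547607694237<|a 29784131998<|a 343293846180<|a 247567050661<|
 c));
 (a 255421826709<|a 436673266071<|a 37925523864<|
 a 212047722649<|a 8847338650<|a 449413474971<|a 410699601052<|c));
 (let c:=(let c:=(a 158187150985<|a 842132681866<|a 216540490635<|a 557635006098<|c);
 (a 100320782469<|a 193554663558<|a 51654512775<|
 a 754474393736<|c));
 (a 657491301<|a 18721109862<|
 a 387420035687<|a 449164165224<|a 247820913016<|a 145640777081<|a 156780208762<|c)));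
 (let c:=(let c:=(let c:=(a 122145054546<|a 277915998050<|a 228859706211<|a 133605262692<|c);
 (a 181914908473<|a 298654654266<|
 a 226303246651<|a 314041982012<|c));
 (a 36782612274<|
 a 186209985843<|a 87724165172<|a 351723537717<|a 80248014646<|a 48851264823<|a 9683954488<|c));
 (let c:=(let c:=(a 115103561518<|a 125251204399<|a 81661535792<|a 259543939377<|c);
 (a 45290155050<|
 a 646056747<|a 107630763564<|a 19645886765<|c));
 (d 21257642787<|d 33204317988<|d 53151029797<|d 13428018726<|d 18070382631<|d 6413152040<|d 23987053353<|c)))))<|d (ln (let c:=(let c:=(let c:=(let c:=(a 4526714541<|a 82818539438<|a 37826082735<|a 86126708912<|e);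
 (a 452465164446<|a 89913612447<|a 312091367333<|
 a 352747876518<|c));
 (a 313940132246<|a 189972515992<|
 a 2585179033<|a 219952957594<|a 12554527387<|a 155002035612<|a 36932302493<|c));
 (let c:=(let c:=(a 266656972426<|a 761322193291<|a 369731727756<|a 55803539347<|c);
 (a 112811241606<|a 426757554311<|
 a 129757709960<|a 751032752521<|c));
 (a 124981394534<|
 a 101806530151<|a 65664642920<|a 401581905769<|a 293124759161<|a 50752745594<|a 59866616187<|c)));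
 (let c:=(let c:=(let c:=(a 176971994195<|a 187992933475<|a 159299645028<|a 203231277157<|c);
 (a 127582774842<|a 246339136059<|
 a 192612941372<|a 319736673085<|c));
 (a 20298314803<|
 a 138057364532<|a 52334205237<|a 286022208054<|a 88712981047<|a 8188102712<|a 11770649401<|c));
 (let c:=(let c:=(a 78634058799<|a 165349878320<|a 100001614129<|a 220526593586<|c);
 (a 26547386155<|
 a 2646119980<|a 83989095213<|a 16225155118<|c));
 (d 12560687652<|d 26919479845<|d 34229873446<|d 9434153255<|d 13341605672<|d 901205545<|d 19089923114<|c)))))<|d (ln (let c:=(let c:=(let c:=(let c:=(a 858773184174<|a 234171051695<|a 103619022512<|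
 a 232759102897<|e);
 (a 1106043467679<|a 924442352544<|a 919917916326<|a 667265349031<|c));
 (a 225860456087<|a 704157933465<|a 359204412314<|a 381184146331<|a 716232836764<|a 149486742941<|a 616152579742<|
 c));
 (let c:=(let c:=(a 150906989195<|a 1418428326028<|a 441133008013<|a 1140366802580<|
 c);
 (a 125406621831<|
 a 276962292360<|a 519752373641<|a 1477865186442<|c));
 (a 101446964327<|
 a 203435868008<|a 1014766705769<|a 1014829888618<|a 851090362234<|a 183647451515<|a 444562369660<|c)));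
 (let c:=(let c:=(let c:=(a 116973793620<|a 800044202340<|a 525508002149<|a 245031066470<|c);
 (a 425928188731<|a 716202944828<|
 a 482444415293<|a 679229272638<|c));
 (a 58121903412<|
 a 483799932725<|a 337104100918<|a 703180144439<|a 133429094200<|a 240468280121<|a 98482540858<|c));
 (let c:=(let c:=(a 205998512432<|a 280738102065<|a 186852040754<|a 597176831283<|c);
 (a 75933461548<|
 a 3578738477<|a 240833993774<|a 54645814319<|c));
 (d 33567214885<|d 69345832742<|d 99196216871<|d 25858400808<|d 35918997033<|d 4013197610<|d 50143183147<|c)))))<|d (ln (let c:=(let c:=(let c:=(let c:=(a 169777225647<|a 53770853808<|a 52313977777<|a 3964456370<|e);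
 (a 342546598560<|a 600513216161<|a 380553569191<|
 a 426555658920<|c));
 (a 110997239192<|a 31300385690<|a 149112054939<|
 a 804344287388<|a 390461736861<|a 590788168350<|a 309453027999<|c));
 (let c:=(let c:=(a 465981635212<|a 438527646093<|a 1022033363342<|a 118237055125<|c);
 (a 212078982792<|a 634134788233<|a 534896715914<|a 594869340043<|
 c));
 (a 86383664744<|a 209863198313<|a 79481622890<|
 a 379624833899<|a 463648235643<|a 55170092412<|a 91062949245<|c)));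
 (let c:=(let c:=(let c:=(a 89825971285<|a 264523114085<|a 145168123494<|a 178028580455<|c);
 (a 121318808636<|a 252367130173<|a 162992286782<|
 a 293434551103<|c));
 (a 1709108277<|a 160893097014<|
 a 124711367479<|a 210403297336<|a 59746990649<|a 75685855290<|a 28987489339<|c));
 (let c:=(let c:=(a 37186935345<|a 167180306994<|a 102070266163<|a 212133451316<|c);
 (a 6482220845<|a 4212548654<|
 a 75231404335<|a 42859765552<|c));
 (d 1948186662<|d 21498136103<|d 17110452008<|d 5711940905<|d 9099890474<|d 6375914795<|d 15139116076<|c)))))<|d (ln (let c:=(let c:=(let c:=(let c:=(a 327663484080<|a 124287685297<|a 84196594866<|a 66773738931<|e);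
 (a 696501718433<|
 a 805679698850<|a 655005764776<|a 668363442601<|c));
 (a 255887255705<|
 a 159503401883<|a 215734841244<|a 954290283933<|a 521856406174<|a 573831279007<|a 211610657696<|c));
 (let c:=(let c:=(a 529993159053<|a 951440378510<|a 1234036193423<|a 108005224086<|c);
 (a 228015701897<|a 728917726090<|
 a 678096789387<|a 1116955216524<|c));
 (a 109382302057<|
 a 282541418858<|a 287932334187<|a 700644583020<|a 720148940156<|a 5500728445<|a 193098843774<|c)));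
 (let c:=(let c:=(let c:=(a 169885481814<|a 475340212582<|a 295017443175<|a 291058233192<|c);
 (a 242311894845<|a 466682577214<|
 a 315977344319<|a 525304508480<|c));
 (a 19007275318<|
 a 296329387319<|a 204920113720<|a 434824461625<|a 113757797690<|a 123268339003<|a 43525999420<|c));
 (let c:=(let c:=(a 100998436146<|a 274307886899<|a 170001506356<|a 395778094389<|c);
 (a 29134735918<|
 a 5775101231<|a 147574499888<|a 48045370929<|c));
 (d 12221335847<|d 43218285352<|d 46645367849<|d 13590575658<|d 20133093419<|d 5411736620<|d 30718242093<|c)))))<|d (ln (let c:=(let c:=(let c:=(let c:=(a 765202589873<|a 139711403698<|a 83787898547<|a 89136803252<|e);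
 (a 676699473826<|a 1076326634403<|a 697320769705<|
 a 514558326698<|c));
 (a 26311210394<|a 317043389340<|a 383715227549<|
 a 730006462878<|a 846879726751<|a 723729159584<|a 230997247649<|c));
 (let c:=(let c:=(a 28543175566<|a 705687465103<|a 815661728400<|a 683589913239<|c);
 (a 20608872074<|a 70173004939<|a 693705168268<|
 a 884244917389<|c));
 (a 115498740330<|a 226415736171<|
 a 743085873772<|a 685722390125<|a 731281796989<|a 43670944126<|a 343191668351<|c)));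
 (let c:=(let c:=(let c:=(a 354150999<|a 627252783463<|a 356990887784<|a 140478261609<|c);
 (a 293662411582<|a 504460611903<|
 a 310362025280<|a 445260433473<|c));
 (a 25514392887<|
 a 358318621496<|a 298969486393<|a 425728618810<|a 66059305787<|a 228548619580<|a 105470483261<|c));
 (let c:=(let c:=(a 109584205107<|a 191465597236<|a 128974729269<|a 408508453174<|c);
 (a 36737392175<|
 a 3640409904<|a 160830247985<|a 88780525618<|c));
 (d 14763739944<|d 43736857897<|d 55369142826<|d 14987788843<|d 21548406828<|d 3033113133<|d 31632728878<|c)))))<|d (ln (let c:=(let c:=(let c:=(let c:=(a 931238466738<|a 112070210227<|a 91220515508<|a 16317223349<|e);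
 (a 553484700579<|a 1470820074404<|
 a 724355887786<|a 525937388971<|c));
 (a 228124739483<|a 148491088285<|
 a 510664799646<|a 1127483951007<|a 1174715249312<|a 1304978409377<|a 67564822690<|c));
 (let c:=(let c:=(a 112472276367<|a 378316595344<|a 1234653965969<|a 596238999704<|c);
 (a 23035995019<|a 18691628684<|a 985275182477<|
 a 682928769166<|c));
 (a 173639882859<|a 293340932460<|
 a 784892307565<|a 632877485166<|a 833428783486<|a 35634662015<|a 373459128960<|c)));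
 (let c:=(let c:=(let c:=(a 94737368664<|a 680173644648<|a 337552762217<|a 91525436778<|c);
 (a 281998472511<|a 490407393600<|
 a 270927143233<|a 391034043970<|c));
 (a 10422052664<|
 a 368275375929<|a 355973067834<|a 343551428411<|a 32790402364<|a 286716216637<|a 141929389374<|c));
 (let c:=(let c:=(a 72517106484<|a 171519238453<|a 118370915894<|a 383931821879<|c);
 (a 20086843440<|
 a 4399572273<|a 148017673266<|a 137540379187<|c));
 (d 5966124329<|d 37377897258<|d 40329218603<|d 11501855788<|d 17333903917<|d 8336354862<|d 27088934191<|c)))))<|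
 d (ln (let c:=(let c:=(let c:=(let c:=(a 1228013980083<|a 174675403700<|a 102118061493<|a 111345141942<|e);
 (a 787417988260<|
 a 1531264591013<|a 873894259627<|a 525753473196<|c));
 (a 241069767324<|
 a 458947146910<|a 589434011807<|a 797813964960<|a 1278766237089<|a 1055432037538<|a 537235800995<|c));
 (let c:=(let c:=(a 272588169616<|a 648680741777<|a 780893581202<|a 1180198521753<|c);
 (a 176877290892<|a 586241459597<|
 a 891220830862<|a 891289338767<|c));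
 (a 291360336236<|a 247758961261<|
 a 1194318496622<|a 811730440559<|a 906080051839<|a 72507082368<|a 514906036609<|c)));
 (let c:=(let c:=(let c:=(a 122664308569<|a 862779908713<|a 468191488106<|a 66756051051<|c);
 (a 386005739072<|a 631844796993<|
 a 365848710210<|a 479358667075<|c));
 (a 32780308025<|
 a 474107717690<|a 429663907131<|a 496844026940<|a 44611605053<|a 351855744062<|a 172290051647<|c));
 (let c:=(let c:=(a 132520459829<|a 175780921398<|a 128235380023<|a 498355955256<|c);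
 (a 46817493297<|
 a 3152367666<|a 200994830643<|a 140405258036<|c));
 (d 18179807274<|d 52273123371<|d 70291043628<|d 18498493741<|d 26334518574<|d 2927741231<|d 38158251056<|c)))))<|d (ln (let c:=(let c:=(let c:=(let c:=(a 1026270282420<|a 71468350133<|a 66059368118<|a 14327129783<|e);
 (a 294890609573<|a 1407910868902<|a 537772058796<|a 259902346157<|
 c));
 (a 460953094557<|a 114511181727<|a 533738416032<|a 837726585761<|
 a 1205908916386<|a 1316861137315<|a 256778121380<|c));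
 (let c:=(let c:=(a 218664113297<|a 92881762706<|a 790336373907<|a 750461170330<|c);
 (a 129590659725<|a 529368105102<|a 845308666767<|a 194144547984<|
 c));
 (a 304362827373<|a 199073352046<|a 869075016303<|
 a 391685638256<|a 632836708736<|a 35069877889<|a 373944376962<|c)));
 (let c:=(let c:=(let c:=(a 233545274458<|a 596931537258<|a 261532414827<|a 67755816556<|c);
 (a 220758503233<|a 352225962818<|a 158803215683<|
 a 181606548036<|c));
 (a 3107597626<|a 298920848187<|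
 a 338721079868<|a 182036300605<|a 28804483646<|a 299826778943<|a 159413500224<|c));
 (let c:=(let c:=(a 34568770358<|a 49225150775<|a 46759446584<|a 256664582457<|c);
 (a 9572383794<|a 1966519603<|
 a 102783857204<|a 148822969909<|c));
 (d 883449643<|d 22278178092<|d 25036810797<|d 6845170222<|d 10425735727<|d 7024249904<|d 16549549361<|c)))))<|d (ln (let c:=(let c:=(let c:=(let c:=(a 1025224621237<|a 166194750646<|a 102436725943<|a 98097353656<|e);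
 (a 791489602470<|a 1414945559463<|a 853683604141<|
 a 598215908782<|c));
 (a 114277275550<|a 377989615520<|a 513618143649<|
 a 916651344290<|a 1134742751907<|a 1003321739684<|a 321517522085<|c));
 (let c:=(let c:=(a 32138386578<|a 752725736595<|a 992303770260<|a 903387305115<|c);
 (a 57534980238<|a 205726579343<|a 892795040656<|
 a 993222626961<|c));
 (a 186630557806<|a 276306247535<|
 a 978932455536<|a 815902974577<|a 903181953921<|a 46404263298<|a 444294298755<|c)));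
 (let c:=(let c:=(let c:=(a 45255663707<|a 791641969515<|a 437596709228<|a 136195740013<|c);
 (a 360811823426<|a 612668939075<|
 a 366662502212<|a 514716928069<|c));
 (a 29136471355<|
 a 444517330236<|a 386598527037<|a 497651733310<|a 65961176895<|a 303619443008<|a 144031473985<|c));
 (let c:=(let c:=(a 127001892663<|a 214045428024<|a 147106900025<|a 490835752250<|c);
 (a 42583218227<|
 a 4184316212<|a 194019806261<|a 122646667830<|c));
 (d 16648537900<|d 51739489069<|d 65551899694<|d 17692716079<|d 25484746800<|d 4232968241<|d 37518613298<|c)))))<|d (ln (let c:=(let c:=(let c:=(let c:=(a 280854155190<|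
 a 24332093111<|a 17449330104<|a 88978521529<|e);
 (a 101836193703<|a 615372089512<|a 98122811310<|a 64691627695<|c));
 (a 264529859743<|a 198026166177<|a 199810621090<|a 597773146275<|
 a 505109393828<|a 833603087013<|a 204651478694<|c));
 (let c:=(let c:=(a 123828904595<|a 365581389972<|a 637899044757<|a 65398419100<|c);
 (a 60946036879<|a 77732232336<|a 449253246097<|a 182459795090<|
 c));
 (a 83137296751<|a 110377561712<|a 113703199601<|
 a 7764074610<|a 201454494850<|a 102226253187<|a 68239650180<|c)));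
 (let c:=(let c:=(let c:=(a 121876860764<|a 123957628524<|a 5290043501<|a 49255002478<|c);
 (a 10083067971<|a 26254813252<|a 24121244997<|
 a 30067411526<|c));
 (a 17841371452<|a 44404888125<|
 a 100813508926<|a 70315630911<|a 37214841152<|a 95764064321<|a 56685399618<|c));
 (let c:=(let c:=(a 39427271992<|a 7500086073<|a 1586669114<|a 4107536955<|c);
 (a 18914655796<|a 1378659381<|
 a 2706879030<|a 71912629047<|c));
 (d 10385240365<|d 4488643374<|d 15114345007<|d 3295906864<|d 3669169201<|d 7356670258<|d 3183672115<|c)))))<|d (ln (let c:=(let c:=(let c:=(let c:=(a 293864682167<|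
 a 8887116984<|a 6757755577<|a 2167349434<|e);
 (a 1211199912<|a 291092137385<|a 69096150191<|a 38246503088<|c));
 (a 184663073696<|a 51516829602<|a 134023890851<|a 37770022820<|
 a 286134174885<|a 259259649446<|a 181744969383<|c));
 (let c:=(let c:=(a 213428512916<|a 154190524309<|a 43027646358<|a 290826077341<|c);
 (a 107430722192<|a 367622912657<|a 122132038034<|a 105813296531<|
 c));
 (a 127358959728<|a 4016490865<|a 269896408690<|
 a 21568779379<|a 75176023427<|a 6070728580<|a 99077957765<|c)));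
 (let c:=(let c:=(let c:=(a 103646384221<|a 122863943021<|a 46067978094<|a 74513617519<|c);
 (a 39146805060<|a 44995505989<|a 6436821318<|
 a 24068416839<|c));
 (a 860700477<|a 53470961982<|
 a 76657292351<|a 1185198912<|a 26710860353<|a 77946891074<|a 44652663619<|c));
 (let c:=(let c:=(a 1488670009<|a 32305029690<|a 14100198715<|a 24744858940<|c);
 (a 1671861301<|a 594356790<|
 a 12842186807<|a 36713648696<|c));
 (d 93682734<|d 1324204847<|d 3734614576<|d 702649905<|d 929247794<|d 384610867<|d 1225430324<|c)))))<|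
 d (ln (let c:=(let c:=(let c:=(let c:=(a 686542995384<|a 181868984761<|a 115857004986<|a 108472722107<|e);
 (a 958833539753<|a 1243759023786<|
 a 928037816752<|a 838917647537<|c));
 (a 208359611297<|a 316384392867<|
 a 384733275300<|a 1175605393061<|a 884644665254<|a 846702128807<|a 39656803496<|c));
 (let c:=(let c:=(a 451627356821<|a 1197091752854<|a 1454177225111<|a 472039921054<|c);
 (a 175734228113<|a 563943253650<|a 931605871763<|
 a 1426764226964<|c));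
 (a 29995088497<|a 356360546930<|
 a 647712755571<|a 963640853876<|a 997047209092<|a 23650550405<|a 348509350278<|c)));
 (let c:=(let c:=(let c:=(a 145753451102<|a 738761310318<|a 443339393647<|a 321895334512<|c);
 (a 364162514501<|a 667145235526<|
 a 436002369607<|a 685176704328<|c));
 (a 30665163838<|
 a 443650434111<|a 332508265792<|a 600673585729<|a 132703068226<|a 225710910531<|a 92570628676<|c));
 (let c:=(let c:=(a 146359423546<|a 334673985595<|a 213023966524<|a 555762965053<|c);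
 (a 45359738678<|
 a 6769453111<|a 212119293752<|a 86465981241<|c));
 (d 18763159599<|d 60395714096<|d 70118214961<|d 19750878002<|d 28848337715<|d 5898192180<|d 43230412341<|c)))))<|d (ln (let c:=(let c:=(let c:=(let c:=(a 400658293945<|
 a 11222134202<|a 10025620923<|a 9764271804<|e);
 (a 150714633898<|a 246902748075<|a 45305807281<|a 230507271346<|c));
 (a 350849300386<|a 73173677988<|a 159309692325<|a 224397954726<|
 a 317138522279<|a 222605670824<|a 386525888169<|c));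
 (let c:=(let c:=(a 507454352022<|a 450804252567<|a 434385465240<|a 484839171231<|c);
 (a 246158209682<|a 815998767251<|a 2735707540<|a 426025080213<|
 c));
 (a 237009107058<|a 71575367283<|a 386764285044<|
 a 126725741429<|a 61382129285<|a 22940361606<|a 118522791047<|c)));
 (let c:=(let c:=(let c:=(a 206002035295<|a 87177510255<|a 9692864368<|a 192035047025<|c);
 (a 9600234822<|a 34846601287<|a 60595339848<|
 a 161982997833<|c));
 (a 1039203903<|a 17927394112<|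
 a 73402379841<|a 92613889602<|a 68924069955<|a 95399304516<|a 60826508613<|c));
 (let c:=(let c:=(a 16895138363<|a 119624114236<|a 64227557693<|a 50779590206<|c);
 (a 1902245687<|a 2537601080<|
 a 12217409337<|a 44368593978<|c));
 (d 1906096176<|d 7390593585<|d 2868818226<|d 1623471411<|d 2730450740<|d 1410133301<|d 4762032182<|c)))))<|
 d (ln (let c:=(let c:=(let c:=(let c:=(a 8592721850<|
 a 19728402875<|a 31813188028<|a 26019995069<|e);
 (a 172670682795<|a 357852935340<|a 211800126386<|a 291716263091<|c));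
 (a 98238470051<|a 103788944293<|a 66272840870<|a 619786355367<|
 a 206005674408<|a 431721654441<|a 345027846314<|c));
 (let c:=(let c:=(a 432991494295<|a 245330354072<|a 806145487257<|a 256463358112<|c);
 (a 204312791187<|a 608495146644<|a 370473691285<|a 360791533974<|
 c));
 (a 101380645491<|a 152313749108<|a 77598426229<|
 a 209101906806<|a 286220258950<|a 64687468423<|a 15419549064<|c)));
 (let c:=(let c:=(let c:=(a 78818289248<|a 119505839216<|a 60370709105<|a 134290478194<|c);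
 (a 51664645191<|a 130056260168<|a 85587277385<|
 a 178477825866<|c));
 (a 4491543360<|a 76315082305<|
 a 57368721218<|a 103628214851<|a 40257761860<|a 26308473925<|a 7112497734<|c));
 (let c:=(let c:=(a 10007197756<|a 115152675389<|a 67887140158<|a 111861830207<|c);
 (a 2448647224<|a 3213728313<|
 a 36148659002<|a 24155395899<|c));
 (d 1708100401<|d 10647089714<|d 3686606131<|d 2036191028<|d 3797364021<|d 5597417270<|d 7321719863<|c)))))<|d (ln (let c:=(let c:=(let c:=(let c:=(a 1306408641979<|a 160505783228<|a 101771866045<|a 82598114494<|e);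
 (a 713357487276<|
 a 1668083676845<|a 862371319219<|a 495432390836<|c));
 (a 345061498532<|
 a 398885075622<|a 640182897831<|a 899045704360<|a 1404286510505<|a 1264246744234<|a 510930216875<|c));
 (let c:=(let c:=(a 292078132632<|a 473316657561<|a 867628229018<|a 1179234916769<|c);
 (a 184470810516<|a 644231315349<|
 a 977643204758<|a 758451119511<|c));
 (a 331694386036<|a 259096996469<|
 a 1228114746230<|a 764554189687<|a 918693691015<|a 45683383944<|a 528646664073<|c)));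
 (let c:=(let c:=(let c:=(a 175583490913<|a 874701655665<|a 453694735474<|a 27808246387<|c);
 (a 375761159240<|a 611459765321<|
 a 338716210762<|a 434103317323<|c));
 (a 26747240513<|
 a 470729282626<|a 449589714755<|a 448817928260<|a 24721787973<|a 375979954758<|a 188415925319<|c));
 (let c:=(let c:=(a 115209148477<|a 152743600190<|a 115275468095<|a 475043386432<|c);
 (a 39883344697<|
 a 3090662970<|a 191452123451<|a 159699363644<|c));
 (d 14541614642<|d 48276417075<|d 63385490228<|d 16754810165<|d 24070913334<|d 4590412599<|d 35342764088<|c)))))<|d (ln (let c:=(let c:=(let c:=(let c:=(a 336571816380<|a 108107705277<|a 44762578878<|a 114909320383<|e);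
 (a 512863133357<|a 333139779246<|a 402294192052<|a 300166635189<|
 c));
 (a 145293192101<|a 335431820455<|a 131559146664<|
 a 110067490985<|a 249979012010<|a 38216559531<|a 284727079852<|c));
 (let c:=(let c:=(a 62380206489<|a 694854579098<|a 140347731355<|a 499538763682<|c);
 (a 53737215893<|a 101603663766<|a 180577089687<|
 a 699298317208<|c));
 (a 26667298677<|a 81061508726<|
 a 426323394423<|a 460196810104<|a 360121703560<|a 93193849481<|a 186594906506<|c)));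
 (let c:=(let c:=(let c:=(a 74431018594<|a 340522988146<|a 234324383859<|a 122820324980<|c);
 (a 189183054409<|a 318999223370<|
 a 221155539019<|a 313864153932<|c));
 (a 28132794946<|
 a 210799513667<|a 136440859460<|a 326580957765<|a 66712158278<|a 92907586119<|a 35188510280<|c));
 (let c:=(let c:=(a 97460061758<|a 131183195711<|a 86324989248<|a 268881538625<|c);
 (a 36265987386<|
 a 1540454971<|a 108624026940<|a 14428891453<|c));
 (d 16307270707<|d 31856115764<|d 46279429941<|d 12023180598<|d 16613956919<|d 2595071544<|d 23005199417<|c)))))<|d (ln (let c:=(let c:=(let c:=(let c:=(a 267494498237<|a 139388345790<|a 64502465983<|a 137713426112<|e);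
 (a 712352632494<|a 390131835055<|a 548446585781<|
 a 506992034486<|c));
 (a 322028237222<|a 359952627368<|
 a 116542950057<|a 341419887274<|a 232774359467<|a 37075109804<|a 136782239149<|c));
 (let c:=(let c:=(a 194603769498<|a 1055562993563<|a 491564117916<|a 380828152227<|c);
 (a 64702612630<|a 293290379415<|a 294624083096<|
 a 1075874796441<|c));
 (a 73130695286<|a 155381991543<|
 a 363738972536<|a 647308306809<|a 518279123593<|a 91694999178<|a 187497089419<|c)));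
 (let c:=(let c:=(let c:=(a 180216381027<|a 407094554227<|a 293599390836<|a 245423985269<|c);
 (a 237007004234<|a 426706651211<|
 a 307899449420<|a 475847113037<|c));
 (a 33619859011<|
 a 265364004932<|a 151325250373<|a 451110524486<|a 113940775495<|a 84194989640<|a 22481154633<|c));
 (let c:=(let c:=(a 126480031295<|a 225779017280<|a 141773920065<|a 367774500930<|c);
 (a 44228063547<|
 a 3439071804<|a 143750726973<|a 6650712382<|c));
 (d 20137843252<|d 43527162933<|d 57999512886<|d 15603642167<|d 21937990456<|d 1496482361<|d 31152544314<|c)))))<|d (ln (let c:=(let c:=(let c:=(let c:=(a 116159009214<|a 75562640063<|a 49257053888<|a 50869608897<|e);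
 (a 476979069871<|a 202112540592<|a 365831524022<|
 a 496756582839<|c));
 (a 390806705319<|a 57277356969<|
 a 10091063978<|a 588953188267<|a 17695449772<|a 72698490285<|a 342085474222<|c));
 (let c:=(let c:=(a 597491162523<|a 834202951324<|a 869317519517<|a 251306365860<|c);
 (a 274360885655<|a 908083699096<|
 a 310524050329<|a 886729791642<|c));
 (a 220543602039<|
 a 184597964152<|a 110869608313<|a 453852421754<|a 400066150282<|a 7258596491<|a 18048500364<|c)));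
 (let c:=(let c:=(let c:=(a 236397240676<|a 181982605684<|a 149225236853<|a 283915487094<|c);
 (a 120907187531<|a 266830710092<|
 a 209049220941<|a 386318587982<|c));
 (a 12575023940<|
 a 140523202885<|a 50269384262<|a 297513343815<|a 108836664648<|a 6705737801<|a 22376553546<|c));
 (let c:=(let c:=(a 68490169664<|a 223662702913<|a 131855758914<|a 241967365443<|c);
 (a 18604778044<|
 a 4562466109<|a 86294102078<|a 10859831615<|c));
 (d 8778014517<|d 28132523318<|d 28104065591<|d 8585937464<|d 12805382713<|d 3019396666<|d 19675853115<|c)))))<|e))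

/-- the program -/
def ops : List Sz.Op := ops0 ++ ops1 ++ ops2 ++ ops3 ++ ops4 ++ ops5 ++ ops6 ++ ops7

/-- the positions of the rows -/
def ix : List ℕ := (beta% delta% lq265bee135d fun a _ d e _ _ _ _ _ _ _ =>
 (let c:=(let c:=(let c:=(let c:=(a 2<|a 1<|a 5<|
 a 3<|e);
 (a 33<|a 28<|a 4<|a 0<|c));
 (a 18<|a 34<|a 37<|a 13<|a 19<|a 14<|a 21<|c));
 (let c:=(let c:=(a 25<|a 8<|a 27<|a 12<|c);
 (a 17<|a 16<|a 7<|a 46<|c));
 (a 29<|a 30<|a 11<|a 26<|a 36<|a 20<|a 15<|c)));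
 (let c:=(let c:=(let c:=(a 23<|a 31<|a 24<|
 a 38<|c);
 (a 42<|a 10<|a 41<|a 32<|c));
 (a 6<|a 53<|a 39<|a 43<|a 48<|a 44<|a 50<|c));
 (let c:=(a 45<|a 40<|a 22<|a 52<|a 49<|a 35<|a 9<|c);
 (d 206<|d 205<|d 192<|d 47<|d 51<|d 194<|d 193<|c)))))

/-- the character of degree 1 -/
def r0 : List ℤ := (beta% delta% lq265bee135d fun _ b d e _ _ _ _ _ _ _ =>
 (let c:=(let c:=(let c:=(let c:=(b 1<|b 1<|b 1<|b 1<|e);
 (b 1<|b 1<|b 1<|b 1<|c));
 (b 1<|b 1<|b 1<|b 1<|b 1<|b 1<|b 1<|c));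
 (let c:=(let c:=(b 1<|b 1<|b 1<|b 1<|c);
 (b 1<|b 1<|
 b 1<|b 1<|c));
 (b 1<|b 1<|b 1<|b 1<|b 1<|b 1<|b 1<|c)));
 (let c:=(let c:=(let c:=(b 1<|b 1<|b 1<|b 1<|c);
 (b 1<|b 1<|b 1<|b 1<|c));
 (b 1<|b 1<|b 1<|b 1<|b 1<|b 1<|b 1<|c));
 (let c:=(b 1<|b 1<|b 1<|b 1<|b 1<|b 1<|b 1<|c);
 (d 1<|d 1<|d 1<|d 1<|d 1<|d 1<|d 1<|c)))))

/-- the character of degree 78 -/
def r1 : List ℤ := (beta% delta% lq265bee135d fun _ b d e _ _ _ _ _ _ _ =>
 (let c:=(let c:=(let c:=(let c:=(b (-1)<|b (-1)<|b 1<|b (-2)<|e);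
 (b (-1)<|b (-1)<|b (-1)<|b 1<|c));
 (b (-3)<|b (-3)<|b 0<|b 1<|b 0<|b 0<|b 2<|c));
 (let c:=(let c:=(b 3<|b (-3)<|b (-1)<|b 1<|c);
 (b (-1)<|b 0<|b 2<|b (-1)<|c));
 (b (-2)<|b 0<|b 0<|b 3<|
 b (-1)<|b 1<|b 1<|c)));
 (let c:=(let c:=(let c:=(b 1<|b 0<|b 2<|b 2<|c);
 (b (-2)<|b (-1)<|b (-7)<|b (-7)<|c));
 (b 1<|b 1<|b (-2)<|b 1<|b 2<|b 2<|b 5<|c));
 (let c:=(b 15<|b 2<|b (-2)<|b 2<|b (-6)<|b 6<|b 3<|c);
 (d 78<|d (-2)<|d 14<|d (-34)<|d (-3)<|d (-3)<|d 6<|c)))))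

/-- the character of degree 429 -/
def r2 : List ℤ := (beta% delta% lq265bee135d fun _ b d e _ _ _ _ _ _ _ =>
 (let c:=(let c:=(let c:=(let c:=(b 0<|b (-2)<|b (-2)<|b (-1)<|e);
 (b 0<|b 2<|b 0<|b (-1)<|c));
 (b 2<|b 4<|b 0<|b 0<|b 1<|b (-1)<|b (-1)<|c));
 (let c:=(let c:=(b (-2)<|b (-2)<|b 2<|b 0<|c);
 (b (-1)<|b (-1)<|b (-1)<|b 2<|c));
 (b 1<|b 0<|b 3<|b 0<|b 0<|
 b 2<|b 0<|c)));
 (let c:=(let c:=(let c:=(b 2<|b 1<|b 1<|b 1<|c);
 (b 7<|b 6<|b (-4)<|b 14<|c));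
 (b 1<|b 4<|b 1<|b (-2)<|b 3<|b 5<|b 0<|c));
 (let c:=(b 6<|b 5<|b (-3)<|b 5<|b 5<|b 13<|b 4<|c);
 (d 429<|d 13<|d 45<|d 77<|d (-3)<|d 24<|d 15<|c)))))

/-- the character of degree 1001 -/
def r3 : List ℤ := (beta% delta% lq265bee135d fun _ b d e _ _ _ _ _ _ _ =>
 (let c:=(let c:=(let c:=(let c:=(b 0<|b 0<|b (-2)<|b (-1)<|e);
 (b 2<|b 0<|b (-1)<|b 0<|c));
 (b (-2)<|b 1<|b 0<|b 0<|b 1<|b 1<|b 0<|c));
 (let c:=(let c:=(b 4<|b (-2)<|b (-1)<|b (-3)<|c);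
 (b 2<|b (-2)<|b 2<|b 0<|c));
 (b 1<|b (-1)<|
 b 2<|b 2<|b 1<|b (-1)<|b 0<|c)));
 (let c:=(let c:=(let c:=(b 0<|b (-1)<|b 1<|b (-3)<|c);
 (b 2<|b 8<|b (-15)<|b (-6)<|c));
 (b 2<|b (-7)<|b 2<|b 2<|b 2<|b (-6)<|b 5<|c));
 (let c:=(b 56<|b 5<|b 9<|b (-3)<|b (-11)<|b 1<|b 1<|c);
 (d 1001<|d (-7)<|d 41<|d (-231)<|d 2<|d 29<|d 2<|c)))))

/-- the character of degree 1430 -/
def r4 : List ℤ := (beta% delta% lq265bee135d fun _ b d e _ _ _ _ _ _ _ =>
 (let c:=(let c:=(let c:=(let c:=(b 0<|b 1<|b (-1)<|b 1<|e);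
 (b (-1)<|b (-1)<|b (-1)<|b (-1)<|c));
 (b (-3)<|b (-4)<|b 0<|b 0<|b (-1)<|b 0<|b (-1)<|c));
 (let c:=(let c:=(b (-1)<|b 5<|b (-2)<|b 0<|c);
 (b 1<|b 0<|b (-2)<|b (-1)<|c));
 (b 2<|b 2<|
 b (-1)<|b (-1)<|b 1<|b 1<|b 0<|c)));
 (let c:=(let c:=(let c:=(b 2<|b 0<|b 2<|b (-2)<|c);
 (b (-6)<|b (-1)<|b 8<|b (-19)<|c));
 (b 3<|b 0<|b 0<|b (-3)<|b 2<|b 8<|b (-4)<|c));
 (let c:=(b (-1)<|b 10<|b 6<|b 2<|b (-6)<|b 14<|b 5<|c);
 (d 1430<|d 6<|d 86<|d (-154)<|d (-1)<|d (-28)<|d 26<|c)))))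

/-- the character of degree 3003 -/
def r5 : List ℤ := (beta% delta% lq265bee135d fun _ b d e _ _ _ _ _ _ _ =>
 (let c:=(let c:=(let c:=(let c:=(b 0<|b (-1)<|b (-1)<|b 2<|e);
 (b (-1)<|b (-1)<|b 1<|b 0<|c));
 (b 5<|b 2<|b 0<|b 0<|b 0<|b (-1)<|b 2<|c));
 (let c:=(let c:=(b 5<|b 5<|b 0<|b (-2)<|c);
 (b 0<|b (-1)<|b 3<|b 1<|c));
 (b (-1)<|b 0<|b 0<|b 3<|b (-1)<|b (-1)<|b 0<|c)));
 (let c:=(let c:=(let c:=(b 0<|b (-1)<|b 3<|b (-1)<|
 c);
 (b (-1)<|b (-7)<|b 26<|b 17<|c));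
 (b 2<|b 2<|b (-1)<|b (-7)<|b (-1)<|b (-1)<|b 14<|c));
 (let c:=(b 105<|b 3<|b (-5)<|b (-5)<|b 11<|b 11<|b 3<|c);
 (d 3003<|d (-37)<|d 59<|d 539<|d 6<|d 6<|d 15<|c)))))

/-- the character of degree 3080 -/
def r6 : List ℤ := (beta% delta% lq265bee135d fun _ b d e _ _ _ _ _ _ _ =>
 (let c:=(let c:=(let c:=(let c:=(b 0<|b 1<|b 1<|b 1<|e);
 (b 1<|b 1<|b (-1)<|b 0<|c));
 (b 3<|b 6<|b (-1)<|b 0<|b (-1)<|b 0<|b 1<|c));
 (let c:=(let c:=(b 3<|b 3<|b 0<|b 2<|c);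
 (b 0<|b 0<|b 0<|b (-1)<|c));
 (b 4<|b (-1)<|
 b (-1)<|b 5<|b 1<|b 1<|b 0<|c)));
 (let c:=(let c:=(let c:=(b 0<|b 0<|b 0<|b 4<|c);
 (b 4<|b 7<|b 22<|b 31<|c));
 (b (-2)<|b (-2)<|b 4<|b 7<|b 4<|b 4<|b 10<|c));
 (let c:=(b 119<|b 0<|b 8<|b 8<|b 24<|b 24<|b 5<|c);
 (d 3080<|d 40<|d 136<|d 616<|d 2<|d 2<|d 20<|c)))))

/-- the character of degree 10725 -/
def r7 : List ℤ := (beta% delta% lq265bee135d fun _ b d e _ _ _ _ _ _ _ =>
 (let c:=(let c:=(let c:=(let c:=(b 0<|b 1<|b 3<|b 0<|e);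
 (b 0<|b 2<|b 0<|b 1<|c));
 (b (-3)<|b 2<|b 0<|b (-1)<|b 0<|b (-1)<|b (-1)<|c));
 (let c:=(let c:=(b (-1)<|b 5<|b 0<|b (-2)<|c);
 (b 0<|b 0<|b 0<|b (-1)<|c));
 (b (-3)<|b 0<|b 3<|b 0<|b 0<|b 0<|b 0<|c)));
 (let c:=(let c:=(let c:=(b 1<|b (-1)<|b 1<|
 b 1<|c);
 (b 8<|b 15<|b 14<|b 5<|c));
 (b 2<|b (-10)<|b (-4)<|b 5<|b 0<|b (-4)<|b (-6)<|c));
 (let c:=(b 15<|b 9<|b (-11)<|b (-7)<|b (-15)<|b 29<|b 0<|c);
 (d 10725<|d (-43)<|d 165<|d (-715)<|d 6<|d 114<|d 24<|c)))))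

/-- the character of degree 13650 -/
def r8 : List ℤ := (beta% delta% lq265bee135d fun _ b d e _ _ _ _ _ _ _ =>
 (let c:=(let c:=(let c:=(let c:=(b (-1)<|b 1<|b 1<|b 0<|e);
 (b 0<|b (-2)<|b 0<|b 0<|c));
 (b 1<|b (-5)<|b 0<|b 0<|b 0<|b 0<|b 1<|c));
 (let c:=(let c:=(b 1<|b 1<|b 1<|b (-1)<|c);
 (b 1<|b 1<|b 1<|b 1<|c));
 (b (-2)<|b 0<|b 3<|b 0<|b 0<|b 0<|b (-1)<|c)));
 (let c:=(let c:=(let c:=(b 0<|b 2<|b (-2)<|b (-2)<|
 c);
 (b 9<|b 9<|b 7<|b 25<|c));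
 (b 3<|b 15<|b 3<|b 9<|b (-3)<|b 7<|b 3<|c));
 (let c:=(b 105<|b 10<|b 2<|b 10<|b 10<|b (-14)<|b 0<|c);
 (d 13650<|d 114<|d 210<|d 1330<|d 15<|d 123<|d 33<|c)))))

/-- the character of degree 30030 -/
def r9 : List ℤ := (beta% delta% lq265bee135d fun _ b d e _ _ _ _ _ _ _ =>
 (let c:=(let c:=(let c:=(let c:=(b 0<|b (-1)<|b 1<|b (-1)<|e);
 (b 1<|b (-1)<|b 1<|b 0<|c));
 (b 5<|b 2<|b 0<|b 0<|b (-1)<|b 0<|b (-1)<|c));
 (let c:=(let c:=(b (-1)<|b (-7)<|b 0<|b (-2)<|c);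
 (b 0<|b 2<|b 0<|b (-1)<|c));
 (b (-2)<|b 0<|b (-3)<|b (-3)<|b 1<|b (-1)<|b 0<|c)));
 (let c:=(let c:=(let c:=(b 0<|b 0<|b 2<|
 b 2<|c);
 (b (-4)<|b (-5)<|b (-34)<|b 29<|c));
 (b 2<|b (-10)<|b 2<|b 5<|b 4<|b 2<|b (-14)<|c));
 (let c:=(b (-21)<|b 18<|b (-2)<|b 2<|b 26<|b 38<|b 5<|c);
 (d 30030<|d 62<|d 526<|d 1694<|d 6<|d (-102)<|d 60<|c)))))

/-- the character of degree 32032 -/
def r10 : List ℤ := (beta% delta% lq265bee135d fun _ b d e _ _ _ _ _ _ _ =>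
 (let c:=(let c:=(let c:=(let c:=(b 0<|b 1<|b (-1)<|b 1<|e);
 (b 1<|b (-1)<|b 1<|b 0<|c));
 (b (-3)<|b (-8)<|b 0<|b 0<|b 1<|b 0<|b (-1)<|c));
 (let c:=(let c:=(b (-5)<|b 1<|b 0<|b 0<|c);
 (b 0<|b 0<|b 0<|b (-1)<|c));
 (b (-4)<|b (-2)<|b 1<|b 1<|b (-1)<|b 1<|b 0<|c)));
 (let c:=(let c:=(let c:=(b 0<|b 0<|b 0<|b 4<|
 c);
 (b (-8)<|b (-5)<|b 20<|b (-79)<|c));
 (b (-2)<|b 4<|b (-2)<|b 1<|b 4<|b 2<|b 4<|c));
 (let c:=(b 91<|b 0<|b 0<|b 8<|b (-24)<|b 64<|b 7<|c);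
 (d 32032<|d (-32)<|d 544<|d (-2464)<|d 10<|d (-44)<|d 64<|c)))))

/-- the character of degree 43680 -/
def r11 : List ℤ := (beta% delta% lq265bee135d fun _ b d e _ _ _ _ _ _ _ =>
 (let c:=(let c:=(let c:=(let c:=(b 1<|b (-1)<|b 1<|b (-1)<|e);
 (b (-1)<|b 1<|b 1<|b 0<|c));
 (b (-3)<|b 0<|b 0<|b 0<|b (-1)<|b 0<|b 1<|c));
 (let c:=(let c:=(b 3<|b (-3)<|b 0<|b 0<|c);
 (b 0<|b 0<|b 0<|b (-1)<|c));
 (b 4<|b 0<|b 3<|b 3<|b 1<|b (-1)<|b (-1)<|c)));
 (let c:=(let c:=(let c:=(b 0<|b 0<|b 0<|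
 b (-4)<|c);
 (b (-8)<|b (-1)<|b (-44)<|b (-71)<|c));
 (b (-2)<|b 4<|b (-2)<|b 1<|b (-4)<|b 10<|b 20<|c));
 (let c:=(b 399<|b 0<|b 0<|b 8<|b (-24)<|b 0<|b 5<|c);
 (d 43680<|d (-32)<|d 416<|d (-4256)<|d (-6)<|d (-60)<|d 48<|c)))))

/-- the character of degree 45045 -/
def r12 : List ℤ := (beta% delta% lq265bee135d fun _ b d e _ _ _ _ _ _ _ =>
 (let c:=(let c:=(let c:=(let c:=(b 0<|b 1<|b (-1)<|b (-1)<|e);
 (b 0<|b 0<|b 1<|b 0<|c));
 (b (-1)<|b 2<|b 0<|b 0<|b 1<|b (-1)<|b 0<|c));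
 (let c:=(let c:=(b 5<|b (-1)<|b (-2)<|b 2<|c);
 (b 1<|b 2<|b (-2)<|b 1<|c));
 (b 5<|b 0<|b 0<|b 0<|b (-1)<|b (-1)<|b 0<|c)));
 (let c:=(let c:=(let c:=(b 0<|b (-1)<|b 1<|b 1<|
 c);
 (b (-2)<|b 9<|b 42<|b (-21)<|c));
 (b 1<|b 10<|b (-2)<|b 19<|b 6<|b 6<|b (-6)<|c));
 (let c:=(b 441<|b 1<|b 5<|b 1<|b 41<|b 29<|b (-5)<|c);
 (d 45045<|d 133<|d 309<|d 4389<|d 9<|d 90<|d (-18)<|c)))))

/-- the character of degree 48048 -/
def r13 : List ℤ := (beta% delta% lq265bee135d fun _ b d e _ _ _ _ _ _ _ =>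
 (let c:=(let c:=(let c:=(let c:=(b 0<|b 0<|b 0<|b 1<|e);
 (b 0<|b (-2)<|b 0<|b 0<|c));
 (b 0<|b 2<|b 0<|b 0<|b 1<|b 0<|b 1<|c));
 (let c:=(let c:=(b (-4)<|b (-4)<|b (-2)<|b 2<|c);
 (b (-2)<|b 0<|b (-2)<|b 0<|c));
 (b 0<|b 0<|b 3<|b 0<|b 2<|b (-2)<|b 0<|c)));
 (let c:=(let c:=(let c:=(b 0<|b 0<|
 b 0<|b 0<|c);
 (b 6<|b 12<|b 10<|b (-44)<|c));
 (b 0<|b (-6)<|b 0<|b (-12)<|b 6<|b (-8)<|b 18<|c));
 (let c:=(b (-84)<|b 16<|b (-16)<|b 0<|b 0<|b (-16)<|b (-2)<|c);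
 (d 48048<|d 48<|d 432<|d (-1232)<|d (-12)<|d 258<|d 6<|c)))))

/-- the character of degree 50050 -/
def r14 : List ℤ := (beta% delta% lq265bee135d fun _ b d e _ _ _ _ _ _ _ =>
 (let c:=(let c:=(let c:=(let c:=(b 0<|b (-1)<|b (-1)<|b 0<|e);
 (b 1<|b (-1)<|b 0<|b 0<|c));
 (b 1<|b (-5)<|b 0<|b 0<|b 0<|b 0<|b (-1)<|c));
 (let c:=(let c:=(b 1<|b 1<|b 3<|b 3<|c);
 (b 0<|b 1<|b 3<|b (-3)<|c));
 (b 2<|b 1<|b 1<|b 1<|b 0<|b 0<|b 0<|c)));
 (let c:=(let c:=(let c:=(b 0<|b (-2)<|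
 b (-2)<|b 2<|c);
 (b 3<|b 13<|b (-13)<|b 5<|c));
 (b 0<|b 3<|b (-3)<|b (-3)<|b (-5)<|b 5<|b (-5)<|c));
 (let c:=(b (-35)<|b 18<|b 18<|b (-6)<|b 10<|b (-14)<|b 0<|c);
 (d 50050<|d (-126)<|d 130<|d 770<|d (-8)<|d 235<|d 19<|c)))))

/-- the character of degree 50050 -/
def r15 : List ℤ := (beta% delta% lq265bee135d fun _ b d e _ _ _ _ _ _ _ =>
 (let c:=(let c:=(let c:=(let c:=(b 0<|b (-1)<|b 1<|b 0<|e);
 (b 0<|b (-2)<|b 0<|b 0<|c));
 (b 1<|b 1<|b 0<|b 0<|b 0<|b 0<|b (-2)<|c));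
 (let c:=(let c:=(b 7<|b 1<|b 1<|b 1<|c);
 (b 1<|b (-2)<|b (-2)<|b 3<|c));
 (b (-2)<|b 1<|b (-2)<|b 4<|b 0<|b 0<|b 0<|c)));
 (let c:=(let c:=(let c:=(b 0<|b 0<|
 b (-2)<|b 2<|c);
 (b 2<|b 3<|b (-71)<|b (-35)<|c));
 (b (-1)<|b (-7)<|b (-4)<|b 5<|b 6<|b (-8)<|b 9<|c));
 (let c:=(b 595<|b (-2)<|b (-14)<|b 6<|b (-50)<|b 10<|b 0<|c);
 (d 50050<|d (-46)<|d 450<|d (-5390)<|d 19<|d 73<|d 10<|c)))))

/-- the character of degree 75075 -/
def r16 : List ℤ := (beta% delta% lq265bee135d fun _ b d e _ _ _ _ _ _ _ =>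
 (let c:=(let c:=(let c:=(let c:=(b 0<|b 0<|b 0<|b 0<|e);
 (b (-2)<|b 0<|b 0<|b 0<|c));
 (b (-2)<|b 2<|b 0<|b 0<|b 0<|b 1<|b 0<|c));
 (let c:=(let c:=(b 2<|b 2<|b 0<|b (-2)<|c);
 (b 0<|b 1<|b 3<|b 2<|c));
 (b 3<|b 0<|b 0<|b (-6)<|b 0<|b 0<|b 0<|c)));
 (let c:=(let c:=(let c:=(b 0<|b (-1)<|
 b (-1)<|b 3<|c);
 (b 11<|b (-2)<|b (-6)<|b 30<|c));
 (b (-4)<|b 2<|b (-1)<|b (-10)<|b 7<|b 3<|b (-2)<|c));
 (let c:=(b (-210)<|b 3<|b 19<|b 11<|b (-5)<|b 83<|b 0<|c);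
 (d 75075<|d 131<|d 835<|d 1155<|d (-12)<|d 150<|d 51<|c)))))

/-- the character of degree 75075 -/
def r17 : List ℤ := (beta% delta% lq265bee135d fun _ b d e _ _ _ _ _ _ _ =>
 (let c:=(let c:=(let c:=(let c:=(b 0<|b 1<|b (-1)<|b 0<|e);
 (b (-1)<|b 1<|b 0<|b 0<|c));
 (b 1<|b (-5)<|b 0<|b 0<|b 0<|b 1<|b (-2)<|c));
 (let c:=(let c:=(b 7<|b 1<|b 1<|b (-1)<|c);
 (b (-2)<|b 1<|b 1<|b (-1)<|c));
 (b (-1)<|b 0<|b 0<|b 3<|b 0<|b 0<|b 0<|c)));
 (let c:=(let c:=(let c:=(b 0<|b 1<|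
 b (-1)<|b (-5)<|c);
 (b (-3)<|b (-1)<|b 79<|b 25<|c));
 (b 0<|b (-9)<|b (-3)<|b 9<|b 5<|b (-11)<|b 11<|c));
 (let c:=(b 735<|b 7<|b (-13)<|b (-1)<|b 55<|b (-5)<|b 0<|c);
 (d 75075<|d 51<|d 515<|d 7315<|d (-12)<|d (-93)<|d (-3)<|c)))))

/-- the character of degree 75075 -/
def r18 : List ℤ := (beta% delta% lq265bee135d fun _ b d e _ _ _ _ _ _ _ =>
 (let c:=(let c:=(let c:=(let c:=(b 0<|b 2<|b 0<|b 0<|e);
 (b 1<|b (-1)<|b 0<|b 0<|c));
 (b (-6)<|b 4<|b 0<|b 0<|b 0<|b (-1)<|b (-1)<|c));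
 (let c:=(let c:=(b 4<|b (-2)<|b 2<|b 0<|c);
 (b (-1)<|b 0<|b 2<|b 0<|c));
 (b 3<|b 0<|b (-3)<|b (-3)<|b 0<|b 0<|b 0<|c)));
 (let c:=(let c:=(let c:=(b 0<|b 1<|
 b 3<|b (-1)<|c);
 (b 2<|b 4<|b (-64)<|b (-10)<|c));
 (b (-1)<|b 8<|b 2<|b (-10)<|b (-2)<|b (-10)<|b 28<|c));
 (let c:=(b 420<|b (-1)<|b 3<|b (-9)<|b 15<|b (-5)<|b 0<|c);
 (d 75075<|d 83<|d (-125)<|d (-5005)<|d 15<|d (-12)<|d 42<|c)))))

/-- the character of degree 81081 -/
def r19 : List ℤ := (beta% delta% lq265bee135d fun _ b d e _ _ _ _ _ _ _ =>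
 (let c:=(let c:=(let c:=(let c:=(b 0<|b 2<|b 0<|b 0<|e);
 (b 0<|b 0<|b 0<|b 0<|c));
 (b 2<|b 6<|b 0<|b 0<|b 0<|b 1<|b 0<|c));
 (let c:=(let c:=(b 0<|b (-6)<|b 0<|b 2<|c);
 (b 0<|b (-1)<|b (-3)<|b 0<|c));
 (b (-3)<|b 0<|b 0<|b 0<|b (-2)<|b 0<|b 0<|c)));
 (let c:=(let c:=(let c:=(b 0<|b (-1)<|b 1<|b (-7)<|
 c);
 (b 9<|b 0<|b (-18)<|b 90<|c));
 (b 0<|b 6<|b (-3)<|b (-6)<|b (-3)<|b 9<|b (-6)<|c));
 (let c:=(b 0<|b (-3)<|b (-7)<|b (-3)<|b 5<|b 33<|b 6<|c);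
 (d 81081<|d (-87)<|d 633<|d 3465<|d 0<|d 162<|d 81<|c)))))

/-- the character of degree 114400 -/
def r20 : List ℤ := (beta% delta% lq265bee135d fun _ b d e _ _ _ _ _ _ _ =>
 (let c:=(let c:=(let c:=(let c:=(b 0<|b 1<|b (-1)<|b 0<|e);
 (b 0<|b 2<|b 0<|b (-1)<|c));
 (b (-1)<|b (-8)<|b 0<|b (-1)<|b 0<|b 0<|b 2<|c));
 (let c:=(let c:=(b 1<|b (-5)<|b 0<|b 0<|c);
 (b 0<|b 2<|b 0<|b 1<|c));
 (b (-4)<|b 1<|b (-2)<|b 4<|b 0<|b 0<|b 0<|c)));
 (let c:=(let c:=(let c:=(b (-1)<|b 0<|b 0<|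
 b 4<|c);
 (b 8<|b (-3)<|b (-52)<|b (-25)<|c));
 (b 2<|b (-4)<|b 2<|b (-1)<|b 0<|b 2<|b 12<|c));
 (let c:=(b 685<|b 0<|b 0<|b (-8)<|b (-40)<|b 64<|b 0<|c);
 (d 114400<|d 32<|d 480<|d (-8800)<|d (-26)<|d 28<|d (-8)<|c)))))

/-- the character of degree 150150 -/
def r21 : List ℤ := (beta% delta% lq265bee135d fun _ b d e _ _ _ _ _ _ _ =>
 (let c:=(let c:=(let c:=(let c:=(b 0<|b (-1)<|b 1<|b 0<|e);
 (b 1<|b 1<|b 0<|b 0<|c));
 (b 3<|b (-7)<|b 0<|b 0<|b 0<|b 0<|b (-2)<|c));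
 (let c:=(let c:=(b 5<|b (-1)<|b (-3)<|b 1<|c);
 (b 0<|b 0<|b 0<|b 1<|c));
 (b (-2)<|b 0<|b 0<|b (-3)<|b 0<|b 0<|b 0<|c)));
 (let c:=(let c:=(let c:=(b 0<|b 0<|b 2<|
 b 2<|c);
 (b 0<|b 13<|b 73<|b 55<|c));
 (b 0<|b 9<|b 0<|b (-9)<|b (-8)<|b (-8)<|b 25<|c));
 (let c:=(b 525<|b (-6)<|b 22<|b 10<|b (-30)<|b (-34)<|b 0<|c);
 (d 150150<|d 54<|d 70<|d 8470<|d (-24)<|d 57<|d 48<|c)))))

/-- the character of degree 205920 -/
def r22 : List ℤ := (beta% delta% lq265bee135d fun _ b d e _ _ _ _ _ _ _ =>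
 (let c:=(let c:=(let c:=(let c:=(b 0<|b (-1)<|b 1<|b 1<|e);
 (b 0<|b 0<|b (-1)<|b 1<|c));
 (b 3<|b (-8)<|b 0<|b (-1)<|b 1<|b 0<|b 0<|c));
 (let c:=(let c:=(b 1<|b (-5)<|b 0<|b 0<|c);
 (b 0<|b 0<|b 0<|b 1<|c));
 (b 4<|b 0<|b 0<|b 0<|b (-1)<|b 1<|b 0<|c)));
 (let c:=(let c:=(let c:=(b 1<|b 0<|
 b 0<|b (-4)<|c);
 (b (-8)<|b 9<|b (-24)<|b (-69)<|c));
 (b (-2)<|b (-8)<|b 4<|b (-5)<|b 0<|b 12<|b 0<|c));
 (let c:=(b (-279)<|b 0<|b 0<|b (-8)<|b 24<|b 64<|b (-5)<|c);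
 (d 205920<|d 160<|d 864<|d 1056<|d 18<|d (-144)<|d 72<|c)))))

/-- the character of degree 289575 -/
def r23 : List ℤ := (beta% delta% lq265bee135d fun _ b d e _ _ _ _ _ _ _ =>
 (let c:=(let c:=(let c:=(let c:=(b 0<|b (-1)<|b 1<|b 0<|e);
 (b 0<|b 0<|b 0<|b (-1)<|c));
 (b (-1)<|b 6<|b 0<|b (-1)<|b 0<|b 1<|b 0<|c));
 (let c:=(let c:=(b (-3)<|b 3<|b 0<|b 2<|c);
 (b 0<|b (-1)<|b 3<|b 1<|c));
 (b (-5)<|b 0<|b 0<|b 0<|b 0<|b 0<|b 0<|c)));
 (let c:=(let c:=(let c:=(b (-1)<|b 1<|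
 b 3<|b (-1)<|c);
 (b (-9)<|b 21<|b (-18)<|b (-45)<|c));
 (b 0<|b 6<|b (-3)<|b 3<|b 3<|b 9<|b (-6)<|c));
 (let c:=(b 405<|b 3<|b 23<|b (-5)<|b 35<|b 15<|b 0<|c);
 (d 289575<|d 183<|d 615<|d 12375<|d 0<|d 162<|d (-81)<|c)))))

/-- the character of degree 300300 -/
def r24 : List ℤ := (beta% delta% lq265bee135d fun _ b d e _ _ _ _ _ _ _ =>
 (let c:=(let c:=(let c:=(let c:=(b 0<|b 0<|b 0<|b 0<|e);
 (b 1<|b 1<|b 0<|b 0<|c));
 (b (-2)<|b 5<|b 0<|b 0<|b 0<|b 0<|b 1<|c));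
 (let c:=(let c:=(b 2<|b 2<|b (-1)<|b 1<|c);
 (b (-1)<|b (-2)<|b 2<|b 2<|c));
 (b 0<|b 0<|b (-3)<|b (-3)<|b 0<|b 0<|b 0<|c)));
 (let c:=(let c:=(let c:=(b 0<|b 0<|b (-4)<|b 0<|c);
 (b (-6)<|b (-2)<|b 49<|b (-50)<|
 c));
 (b 3<|b 9<|b 0<|b 6<|b (-2)<|b 4<|b (-11)<|c));
 (let c:=(b (-210)<|b 20<|b (-20)<|b (-4)<|b (-20)<|b (-4)<|b 0<|c);
 (d 300300<|d (-84)<|d 1420<|d (-7700)<|d (-21)<|d (-291)<|d 114<|c)))))

/-- the character of degree 320320 -/
def r25 : List ℤ := (beta% delta% lq265bee135d fun _ b d e _ _ _ _ _ _ _ =>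
 (let c:=(let c:=(let c:=(let c:=(b 0<|b 0<|b 0<|b (-1)<|e);
 (b 0<|b 0<|b 1<|b 0<|c));
 (b (-2)<|b 0<|b 0<|b 0<|b 1<|b 0<|b 0<|c));
 (let c:=(let c:=(b (-6)<|b 6<|b 0<|b 0<|c);
 (b 0<|b (-2)<|b 0<|b (-2)<|c));
 (b 0<|b 1<|b (-2)<|b 4<|b (-1)<|b (-1)<|b 0<|c)));
 (let c:=(let c:=(let c:=(b 0<|b 0<|
 b 0<|b 0<|c);
 (b 0<|b 6<|b (-12)<|b 114<|c));
 (b 0<|b (-12)<|b 6<|b (-6)<|b 0<|b 6<|b 12<|c));
 (let c:=(b 406<|b 0<|b 0<|b 16<|b 16<|b 0<|b (-5)<|c);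
 (d 320320<|d 192<|d 1344<|d 14784<|d (-8)<|d (-116)<|d 64<|c)))))

/-- the character of degree 360855 -/
def r26 : List ℤ := (beta% delta% lq265bee135d fun _ b d e _ _ _ _ _ _ _ =>
 (let c:=(let c:=(let c:=(let c:=(b 0<|b (-1)<|b (-1)<|b 1<|e);
 (b 0<|b 0<|b (-1)<|b 1<|c));
 (b (-3)<|b 0<|b 1<|b 0<|b (-1)<|b (-1)<|b 0<|c));
 (let c:=(let c:=(b (-3)<|b (-3)<|b 0<|b 0<|c);
 (b 0<|b 0<|b 0<|b 1<|c));
 (b (-1)<|b 0<|b 0<|b 0<|b 1<|b 1<|b 0<|c)));
 (let c:=(let c:=(let c:=(b (-2)<|b (-1)<|b (-1)<|b (-1)<|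
 c);
 (b 0<|b 9<|b 0<|b 81<|c));
 (b 0<|b 0<|b 0<|b 9<|b 0<|b 0<|b 0<|c));
 (let c:=(b 729<|b (-9)<|b (-9)<|b 7<|b 39<|b (-9)<|b 5<|c);
 (d 360855<|d 279<|d 1431<|d 18711<|d 0<|d 0<|d 0<|c)))))

/-- the character of degree 370656 -/
def r27 : List ℤ := (beta% delta% lq265bee135d fun _ b d e _ _ _ _ _ _ _ =>
 (let c:=(let c:=(let c:=(let c:=(b 0<|b (-1)<|b 1<|b 0<|e);
 (b 0<|b 0<|b 0<|b (-1)<|c));
 (b (-1)<|b 0<|b 0<|b 1<|b 0<|b 0<|b 0<|c));
 (let c:=(let c:=(b (-3)<|b 3<|b 0<|b 0<|c);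
 (b 0<|b 2<|b 0<|b 1<|c));
 (b 4<|b 0<|b 0<|b 0<|b (-2)<|b 0<|b 0<|c)));
 (let c:=(let c:=(let c:=(b (-1)<|b 0<|
 b 0<|b (-4)<|c);
 (b 0<|b 21<|b 36<|b (-45)<|c));
 (b 0<|b (-12)<|b 6<|b 3<|b 0<|b (-18)<|b (-12)<|c));
 (let c:=(b 405<|b 0<|b 0<|b (-8)<|b (-40)<|b 0<|b 6<|c);
 (d 370656<|d (-96)<|d 1248<|d (-15840)<|d 0<|d 324<|d 0<|c)))))

/-- the character of degree 450450 -/
def r28 : List ℤ := (beta% delta% lq265bee135d fun _ b d e _ _ _ _ _ _ _ =>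
 (let c:=(let c:=(let c:=(let c:=(b 0<|b (-1)<|b (-1)<|b 0<|e);
 (b 0<|b 0<|b 0<|b 0<|c));
 (b 1<|b 4<|b 0<|b 0<|b 0<|b 0<|b 0<|c));
 (let c:=(let c:=(b 1<|b 1<|b (-2)<|b 0<|c);
 (b 1<|b 1<|b 1<|b (-3)<|c));
 (b 2<|b 0<|b 0<|b 0<|b 0<|b 0<|b 0<|c)));
 (let c:=(let c:=(let c:=(b 0<|
 b 2<|b (-2)<|b 2<|c);
 (b 1<|b 21<|b (-36)<|b 45<|c));
 (b 1<|b 4<|b (-5)<|b (-11)<|b (-3)<|b (-9)<|b 0<|c));
 (let c:=(b (-315)<|b (-14)<|b (-30)<|b (-6)<|b 10<|b 130<|b 0<|c);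
 (d 450450<|d (-110)<|d 1170<|d 6930<|d 9<|d (-72)<|d 9<|c)))))

/-- the character of degree 450450 -/
def r29 : List ℤ := (beta% delta% lq265bee135d fun _ b d e _ _ _ _ _ _ _ =>
 (let c:=(let c:=(let c:=(let c:=(b 0<|b (-1)<|b 1<|b 0<|e);
 (b 0<|b 0<|b 0<|b 0<|c));
 (b (-3)<|b 3<|b 0<|b 0<|b 0<|b 0<|b 0<|c));
 (let c:=(let c:=(b 3<|b (-3)<|b 1<|b (-1)<|c);
 (b 1<|b 0<|b (-2)<|b (-1)<|c));
 (b (-2)<|b 0<|b 0<|b 0<|b 0<|b 0<|b 0<|c)));
 (let c:=(let c:=(let c:=(b 0<|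
 b 0<|b (-2)<|b 2<|c);
 (b (-2)<|b (-9)<|b 111<|b (-15)<|c));
 (b 1<|b 7<|b 4<|b (-23)<|b 6<|b 12<|b 3<|c));
 (let c:=(b 1575<|b (-2)<|b 2<|b (-10)<|b 30<|b (-6)<|b 0<|c);
 (d 450450<|d (-350)<|d 210<|d 25410<|d 9<|d 171<|d (-18)<|c)))))

/-- the character of degree 576576 -/
def r30 : List ℤ := (beta% delta% lq265bee135d fun _ b d e _ _ _ _ _ _ _ =>
 (let c:=(let c:=(let c:=(let c:=(b 0<|b 0<|b 0<|b (-1)<|e);
 (b 0<|b 0<|b (-1)<|b 0<|c));
 (b 2<|b 0<|b 0<|b 0<|b 1<|b 0<|b 0<|c));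
 (let c:=(let c:=(b (-6)<|b 6<|b 0<|b 0<|c);
 (b 0<|b 2<|b 0<|b 2<|c));
 (b 0<|b 0<|b 0<|b 0<|b 1<|b (-1)<|b 0<|c)));
 (let c:=(let c:=(let c:=(b 0<|
 b 0<|b 0<|b 0<|c);
 (b (-8)<|b (-18)<|b (-12)<|b 114<|c));
 (b (-2)<|b 4<|b (-2)<|b 10<|b 0<|b 6<|b 36<|c));
 (let c:=(b 126<|b 0<|b 0<|b (-16)<|b (-16)<|b 0<|b 1<|c);
 (d 576576<|d (-320)<|d 576<|d 14784<|d 18<|d 180<|d 72<|c)))))

/-- the character of degree 577368 -/
def r31 : List ℤ := (beta% delta% lq265bee135d fun _ b d e _ _ _ _ _ _ _ =>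
 (let c:=(let c:=(let c:=(let c:=(b 0<|b (-1)<|b (-1)<|b 1<|e);
 (b 0<|b 0<|b 1<|b 1<|c));
 (b (-3)<|b 0<|b (-1)<|b 1<|b (-1)<|b 0<|b 0<|c));
 (let c:=(let c:=(b (-3)<|b (-3)<|b 0<|b 0<|c);
 (b 0<|b 0<|b 0<|b 1<|c));
 (b (-4)<|
 b 0<|b 0<|b 0<|b 1<|b 1<|b 0<|c)));
 (let c:=(let c:=(let c:=(b 1<|b 0<|b 0<|b (-4)<|c);
 (b 0<|b 9<|b 0<|b 81<|c));
 (b 0<|b 0<|b 0<|b 9<|b 0<|b 0<|b 0<|c));
 (let c:=(b 729<|b 0<|b 24<|b (-8)<|b (-24)<|b 72<|b (-7)<|c);
 (d 577368<|d (-72)<|d 216<|d (-21384)<|d 0<|d 0<|d 0<|c)))))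

/-- the character of degree 579150 -/
def r32 : List ℤ := (beta% delta% lq265bee135d fun _ b d e _ _ _ _ _ _ _ =>
 (let c:=(let c:=(let c:=(let c:=(b 0<|b (-1)<|b (-1)<|b 0<|e);
 (b 0<|b 0<|b 0<|b 1<|c));
 (b (-1)<|b 0<|b 0<|b 0<|b 0<|b 0<|b 0<|c));
 (let c:=(let c:=(b 3<|b 3<|b 0<|b 0<|c);
 (b 0<|b (-1)<|b (-3)<|b (-1)<|c));
 (b 2<|b 0<|b 0<|b 0<|b 0<|b 0<|b 0<|c)));
 (let c:=(let c:=(let c:=(b (-2)<|b 2<|b 2<|b 2<|c);
 (b 9<|b (-21)<|b 36<|b (-45)<|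
 c));
 (b 0<|b (-12)<|b (-3)<|b 3<|b (-3)<|b 9<|b (-12)<|c));
 (let c:=(b (-405)<|b 6<|b 30<|b (-10)<|b (-10)<|b (-18)<|b 0<|c);
 (d 579150<|d 174<|d 1230<|d (-6930)<|d 0<|d 324<|d 81<|c)))))

/-- the character of degree 600600 -/
def r33 : List ℤ := (beta% delta% lq265bee135d fun _ b d e _ _ _ _ _ _ _ =>
 (let c:=(let c:=(let c:=(let c:=(b 0<|b 1<|b 1<|b 0<|e);
 (b (-1)<|b (-1)<|b 0<|b 0<|c));
 (b 1<|b 0<|b 0<|b 0<|b 0<|b 0<|b (-1)<|c));
 (let c:=(let c:=(b (-3)<|b (-3)<|b 0<|b 0<|c);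
 (b 0<|b (-2)<|b 0<|b 1<|c));
 (b 4<|b 0<|b 3<|b 3<|b 0<|b 0<|b 0<|c)));
 (let c:=(let c:=(let c:=(b 0<|
 b 0<|b 0<|b 4<|c);
 (b (-4)<|b (-19)<|b (-40)<|b 5<|c));
 (b 2<|b 8<|b 2<|b 5<|b (-4)<|b (-22)<|b (-16)<|c));
 (let c:=(b 525<|b 0<|b 24<|b (-8)<|b 40<|b 72<|b 0<|c);
 (d 600600<|d (-136)<|d 920<|d 21560<|d (-42)<|d (-96)<|d 12<|c)))))

/-- the character of degree 675675 -/
def r34 : List ℤ := (beta% delta% lq265bee135d fun _ b d e _ _ _ _ _ _ _ =>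
 (let c:=(let c:=(let c:=(let c:=(b 0<|b 0<|b 0<|b 0<|e);
 (b 0<|b 0<|b 0<|b 0<|c));
 (b 0<|b 3<|b 0<|b 0<|b 0<|b 1<|b 0<|c));
 (let c:=(let c:=(b 0<|b 0<|b 1<|b (-1)<|c);
 (b (-2)<|b 0<|b (-2)<|b 0<|c));
 (b 3<|b 0<|b 0<|b 0<|b 0<|b 0<|b 0<|c)));
 (let c:=(let c:=(let c:=(b 0<|b (-1)<|b (-1)<|
 b 3<|c);
 (b (-6)<|b 0<|b 27<|b 0<|c));
 (b 6<|b 3<|b 0<|b 0<|b (-6)<|b 0<|b 15<|c));
 (let c:=(b 0<|b (-5)<|b 11<|b 3<|b (-45)<|b 75<|b 0<|c);
 (d 675675<|d 411<|d (-165)<|d 10395<|d 54<|d 135<|d (-54)<|c)))))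

/-- the character of degree 720720 -/
def r35 : List ℤ := (beta% delta% lq265bee135d fun _ b d e _ _ _ _ _ _ _ =>
 (let c:=(let c:=(let c:=(let c:=(b 0<|b 0<|b 0<|b 1<|e);
 (b 0<|b 0<|b (-1)<|b 0<|c));
 (b 2<|b 10<|b 0<|b 0<|b 1<|b 0<|b 0<|c));
 (let c:=(let c:=(b (-2)<|b (-2)<|b 0<|b (-2)<|c);
 (b 0<|b 2<|b 0<|b (-2)<|c));
 (b 0<|b 0<|b 0<|b 0<|b (-1)<|b 1<|b 0<|c)));
 (let c:=(let c:=(let c:=(b 0<|b 0<|b 0<|b 0<|c);
 (b (-4)<|b (-6)<|b (-54)<|b (-54)<|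
 c));
 (b 2<|b 2<|b (-4)<|b 2<|b 0<|b 0<|b 6<|c));
 (let c:=(b 1386<|b 0<|b 16<|b 16<|b (-16)<|b (-80)<|b (-5)<|c);
 (d 720720<|d (-112)<|d 1104<|d (-33264)<|d (-18)<|d (-18)<|d 36<|c)))))

/-- the character of degree 800800 -/
def r36 : List ℤ := (beta% delta% lq265bee135d fun _ b d e _ _ _ _ _ _ _ =>
 (let c:=(let c:=(let c:=(let c:=(b 0<|b 1<|b (-1)<|b 0<|e);
 (b (-1)<|b 1<|b 0<|b 0<|c));
 (b 1<|b 0<|b 0<|b 0<|b 0<|b 0<|b 1<|c));
 (let c:=(let c:=(b 3<|b (-3)<|b 0<|b 0<|c);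
 (b 0<|b (-2)<|b 0<|b (-1)<|c));
 (b (-4)<|b 1<|b 1<|b (-5)<|b 0<|b 0<|b 0<|c)));
 (let c:=(let c:=(let c:=(b 0<|b 0<|
 b 0<|b 4<|c);
 (b (-8)<|b 11<|b (-8)<|b (-35)<|c));
 (b (-2)<|b (-8)<|b 4<|b 13<|b (-4)<|b (-8)<|b 8<|c));
 (let c:=(b (-245)<|b 0<|b 0<|b 8<|b 40<|b 0<|b 0<|c);
 (d 800800<|d (-416)<|d 800<|d (-12320)<|d 34<|d 520<|d 16<|c)))))

/-- the character of degree 852930 -/
def r37 : List ℤ := (beta% delta% lq265bee135d fun _ b d e _ _ _ _ _ _ _ =>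
 (let c:=(let c:=(let c:=(let c:=(b (-1)<|b 1<|b (-1)<|b (-1)<|e);
 (b 0<|b 0<|b 1<|b 1<|c));
 (b 3<|b 0<|b 0<|b (-1)<|b (-1)<|b 0<|b 0<|c));
 (let c:=(let c:=(b (-3)<|b 3<|b 0<|b 0<|c);
 (b 0<|b 0<|b 0<|b 1<|c));
 (b 2<|b 0<|b 0<|b 0<|b 1<|b (-1)<|b 1<|c)));
 (let c:=(let c:=(let c:=(b 1<|b 0<|b (-2)<|b (-2)<|
 c);
 (b 0<|b 9<|b 0<|b (-81)<|c));
 (b 0<|b 0<|b 0<|b (-9)<|b 0<|b 0<|b 0<|c));
 (let c:=(b 729<|b (-18)<|b 18<|b (-2)<|b 6<|b (-54)<|b 5<|c);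
 (d 852930<|d 18<|d 1026<|d (-29646)<|d 0<|d 0<|d 0<|c)))))

/-- the character of degree 938223 -/
def r38 : List ℤ := (beta% delta% lq265bee135d fun _ b d e _ _ _ _ _ _ _ =>
 (let c:=(let c:=(let c:=(let c:=(b 0<|b 1<|b 1<|b (-1)<|e);
 (b 0<|b 0<|b 0<|b (-1)<|c));
 (b 3<|b 0<|b 0<|b 1<|b 1<|b (-1)<|b 0<|c));
 (let c:=(let c:=(b 3<|b 3<|b 0<|b 0<|c);
 (b 0<|b 0<|b 0<|b (-1)<|c));
 (b (-5)<|b 0<|b 0<|b 0<|b 2<|b 2<|b 0<|c)));
 (let c:=(let c:=(let c:=(b (-1)<|b (-1)<|b (-1)<|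
 b (-5)<|c);
 (b 0<|b (-9)<|b 0<|b (-81)<|c));
 (b 0<|b 0<|b 0<|b (-9)<|b 0<|b 0<|b 0<|c));
 (let c:=(b (-729)<|b (-9)<|b 15<|b (-1)<|b 15<|b 63<|b (-2)<|c);
 (d 938223<|d 207<|d 1647<|d (-2673)<|d 0<|d 0<|d 0<|c)))))

/-- the character of degree 972972 -/
def r39 : List ℤ := (beta% delta% lq265bee135d fun _ b d e _ _ _ _ _ _ _ =>
 (let c:=(let c:=(let c:=(let c:=(b 0<|b 0<|b 0<|b 0<|e);
 (b 0<|b 0<|b (-1)<|b 0<|c));
 (b 0<|b (-3)<|b 0<|b 0<|b 0<|b 0<|b 0<|c));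
 (let c:=(let c:=(b 0<|b 0<|b 3<|b 1<|c);
 (b 0<|b 0<|b 0<|b 0<|c));
 (b 0<|b 0<|b 0<|b 0<|b 1<|b (-3)<|b 0<|c)));
 (let c:=(let c:=(let c:=(b 0<|b 0<|b 4<|
 b 0<|c);
 (b 0<|b 0<|b 81<|b 0<|c));
 (b 0<|b 9<|b 0<|b 0<|b 0<|b 0<|b (-27)<|c));
 (let c:=(b 0<|b (-12)<|b (-20)<|b 12<|b (-36)<|b 60<|b (-3)<|c);
 (d 972972<|d (-180)<|d 1836<|d (-24948)<|d 0<|d (-243)<|d 0<|c)))))

/-- the character of degree 1201200 -/
def r40 : List ℤ := (beta% delta% lq265bee135d fun _ b d e _ _ _ _ _ _ _ =>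
 (let c:=(let c:=(let c:=(let c:=(b 0<|b 0<|b 0<|b 0<|e);
 (b (-1)<|b 1<|b 0<|b 0<|c));
 (b 0<|b 2<|b 0<|b 0<|b 0<|b 0<|b (-2)<|c));
 (let c:=(let c:=(b (-4)<|b (-4)<|b (-2)<|b 2<|c);
 (b 1<|b 0<|b 4<|b 0<|c));
 (b 0<|b 0<|b 0<|b 3<|b 0<|b 0<|b 0<|c)));
 (let c:=(let c:=(let c:=(b 0<|
 b 0<|b 0<|b 0<|c);
 (b 8<|b (-28)<|b 34<|b (-20)<|c));
 (b (-1)<|b 2<|b 2<|b (-4)<|b (-4)<|b (-2)<|b 2<|c));
 (let c:=(b 420<|b 16<|b (-16)<|b 0<|b 0<|b (-16)<|b 0<|c);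
 (d 1201200<|d 176<|d 560<|d (-30800)<|d 51<|d (-30)<|d (-48)<|c)))))

/-- the character of degree 1360800 -/
def r41 : List ℤ := (beta% delta% lq265bee135d fun _ b d e _ _ _ _ _ _ _ =>
 (let c:=(let c:=(let c:=(let c:=(b 1<|b 0<|b 0<|b 0<|e);
 (b 0<|b 0<|b 0<|b 0<|c));
 (b 0<|b (-6)<|b (-1)<|b 0<|b 0<|b 0<|b 0<|c));
 (let c:=(let c:=(b 0<|b 0<|b 0<|b (-2)<|c);
 (b 0<|b 0<|b 0<|b 0<|c));
 (b 0<|b 0<|b 0<|b 0<|b 0<|b 0<|b 1<|c)));
 (let c:=(let c:=(let c:=(b 0<|b 0<|b 0<|b 0<|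
 c);
 (b 0<|b 0<|b (-54)<|b 0<|c));
 (b 0<|b 18<|b 0<|b 0<|b 0<|b 0<|b (-18)<|c));
 (let c:=(b 0<|b 0<|b (-32)<|b 0<|b 0<|b (-96)<|b 0<|c);
 (d 1360800<|d 288<|d 1440<|d 30240<|d 0<|d 486<|d 0<|c)))))

/-- the character of degree 1372800 -/
def r42 : List ℤ := (beta% delta% lq265bee135d fun _ b d e _ _ _ _ _ _ _ =>
 (let c:=(let c:=(let c:=(let c:=(b 0<|b 0<|b 0<|b 0<|e);
 (b 1<|b (-1)<|b 0<|b (-1)<|c));
 (b 0<|b 0<|b 0<|b 0<|b 0<|b 0<|b 2<|c));
 (let c:=(let c:=(b 0<|b 0<|b 0<|b 0<|c);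
 (b 0<|b 0<|b 0<|b 0<|c));
 (b 0<|b 0<|b 0<|b (-3)<|b 0<|b 0<|b 0<|c)));
 (let c:=(let c:=(let c:=(b 2<|b 0<|
 b 0<|b 0<|c);
 (b 8<|b (-8)<|b 32<|b (-40)<|c));
 (b (-4)<|b (-16)<|b (-4)<|b 8<|b (-8)<|b (-4)<|b (-8)<|c));
 (let c:=(b 1560<|b 0<|b 0<|b 0<|b 0<|b 0<|b 0<|c);
 (d 1372800<|d 128<|d 640<|d 49280<|d 12<|d (-312)<|d (-24)<|c)))))

/-- the character of degree 1441792 -/
def r43 : List ℤ := (beta% delta% lq265bee135d fun _ b d e _ _ _ _ _ _ _ =>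
 (let c:=(let c:=(let c:=(let c:=(b 0<|b 0<|b 0<|b 0<|e);
 (b 0<|b 0<|b 0<|b (-1)<|c));
 (b 0<|b 0<|b 1<|b 0<|b (-2)<|b 0<|b 0<|c));
 (let c:=(let c:=(b 0<|b 0<|b 0<|b 0<|c);
 (b 0<|b 0<|b 0<|b 0<|c));
 (b 0<|b (-2)<|b (-2)<|b 4<|
 b 0<|b 0<|b 0<|c)));
 (let c:=(let c:=(let c:=(b 2<|b 0<|b 0<|b 0<|c);
 (b 0<|b 0<|b 0<|b 0<|c));
 (b 0<|b 0<|b 0<|b 0<|b 0<|b 0<|b 0<|c));
 (let c:=(b (-512)<|b 0<|b 0<|b 0<|b 0<|b 0<|b (-8)<|c);
 (d 1441792<|d 0<|d 0<|d 0<|d (-8)<|d 640<|d 64<|c)))))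

/-- the character of degree 1791153 -/
def r44 : List ℤ := (beta% delta% lq265bee135d fun _ b d e _ _ _ _ _ _ _ =>
 (let c:=(let c:=(let c:=(let c:=(b 1<|b 0<|b 0<|b 0<|e);
 (b 0<|b 0<|b (-1)<|b 0<|c));
 (b 0<|b 0<|b 0<|b 0<|b 0<|b (-1)<|b 0<|c));
 (let c:=(let c:=(b 0<|b 0<|b 0<|b 0<|c);
 (b 0<|b 0<|b 0<|b 0<|c));
 (b (-3)<|b 0<|
 b 0<|b 0<|b (-1)<|b (-3)<|b 1<|c)));
 (let c:=(let c:=(let c:=(b 0<|b 1<|b (-3)<|b (-3)<|c);
 (b 0<|b 0<|b 0<|b 0<|c));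
 (b 0<|b 0<|b 0<|b 0<|b 0<|b 0<|b 0<|c));
 (let c:=(b 0<|b 9<|b 33<|b 9<|b 9<|b 81<|b 3<|c);
 (d 1791153<|d 81<|d (-2511)<|d (-5103)<|d 0<|d 0<|d 0<|c)))))

/-- the character of degree 1876446 -/
def r45 : List ℤ := (beta% delta% lq265bee135d fun _ b d e _ _ _ _ _ _ _ =>
 (let c:=(let c:=(let c:=(let c:=(b 0<|b 1<|b (-1)<|b (-1)<|e);
 (b 0<|b 0<|b 0<|b 1<|c));
 (b 3<|b 0<|b 0<|b 0<|b (-1)<|b 0<|b 0<|c));
 (let c:=(let c:=(b (-3)<|b 3<|b 0<|b 0<|c);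
 (b 0<|b 0<|b 0<|b 1<|c));
 (b 2<|b 0<|b 0<|b 0<|b 0<|b 2<|b 0<|c)));
 (let c:=(let c:=(let c:=(b (-2)<|b 0<|b 2<|
 b (-2)<|c);
 (b 0<|b 9<|b 0<|b (-81)<|c));
 (b 0<|b 0<|b 0<|b (-9)<|b 0<|b 0<|b 0<|c));
 (let c:=(b 729<|b 18<|b (-18)<|b 10<|b (-30)<|b 54<|b (-4)<|c);
 (d 1876446<|d (-306)<|d (-1890)<|d 37422<|d 0<|d 0<|d 0<|c)))))

/-- the character of degree 2027025 -/
def r46 : List ℤ := (beta% delta% lq265bee135d fun _ b d e _ _ _ _ _ _ _ =>
 (let c:=(let c:=(let c:=(let c:=(b 0<|b (-2)<|b 0<|b 0<|e);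
 (b 0<|b 0<|b 0<|b 0<|c));
 (b (-2)<|b 0<|b 0<|b 0<|b 0<|b 1<|b 0<|c));
 (let c:=(let c:=(b 0<|b 6<|b 0<|b 0<|c);
 (b 0<|b 1<|b (-3)<|b 0<|c));
 (b (-3)<|b 0<|b 0<|b 0<|b 0<|b 0<|b 0<|c)));
 (let c:=(let c:=(let c:=(b 0<|b (-1)<|
 b 1<|b 1<|c);
 (b 9<|b 0<|b (-36)<|b (-90)<|c));
 (b 0<|b 12<|b 3<|b 6<|b (-3)<|b (-9)<|b 12<|c));
 (let c:=(b 0<|b (-3)<|b (-15)<|b (-3)<|b 85<|b 9<|b 0<|c);
 (d 2027025<|d 33<|d (-1455)<|d (-24255)<|d 0<|d (-324)<|d 81<|c)))))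

/-- the character of degree 2050048 -/
def r47 : List ℤ := (beta% delta% lq265bee135d fun _ b d e _ _ _ _ _ _ _ =>
 (let c:=(let c:=(let c:=(let c:=(b 0<|b 0<|b 0<|b 0<|e);
 (b 2<|b 0<|b 0<|b 0<|c));
 (b 0<|b 0<|b 0<|b 0<|b (-2)<|b 0<|b 0<|c));
 (let c:=(let c:=(b 0<|b 0<|b 0<|b 0<|c);
 (b 0<|b 0<|b 0<|b 0<|c));
 (b 0<|
 b 1<|b 4<|b (-2)<|b (-2)<|b 0<|b 0<|c)));
 (let c:=(let c:=(let c:=(b 0<|b 0<|b 0<|b 0<|c);
 (b 0<|b (-16)<|b 0<|b 0<|c));
 (b 0<|b 0<|b 0<|b 0<|b 8<|b 0<|b 32<|c));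
 (let c:=(b (-1232)<|b 0<|b 0<|b 0<|b 0<|b 0<|b (-2)<|c);
 (d 2050048<|d 0<|d 2048<|d 0<|d (-8)<|d (-224)<|d (-80)<|c)))))

/-- the character of degree 2316600 -/
def r48 : List ℤ := (beta% delta% lq265bee135d fun _ b d e _ _ _ _ _ _ _ =>
 (let c:=(let c:=(let c:=(let c:=(b 0<|b 1<|b 1<|b 0<|e);
 (b 0<|b 0<|b 0<|b (-1)<|c));
 (b 1<|b (-6)<|b 0<|b 1<|b 0<|b 0<|b 0<|c));
 (let c:=(let c:=(b (-3)<|b (-3)<|b 0<|b (-2)<|c);
 (b 0<|b (-2)<|b 0<|b 1<|c));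
 (b 4<|b 0<|b 0<|b 0<|b 0<|b 0<|b 0<|c)));
 (let c:=(let c:=(let c:=(b (-1)<|b 0<|
 b 0<|b 4<|c);
 (b 0<|b 21<|b 18<|b 45<|c));
 (b 0<|b (-6)<|b (-6)<|b (-3)<|b 0<|b 18<|b 6<|c));
 (let c:=(b 405<|b 0<|b (-8)<|b (-8)<|b 40<|b (-24)<|b 0<|c);
 (d 2316600<|d 24<|d (-840)<|d (-43560)<|d 0<|d (-162)<|d 0<|c)))))

/-- the character of degree 2402400 -/
def r49 : List ℤ := (beta% delta% lq265bee135d fun _ b d e _ _ _ _ _ _ _ =>
 (let c:=(let c:=(let c:=(let c:=(b 0<|b 1<|b (-1)<|b 0<|e);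
 (b (-1)<|b (-1)<|b 0<|b 0<|c));
 (b (-1)<|b 8<|b 0<|b 0<|b 0<|b 0<|b (-1)<|c));
 (let c:=(let c:=(b 5<|b (-1)<|b 0<|b 0<|c);
 (b 0<|b 2<|b 0<|b 1<|c));
 (b (-4)<|b 0<|b 3<|b 3<|b 0<|b 0<|b 0<|c)));
 (let c:=(let c:=(let c:=(b 0<|
 b 0<|b 0<|b 4<|c);
 (b (-8)<|b 17<|b 8<|b 35<|c));
 (b (-2)<|b (-8)<|b 4<|b (-5)<|b (-4)<|b 8<|b (-16)<|c));
 (let c:=(b (-735)<|b 0<|b 0<|b (-8)<|b (-40)<|b (-64)<|b 0<|c);
 (d 2402400<|d 160<|d (-160)<|d 12320<|d (-6)<|d (-384)<|d 48<|c)))))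

/-- the character of degree 2555904 -/
def r50 : List ℤ := (beta% delta% lq265bee135d fun _ b d e _ _ _ _ _ _ _ =>
 (let c:=(let c:=(let c:=(let c:=(b 1<|b 0<|b 0<|b (-1)<|e);
 (b 0<|b (-2)<|b 0<|b 1<|c));
 (b 0<|b 0<|b 0<|b (-1)<|b 1<|b 0<|b 1<|c));
 (let c:=(let c:=(b 0<|b 0<|b 0<|b 0<|c);
 (b 0<|b 0<|b 0<|b 0<|c));
 (b 0<|
 b 0<|b (-3)<|b 0<|b 0<|b 2<|b (-1)<|c)));
 (let c:=(let c:=(let c:=(b 1<|b 0<|b 0<|b 0<|c);
 (b 0<|b 0<|b 64<|b 64<|c));
 (b 0<|b 0<|b 0<|b 0<|b 0<|b (-8)<|b 0<|c));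
 (let c:=(b (-384)<|b 0<|b 0<|b 0<|b 0<|b 0<|b 4<|c);
 (d 2555904<|d 0<|d 0<|d (-32768)<|d (-24)<|d 192<|d (-96)<|c)))))

/-- the character of degree 2555904 -/
def r51 : List ℤ := (beta% delta% lq265bee135d fun _ b d e _ _ _ _ _ _ _ =>
 (let c:=(let c:=(let c:=(let c:=(b (-1)<|b 0<|b 0<|b 1<|e);
 (b 0<|b 2<|b 0<|b 1<|c));
 (b 0<|b 0<|b 0<|b 1<|b 1<|b 0<|b (-1)<|c));
 (let c:=(let c:=(b 0<|b 0<|b 0<|b 0<|c);
 (b 0<|b 0<|b 0<|b 0<|c));
 (b 0<|
 b 0<|b (-3)<|b 0<|b 0<|b (-2)<|b (-1)<|c)));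
 (let c:=(let c:=(let c:=(b 1<|b 0<|b 0<|b 0<|c);
 (b 0<|b 0<|b (-64)<|b (-64)<|c));
 (b 0<|b 0<|b 0<|b 0<|b 0<|b 8<|b 0<|c));
 (let c:=(b (-384)<|b 0<|b 0<|b 0<|b 0<|b 0<|b 4<|c);
 (d 2555904<|d 0<|d 0<|d 32768<|d (-24)<|d 192<|d (-96)<|c)))))

/-- the character of degree 2729376 -/
def r52 : List ℤ := (beta% delta% lq265bee135d fun _ b d e _ _ _ _ _ _ _ =>
 (let c:=(let c:=(let c:=(let c:=(b (-1)<|b (-1)<|b 1<|b 1<|e);
 (b 0<|b 0<|b 1<|b (-1)<|c));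
 (b (-3)<|b 0<|b 0<|b (-1)<|b 1<|b 0<|b 0<|c));
 (let c:=(let c:=(b 3<|b (-3)<|b 0<|b 0<|c);
 (b 0<|b 0<|b 0<|b (-1)<|c));
 (b 4<|
 b 0<|b 0<|b 0<|b 1<|b 1<|b 1<|c)));
 (let c:=(let c:=(let c:=(b (-1)<|b 0<|b 0<|b (-4)<|c);
 (b 0<|b (-9)<|b 0<|b 81<|c));
 (b 0<|b 0<|b 0<|b 9<|b 0<|b 0<|b 0<|c));
 (let c:=(b (-729)<|b 0<|b 0<|b 8<|b (-24)<|b 0<|b 1<|c);
 (d 2729376<|d (-288)<|d (-864)<|d 7776<|d 0<|d 0<|d 0<|c)))))

/-- the invariant irreducible characters -/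
def rowA : List (List ℤ) := (beta% delta% lq265bee135d fun _ _ d e _ _ h _ _ _ _ =>
 (let c:=(let c:=(let c:=(h r46<|h r47<|
 h r48<|h r49<|h r50<|h r51<|h r52<|e);
 (h r39<|h r40<|h r41<|h r42<|h r43<|h r44<|h r45<|c));
 (let c:=(h r32<|h r33<|h r34<|h r35<|h r36<|h r37<|h r38<|c);
 (h r26<|h r27<|h r28<|h r29<|h r30<|h r31<|c)));
 (let c:=(let c:=(h r19<|h r20<|h r21<|h r22<|h r23<|h r24<|
 h r25<|c);
 (h r13<|h r14<|h r15<|h r16<|h r17<|h r18<|c));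
 (let c:=(h r6<|h r7<|h r8<|h r9<|h r10<|h r11<|h r12<|c);
 (d r0<|d r1<|d r2<|d r3<|d r4<|d r5<|c)))))

/-- the sums of two conjugate irreducible characters -/
def rowB : List (List ℤ) := (beta% delta% lq265bee135d fun _ b d e _ _ _ _ _ _ _ =>
 (d (let c:=(let c:=(let c:=(let c:=(b 0<|b 0<|b 0<|b 0<|e);
 (b 0<|b 0<|b 0<|b 0<|c));
 (b 4<|b (-2)<|b 1<|b 0<|b 0<|b 0<|b 0<|c));
 (let c:=(let c:=(b 4<|b 4<|b (-2)<|b (-2)<|c);
 (b (-2)<|b (-2)<|b (-2)<|b (-4)<|c));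
 (b 0<|b 0<|b 0<|b 0<|b 0<|b 0<|b 0<|c)));
 (let c:=(let c:=(let c:=(b 0<|b 0<|b 0<|b 0<|c);
 (b 6<|b 12<|b (-66)<|b 60<|
 c));
 (b (-6)<|b 30<|b 6<|b 12<|b 6<|b 6<|b (-18)<|c));
 (let c:=(b 1260<|b 16<|b 16<|b (-16)<|b (-80)<|b 16<|b 0<|c);
 (d 277200<|d (-48)<|d 720<|d (-18480)<|d 18<|d (-306)<|d (-90)<|c))))<|
 d (let c:=(let c:=(let c:=(let c:=(b 0<|b 0<|b 0<|b 0<|e);
 (b 0<|b 0<|b 0<|b 0<|c));
 (b 0<|b (-4)<|b 0<|b 0<|b 0<|b 0<|b 0<|c));
 (let c:=(let c:=(b 8<|b 8<|b 0<|b 4<|c);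
 (b 0<|b 0<|b 0<|b 0<|c));
 (b 0<|b (-2)<|b 4<|b (-8)<|b 0<|b 0<|b 0<|c)));
 (let c:=(let c:=(let c:=(b 0<|b 0<|b 0<|b 0<|c);
 (b (-8)<|b (-24)<|b (-132)<|
 b 120<|c));
 (b 4<|b (-20)<|b 4<|b (-8)<|b 0<|b 12<|b (-12)<|c));
 (let c:=(b 1960<|b 0<|b (-32)<|b 0<|b 0<|b 32<|b 0<|c);
 (d 800800<|d 160<|d (-480)<|d (-36960)<|d (-20)<|d 196<|d (-56)<|c))))<|
 d (let c:=(let c:=(let c:=(let c:=(b 0<|b 0<|b 0<|b 0<|e);
 (b (-2)<|b 2<|b 0<|b 0<|c));
 (b 0<|b (-6)<|b 0<|b 0<|b 0<|b 0<|b 2<|c));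
 (let c:=(let c:=(b 0<|b 0<|b 2<|b 2<|c);
 (b 2<|b 0<|b (-4)<|b 0<|c));
 (b 0<|b (-2)<|b (-2)<|b (-2)<|b 0<|b 0<|b 0<|c)));
 (let c:=(let c:=(let c:=(b 0<|b 0<|b 0<|b 0<|c);
 (b (-4)<|b 16<|b (-46)<|b 80<|
 c));
 (b 2<|b 2<|b (-4)<|b (-16)<|b 4<|b (-28)<|b 10<|c));
 (let c:=(b (-560)<|b 32<|b 32<|b 0<|b 0<|b (-96)<|b 0<|c);
 (d 800800<|d 32<|d 2080<|d 12320<|d 34<|d (-614)<|d (-20)<|c))))<|
 d (let c:=(let c:=(let c:=(let c:=(b (-1)<|b 0<|b 0<|b 0<|e);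
 (b 2<|b 2<|b 0<|b 0<|c));
 (b 0<|b 0<|b 0<|b 0<|b 0<|b 0<|b 2<|c));
 (let c:=(let c:=(b 0<|b 0<|b 0<|b 0<|c);
 (b 0<|b 0<|b 0<|b 0<|c));
 (b 0<|b 2<|b 2<|b 2<|b 0<|b 0<|b (-1)<|c)));
 (let c:=(let c:=(let c:=(b 0<|b 0<|b 0<|b 0<|c);
 (b (-16)<|b (-16)<|b 8<|b 80<|
 c));
 (b (-4)<|b 8<|b (-4)<|b (-16)<|b 8<|b (-28)<|b (-40)<|c));
 (let c:=(b 560<|b 0<|b 0<|b 0<|b 0<|b 0<|b 0<|c);
 (d 1164800<|d 512<|d (-2560)<|d (-17920)<|d 20<|d 344<|d 128<|c))))<|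
 d (let c:=(let c:=(let c:=(let c:=(b 0<|b 0<|b 0<|b 0<|e);
 (b (-2)<|b 0<|b 0<|b 0<|c));
 (b 4<|b 2<|b 0<|b 0<|b 0<|b 0<|b 0<|c));
 (let c:=(let c:=(b (-4)<|b (-4)<|b 2<|b 2<|c);
 (b 2<|b (-2)<|b 2<|b (-4)<|c));
 (b 0<|b 0<|b 0<|b (-6)<|b 0<|b 0<|b 0<|c)));
 (let c:=(let c:=(let c:=(b 0<|b 0<|b 0<|b 0<|c);
 (b 2<|b 4<|b 66<|
 b (-60)<|c));
 (b 2<|b 2<|b 2<|b 20<|b 10<|b (-6)<|b 34<|c));
 (let c:=(b 420<|b (-16)<|b (-16)<|b (-16)<|b (-80)<|b (-16)<|b 0<|c);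
 (d 1201200<|d 560<|d (-2000)<|d 18480<|d (-30)<|d (-30)<|d 114<|c))))<|
 d (let c:=(let c:=(let c:=(let c:=(b 1<|b 0<|b 0<|b 0<|e);
 (b 0<|b 0<|b 0<|b 0<|c));
 (b 0<|b (-6)<|b 0<|b 0<|b 0<|b 0<|b 0<|c));
 (let c:=(let c:=(b 0<|b 0<|b (-2)<|b 2<|c);
 (b (-2)<|b 0<|b 4<|b 0<|c));
 (b 0<|b 0<|b 0<|b 0<|b 0<|b 0<|b (-1)<|c)));
 (let c:=(let c:=(let c:=(b 0<|
 b 0<|b 0<|b 0<|c);
 (b 12<|b 0<|b (-54)<|b 0<|c));
 (b 6<|b (-6)<|b 0<|b 0<|b 12<|b 0<|b (-30)<|c));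
 (let c:=(b 0<|b (-32)<|b 32<|b 0<|b 0<|b (-96)<|b 0<|c);
 (d 1965600<|d (-480)<|d (-480)<|d 30240<|d 54<|d (-270)<|d 108<|c))))<|e))

theorem ops_chk : Sz.run dat ops seeds (fun a => decide (ix.map (ntd a []) = rowA ++ rowB)) = true :=
  Pk.run_of (2 ^ 36) (2 ^ 33) (by decide +kernel)

theorem rows_chk : okRows2 dat rowA rowB = true := Pk.rows_of (by decide +kernel)

theorem div_chk : okDiv dat = true := by decide +kernel

end Cfsg.Agent.TAB.F22
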