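import Cfsg.Agent.TAB.F22.Rep
import Cfsg.Agent.TAB.F22.Dat
import Cfsg.Agent.TAB.F22.FxA_m3
import Cfsg.Agent.TAB.F22.FxB_m3
import Cfsg.Agent.TAB.F22.FxC_m3
import Cfsg.Agent.S0157
import Cfsg.Agent.Lib.ListFast
import Cfsg.Agent.FastGrp
import Cfsg.Agent.Prune
set_option linter.all false
prune_inst 0x7f00000000000000000000000000000000000000000000000000000000000000000000000000000000000000000000000000000000000000000000000000000000000000000000000000000000000000003fffffffffffffffffffffffffffbeffbdffffffff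
open scoped Cfsg.Agent.FastGrp

/-!
# The 59 families of elements of `Fi22` (helper31, TAB; after helper714)

* `fam`, `ty` : the number of the class under `Fi22 : 2`; `fam_gal`, `ty_card`;
* `chi_ty`, `fx_dvd`, `ty_ord` : the values of the two characters and the orders;
* `td`, `mass`, `hom`, `tab` : the types and the table.
-/

set_option autoImplicit false
set_option maxRecDepth 100000
set_option exponentiation.threshold 5000
set_option synthInstance.maxSize 2000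
set_option synthInstance.maxHeartbeats 200000

namespace Cfsg.Agent.TAB.F22

open Cfsg Cfsg.Spor Cfsg.Agent.H123.Cls Cfsg.Agent.H123.Cls.FiDat Cfsg.Agent.TAB.Sz Cfsg.Agent.TAB.Use
open Cfsg.Agent.TAB.Eng hiding nth
open Cfsg.Agent.H494.F22 (A N A_conj card_A card_N N_le_A A_le_Aut rho rho_injective exists_aut tau_conj tau_inv
  tau_sq tau_mem_A sw S)
open Cfsg.Agent.H494.F22.Row (row)
open Cfsg.Agent.Fischer.Fi22Order (card_fi22)

theorem fin22 : Finite Spor.Fi22 := Nat.finite_of_card_ne_zero (by rw [card_fi22]; norm_num)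

/-- the representatives -/
noncomputable def rp (i : ℕ) : Spor.Fi22 := el (wd i)

theorem rp_tab {i : ℕ} (hi : i < D.length) (p : Fin 3510) : (rho (rp i) p : ℕ) = lk 12 (D[i]'hi).1 p := by
  have h : D.map (fun x => x.1) = W.map (fun y => y.1) := rfl
  have hW : i < W.length := hi
  have h1 : (D[i]'hi).1 = (W[i]'hW).1 := by
    have h2 : (D.map fun x => x.1)[i]'(by rw [List.length_map]; exact hi) = (D[i]'hi).1 := List.getElem_map _
    have h3 : (W.map fun x => x.1)[i]'(by rw [List.length_map]; exact hW) = (W[i]'hW).1 := List.getElem_map _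
    rw [← h2, ← h3]
    rfl
  rw [h1, ← comm_tab (W_chk _ (List.getElem_mem hW)), rp, wd,
    List.getD_eq_getElem _ _ (by rw [List.length_map]; exact hW), List.getElem_map, el_append, el_append, el_append,
    el_reverse, el_reverse]

/-- the invariants -/
noncomputable def kg (g : Spor.Fi22) : List ℕ := keys.map (pj row (rho g))

/-- the family -/
noncomputable def fam (g : Spor.Fi22) : ℕ := (D.map fun x => x.2.2).idxOf (kg g)

theorem fam_conj {b : Equiv.Perm (Fin 3510)} (hb : b ∈ A) {g h : Spor.Fi22} (e : rho h = b * rho g * b⁻¹) :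
    fam h = fam g := by
  have h1 : kg h = kg g := by
    rw [kg, kg, e]
    exact List.map_congr_left fun a _ => pj_conj (A_le_Aut hb) a
  rw [fam, fam, h1]

theorem fam_rp {i : ℕ} (hi : i < 59) : fam (rp i) = i := by
  have hi' : i < D.length := hi
  have hx := List.getElem_mem hi'
  have h1 : (D.map fun x => x.2.2)[i]'(by rw [List.length_map]; exact hi') = (D[i]).2.2 := List.getElem_map _
  rw [fam, kg, key_of_chk (by norm_num) (rp_tab hi') (D_sg _ hx) (D_len _ hx), ← h1]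
  exact D_nodup.idxOf_getElem i _

theorem fam_spec (g : Spor.Fi22) : fam g < 59 ∧ ∃ b ∈ A, rho g = b * rho (rp (fam g)) * b⁻¹ := by
  obtain ⟨x, hx, r, -, hr, b, hb, h⟩ := fi_cover (rho g) ⟨g, rfl⟩
  obtain ⟨i, hi, rfl⟩ := List.getElem_of_mem hx
  rw [perm_eq_of_tab hr (rp_tab hi)] at h
  rw [fam_conj hb h, fam_rp hi]
  exact ⟨hi, b, hb, h⟩

theorem fam_lt (g : Spor.Fi22) : fam g < 59 := (fam_spec g).1

theorem fam_gal (y y' : Spor.Fi22) (h : fam y = fam y') :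
    ∃ σ : MulAut Spor.Fi22, σ y = y' ∧ ∀ g, fam (σ g) = fam g := by
  obtain ⟨-, b, hb, e⟩ := fam_spec y
  obtain ⟨-, b', hb', e'⟩ := fam_spec y'
  obtain ⟨σ, hσ⟩ := exists_aut (A.mul_mem hb' (A.inv_mem hb))
  refine ⟨σ, rho_injective ?_, fun g => fam_conj (A.mul_mem hb' (A.inv_mem hb)) (hσ g)⟩
  rw [hσ, e, e', h]
  group

theorem fam_cj (c g : Spor.Fi22) : fam (c * g * c⁻¹) = fam g :=
  fam_conj (N_le_A ⟨c, rfl⟩) (by rw [map_mul, map_mul, map_inv])

/-- the type -/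
noncomputable def ty (g : Spor.Fi22) : ℕ := (fam g + 1) % 59

theorem ty_lt (g : Spor.Fi22) : ty g < 59 := Nat.mod_lt _ (by norm_num)

theorem ty_iff {g : Spor.Fi22} {t : ℕ} (ht : t < 59) : ty g = t ↔ fam g = (t + 58) % 59 := by
  have := fam_lt g
  unfold ty
  omega

theorem card_ge {t : ℕ} (ht : t < 59) : dat.cnt t ≤ Set.ncard {g : Spor.Fi22 | ty g = t} := by
  have := fin22
  have hi : (t + 58) % 59 < D.length := Nat.mod_lt _ (by norm_num)
  obtain ⟨l, L, hb⟩ := D_bd _ (List.getElem_mem hi)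
  have hc : Nat.card ↥(A ⊓ Subgroup.centralizer {rho (rp ((t + 58) % 59))}) ≤ (D[(t + 58) % 59]).2.1 + 1 := by
    refine card_le_bound (by norm_num) (rp_tab hi) hb (inf_le_left.trans A_le_Aut) fun σ hσ p => ?_
    have h1 := Subgroup.mem_centralizer_singleton_iff.1 (Subgroup.mem_inf.1 hσ).2
    exact congrArg (fun q : Equiv.Perm (Fin 3510) => q p) h1
  have h3 : ∀ t < 59, dat.cnt t ≤ (2 * 64561751654400) / ((D.getD ((t + 58) % 59) (0, 0, [])).2.1 + 1) := by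
    decide +kernel
  have h4 := h3 t ht
  rw [List.getD_eq_getElem _ _ hi] at h4
  refine (h4.trans ((Nat.div_le_div_right card_A).trans (H714.S8.Fam.ncard_cl _ hc))).trans ?_
  rw [← Set.ncard_image_of_injective _ rho_injective]
  refine Set.ncard_le_ncard ?_ (Set.toFinite _)
  rintro x ⟨a, ha, rfl⟩
  obtain ⟨g, hg⟩ := A_conj ha (⟨rp ((t + 58) % 59), rfl⟩ : rho _ ∈ N)
  exact ⟨g, (ty_iff ht).2 ((fam_conj ha hg).trans (fam_rp hi)), hg⟩

theorem ty_card {t : ℕ} (ht : t < 59) : Nat.card {g : Spor.Fi22 // ty g = t} = dat.cnt t := by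
  classical
  have := fin22
  have := Fintype.ofFinite Spor.Fi22
  have e : ∀ t, Set.ncard {g : Spor.Fi22 | ty g = t} = (Finset.univ.filter fun g : Spor.Fi22 => ty g = t).card :=
    fun t => by rw [← Set.ncard_coe_finset, Finset.coe_filter]; simp
  have h1 : ∑ i ∈ Finset.range 59, (Finset.univ.filter fun g : Spor.Fi22 => ty g = i).card = 64561751654400 := by
    rw [← Finset.card_eq_sum_card_fiberwise (f := ty) (s := Finset.univ) (t := Finset.range 59)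
      (fun g _ => Finset.mem_coe.2 (Finset.mem_range.2 (ty_lt g))), Finset.card_univ, ← Nat.card_eq_fintype_card,
      card_fi22]
  have h2 : ∑ i ∈ Finset.range 59, dat.cnt i = 64561751654400 := by decide +kernel
  rw [(Finset.sum_eq_sum_iff_of_le fun i hi => e i ▸ card_ge (Finset.mem_range.1 hi)).1 (h2.trans h1.symm) t
    (Finset.mem_range.2 ht), Nat.card_eq_fintype_card, Fintype.card_subtype]

/-! ### the character of degree 78 -/

theorem rho_sw : ∀ w : List ℕ, (∀ x ∈ w, x < 9) →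
    rho (el (w.map sw)) = H494.F22.tau * rho (el w) * H494.F22.tau⁻¹
  | [], _ => by simp [el]
  | x :: w, h => by
    have hx := h x List.mem_cons_self
    have hs : ∀ x < 9, sw x < 9 := by decide
    rw [List.map_cons, el_cons, el_cons, map_mul, map_mul, rho_sw w fun y hy => h y (List.mem_cons_of_mem _ hy),
      gn_S hx, gn_S (hs x hx), ← tau_conj hx]
    group

theorem chi_cj (c g : Spor.Fi22) : chi (c * g * c⁻¹) = chi g := by
  rw [chi, chi, map_mul, Matrix.trace_mul_comm, ← map_mul, inv_mul_cancel_left]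

theorem chi_fam (g : Spor.Fi22) : chi g = (c78.getD (fam g) 0 : ℤ) := by
  obtain ⟨hi, b, hb, e⟩ := fam_spec g
  rcases H878.EPX.FiK.A_le hb with ⟨n, hn⟩ | ⟨n, hn⟩
  · have h1 : g = n * rp (fam g) * n⁻¹ := rho_injective (by rw [map_mul, map_mul, map_inv, hn, ← e])
    exact (congrArg chi h1).trans ((chi_cj n _).trans (chi_el (tr_chk _ hi)))
  · have h0 := tr_chk _ hi
    rw [trB, Bool.and_eq_true, Bool.and_eq_true] at h0
    have h1 : g = n * el ((wd (fam g)).map sw) * n⁻¹ := rho_injective (by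
      rw [map_mul, map_mul, map_inv, hn, rho_sw _ fun x hx => Nat.blt_eq.mp (allL_spec h0.1.1 x hx), mul_inv_rev,
        tau_inv]
      calc rho g = b * (H494.F22.tau * H494.F22.tau) * rho (rp (fam g)) * (H494.F22.tau * H494.F22.tau) * b⁻¹ := by
            rw [tau_sq, mul_one, mul_one, ← e]
        _ = _ := by rw [rp]; group)
    exact (congrArg chi h1).trans ((chi_cj n _).trans (chi_el (tr_chk' _ hi)))

theorem chi_ty (g : Spor.Fi22) : chi g = (Eng.nth vC (ty g) : ℤ) := by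
  have h : ∀ i < 59, c78.getD i 0 = Eng.nth vC ((i + 1) % 59) := by decide +kernel
  rw [chi_fam, h _ (fam_lt g), ty]

theorem chi_sq {g : Spor.Fi22} (h : ty g = 56 ∨ ty g = 57) : Eng.nth vC (ty (g ^ 2)) = 3 := by
  have h1 : fam g ∈ [55, 56] := by
    rcases h with h | h <;> rw [(ty_iff (by norm_num)).1 h] <;> decide
  obtain ⟨σ, h2, h3⟩ := fam_gal (rp (fam g)) g (fam_rp (fam_lt g))
  have h4 := chi_el (tr_sq _ h1)
  rw [el_append, ← sq, chi_ty, ty, ← h3, map_pow, show σ (el (wd (fam g))) = g from h2] at h4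
  exact_mod_cast h4

/-! ### the permutation character -/

/-- the number of the fixed points -/
noncomputable def fx (g : Spor.Fi22) : ℕ := Nat.card {p : Fin 3510 // rho g p = p}

theorem fx_isChar : IsCharacter Spor.Fi22 fun g => (fx g : ℂ) :=
  letI := MulAction.compHom (Fin 3510) rho
  S0157.isCharacter_fixedBy (G := Spor.Fi22) (Fin 3510)

/-- tables, divisors of the orders, numbers of fixed points -/
noncomputable def LF : List (ℕ × List ℕ × List ℕ) := [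
  (p0, [1, 2], [54, 3510]), (p1, [1, 2], [182, 3510]), (p2, [1, 2], [694, 3510]), (p3, [1, 3], [0, 3510]),
  (p4, [1, 3], [27, 3510]), (p5, [1, 3], [36, 3510]), (p6, [1, 3], [126, 3510]), (p7, [1, 2, 4], [6, 54, 3510]),
  (p8, [1, 2, 4], [6, 182, 3510]), (p9, [1, 2, 4], [14, 182, 3510]), (p10, [1, 2, 4], [30, 182, 3510]),
  (p11, [1, 2, 4], [38, 182, 3510]), (p12, [1, 5], [10, 3510]), (p13, [1, 2, 3, 6], [0, 0, 54, 3510]),
  (p14, [1, 2, 3, 6], [3, 27, 54, 3510]), (p15, [1, 2, 3, 6], [6, 36, 54, 3510]),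
  (p16, [1, 2, 3, 6], [6, 126, 54, 3510]), (p17, [1, 2, 3, 6], [8, 36, 182, 3510]),
  (p18, [1, 2, 3, 6], [10, 36, 694, 3510]), (p19, [1, 2, 3, 6], [11, 27, 182, 3510]),
  (p20, [1, 2, 3, 6], [12, 36, 54, 3510]), (p21, [1, 2, 3, 6], [14, 126, 182, 3510]),
  (p22, [1, 2, 3, 6], [19, 27, 694, 3510]), (p23, [1, 2, 3, 6], [46, 126, 694, 3510]), (p24, [1, 7], [3, 3510]),
  (p25, [1, 2, 4, 8], [2, 6, 54, 3510]), (p26, [1, 2, 4, 8], [2, 6, 182, 3510]),
  (p27, [1, 2, 4, 8], [6, 38, 182, 3510]), (p28, [1, 2, 4, 8], [6, 38, 182, 3510]), (p29, [1, 3, 9], [0, 0, 3510]),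
  (p30, [1, 3, 9], [3, 27, 3510]), (p31, [1, 3, 9], [6, 27, 3510]), (p32, [1, 2, 5, 10], [2, 10, 182, 3510]),
  (p33, [1, 2, 5, 10], [4, 10, 694, 3510]), (p34, [1, 11], [1, 3510]),
  (p35, [1, 2, 3, 4, 6, 12], [0, 0, 6, 0, 54, 3510]), (p36, [1, 2, 3, 4, 6, 12], [0, 8, 30, 36, 182, 3510]),
  (p37, [1, 2, 3, 4, 6, 12], [0, 12, 6, 36, 54, 3510]), (p38, [1, 2, 3, 4, 6, 12], [2, 14, 14, 126, 182, 3510]),
  (p39, [1, 2, 3, 4, 6, 12], [2, 14, 38, 126, 182, 3510]), (p40, [1, 2, 3, 4, 6, 12], [2, 14, 38, 126, 182, 3510]),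
  (p41, [1, 2, 3, 4, 6, 12], [3, 3, 6, 27, 54, 3510]), (p42, [1, 2, 3, 4, 6, 12], [3, 11, 6, 27, 182, 3510]),
  (p43, [1, 2, 3, 4, 6, 12], [6, 14, 30, 126, 182, 3510]), (p44, [1, 2, 3, 4, 6, 12], [11, 11, 38, 27, 182, 3510]),
  (p45, [1, 13], [0, 3510]), (p46, [1, 2, 7, 14], [1, 3, 694, 3510]), (p47, [1, 3, 5, 15], [1, 10, 126, 3510]),
  (p48, [1, 2, 4, 8, 16], [0, 2, 6, 182, 3510]), (p49, [1, 2, 3, 6, 9, 18], [1, 3, 19, 27, 694, 3510]),
  (p50, [1, 2, 3, 6, 9, 18], [2, 6, 11, 27, 182, 3510]), (p51, [1, 2, 3, 6, 9, 18], [4, 6, 19, 27, 694, 3510]),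
  (p52, [1, 2, 4, 5, 10, 20], [0, 2, 10, 30, 182, 3510]), (p53, [1, 3, 7, 21], [0, 3, 126, 3510]),
  (p54, [1, 2, 11, 22], [1, 1, 694, 3510]), (p55, [1, 2, 3, 4, 6, 8, 12, 24], [0, 2, 6, 14, 38, 126, 182, 3510]),
  (p56, [1, 2, 3, 4, 6, 8, 12, 24], [0, 2, 6, 14, 38, 126, 182, 3510]),
  (p57, [1, 2, 3, 5, 6, 10, 15, 30], [1, 1, 4, 46, 10, 126, 694, 3510]), (p58, [1], [3510])]

theorem LF_chk : ∀ q ∈ LF, chkSig 3510 12 row 12 q.1 (q.2.1.map fun d => (false, d)) q.2.2 = true :=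
  List.forall_mem_cons.2 ⟨fx0, List.forall_mem_cons.2 ⟨fx1, List.forall_mem_cons.2 ⟨fx2,
  List.forall_mem_cons.2 ⟨fx3, List.forall_mem_cons.2 ⟨fx4, List.forall_mem_cons.2 ⟨fx5,
  List.forall_mem_cons.2 ⟨fx6, List.forall_mem_cons.2 ⟨fx7, List.forall_mem_cons.2 ⟨fx8,
  List.forall_mem_cons.2 ⟨fx9, List.forall_mem_cons.2 ⟨fx10, List.forall_mem_cons.2 ⟨fx11,
  List.forall_mem_cons.2 ⟨fx12, List.forall_mem_cons.2 ⟨fx13, List.forall_mem_cons.2 ⟨fx14,
  List.forall_mem_cons.2 ⟨fx15, List.forall_mem_cons.2 ⟨fx16, List.forall_mem_cons.2 ⟨fx17,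
  List.forall_mem_cons.2 ⟨fx18, List.forall_mem_cons.2 ⟨fx19, List.forall_mem_cons.2 ⟨fx20,
  List.forall_mem_cons.2 ⟨fx21, List.forall_mem_cons.2 ⟨fx22, List.forall_mem_cons.2 ⟨fx23,
  List.forall_mem_cons.2 ⟨fx24, List.forall_mem_cons.2 ⟨fx25, List.forall_mem_cons.2 ⟨fx26,
  List.forall_mem_cons.2 ⟨fx27, List.forall_mem_cons.2 ⟨fx28, List.forall_mem_cons.2 ⟨fx29,
  List.forall_mem_cons.2 ⟨fx30, List.forall_mem_cons.2 ⟨fx31, List.forall_mem_cons.2 ⟨fx32,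
  List.forall_mem_cons.2 ⟨fx33, List.forall_mem_cons.2 ⟨fx34, List.forall_mem_cons.2 ⟨fx35,
  List.forall_mem_cons.2 ⟨fx36, List.forall_mem_cons.2 ⟨fx37, List.forall_mem_cons.2 ⟨fx38,
  List.forall_mem_cons.2 ⟨fx39, List.forall_mem_cons.2 ⟨fx40, List.forall_mem_cons.2 ⟨fx41,
  List.forall_mem_cons.2 ⟨fx42, List.forall_mem_cons.2 ⟨fx43, List.forall_mem_cons.2 ⟨fx44,
  List.forall_mem_cons.2 ⟨fx45, List.forall_mem_cons.2 ⟨fx46, List.forall_mem_cons.2 ⟨fx47,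
  List.forall_mem_cons.2 ⟨fx48, List.forall_mem_cons.2 ⟨fx49, List.forall_mem_cons.2 ⟨fx50,
  List.forall_mem_cons.2 ⟨fx51, List.forall_mem_cons.2 ⟨fx52, List.forall_mem_cons.2 ⟨fx53,
  List.forall_mem_cons.2 ⟨fx54, List.forall_mem_cons.2 ⟨fx55, List.forall_mem_cons.2 ⟨fx56,
  List.forall_mem_cons.2 ⟨fx57, List.forall_mem_cons.2 ⟨fx58,
  List.forall_mem_nil _⟩⟩⟩⟩⟩⟩⟩⟩⟩⟩⟩⟩⟩⟩⟩⟩⟩⟩⟩⟩⟩⟩⟩⟩⟩⟩⟩⟩⟩⟩⟩⟩⟩⟩⟩⟩⟩⟩⟩⟩⟩⟩⟩⟩⟩⟩⟩⟩⟩⟩⟩⟩⟩⟩⟩⟩⟩⟩⟩

private noncomputable def _root_.Cfsg.Agent.LsF.f0cf40c_0 : {f // @Cfsg.Agent.TAB.Eng.Dat.ord = f} := ⟨_, by first | (delta Cfsg.Agent.TAB.Eng.Dat.ord; rewrite [Cfsg.Agent.LsF.getD_eq]; exact rfl) | exact rfl⟩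
private noncomputable def _root_.Cfsg.Agent.LsF.f0cf40c_1 : {f // @Cfsg.Agent.TAB.Eng.look = f} := ⟨_, by first | (delta Cfsg.Agent.TAB.Eng.look List.brecOn List.brecOn.go Cfsg.Agent.TAB.Eng.look._f; rewrite [Cfsg.Agent.LsF.instDecEq_eq, Cfsg.Agent.LsF.ite_eq]; (try delta Cfsg.Agent.TAB.Eng.look.match_1); (try delta List.casesOn); first | dsimp -zeta only | exact rfl) | exact rfl⟩
private noncomputable def _root_.Cfsg.Agent.LsF.f0cf40c_2 : {f // @Cfsg.Agent.TAB.Eng.Dat.pw = f} := ⟨_, by first | (delta Cfsg.Agent.TAB.Eng.Dat.pw; rewrite [Cfsg.Agent.LsF.getD_eq]; exact rfl) | exact rfl⟩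
theorem LF_dat : ∀ i < 59, (LF.getD i (0, [], [])).2.2.length = (LF.getD i (0, [], [])).2.1.length ∧
    0 < dat.ord ((i + 1) % 59) ∧ dat.ord ((i + 1) % 59) < 31 ∧ ∀ d < 31, d ∣ dat.ord ((i + 1) % 59) → ∃ k < 8,
      (LF.getD i (0, [], [])).2.1[k]? = some d ∧
        (LF.getD i (0, [], [])).2.2[k]? = some (Eng.nth vF (look (dat.pw ((i + 1) % 59)) d)).toNat ∧
          0 ≤ Eng.nth vF (look (dat.pw ((i + 1) % 59)) d) := by (refine of_decide_eq_true ?_; (try (rewrite [Cfsg.Agent.LsF.f0cf40c_0.2, Cfsg.Agent.LsF.f0cf40c_1.2, Cfsg.Agent.LsF.f0cf40c_2.2, Cfsg.Agent.LsF.nadd_pat, Cfsg.Agent.LsF.nmod_pat, Cfsg.Agent.LsF.instDecEq_eq, Cfsg.Agent.LsF.decLt_eq, Cfsg.Agent.LsF.getD_eq, Cfsg.Agent.LsF.instGetElem?_eq, Cfsg.Agent.LsF.toNat_eq, Cfsg.Agent.LsF.idecLe_eq, Cfsg.Agent.LsF.dAnd_eq, Cfsg.Agent.LsF.dBallLT_eq, Cfsg.Agent.LsF.dExistsLT_eq, Cfsg.Agent.LsF.decide_eq])); decide +kernel)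

theorem ord_lt (g : Spor.Fi22) : 0 < dat.ord (ty g) ∧ dat.ord (ty g) < 31 :=
  ⟨(LF_dat _ (fam_lt g)).2.1, (LF_dat _ (fam_lt g)).2.2.1⟩

theorem fx_dvd (g : Spor.Fi22) {d : ℕ} (hd : d ∣ dat.ord (ty g)) :
    (fx (g ^ d) : ℤ) = Eng.nth vF (look (dat.pw (ty g)) d) := by
  obtain ⟨hi, b, hb, e⟩ := fam_spec g
  have hi' : fam g < LF.length := hi
  have hi'' : fam g < D.length := hi
  obtain ⟨h1, h2, h3, h4⟩ := LF_dat _ hi
  obtain ⟨k, -, h5, h6, h7⟩ := h4 d ((Nat.le_of_dvd h2 hd).trans_lt h3) hd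
  rw [List.getD_eq_getElem _ _ hi'] at h1 h5 h6
  have h8 : (LF[fam g]'hi').1 = (D[fam g]'hi'').1 := by
    have h2 : (D.map fun x => x.1)[fam g]'(by rw [List.length_map]; exact hi'') = (D[fam g]'hi'').1 :=
      List.getElem_map _
    have h3 : (LF.map fun x => x.1)[fam g]'(by rw [List.length_map]; exact hi') = (LF[fam g]'hi').1 :=
      List.getElem_map _
    rw [← h2, ← h3]
    rfl
  have h9 := sig_of_chk (by norm_num) (fun p => (rp_tab hi'' p).trans (congrArg (fun P => lk 12 P p) h8.symm)) 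
    (LF_chk _ (List.getElem_mem hi')) (by rw [List.length_map, h1])
  rw [← h9, List.getElem?_map, List.getElem?_map, h5, Option.map_some, Option.map_some, Option.some_inj,
    ← pwc_conj (A_le_Aut hb), ← e] at h6
  have h10 : fx (g ^ d) = pwc row (rho g) (false, d) := by
    rw [fx, map_pow]
    rfl
  rw [h10, h6, Int.toNat_of_nonneg h7, ty]

theorem fx_eq {g : Spor.Fi22} : fx g = 3510 ↔ g = 1 := by
  constructor
  · intro h
    refine rho_injective (Equiv.ext fun p => ?_)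
    have h1 : Set.ncard {p : Fin 3510 | rho g p = p} = Set.ncard (Set.univ : Set (Fin 3510)) := by
      rw [Set.ncard_univ, Nat.card_fin]
      exact h
    have h2 := Set.eq_of_subset_of_ncard_le (Set.subset_univ _) h1.ge
    rw [map_one]
    exact (h2 ▸ Set.mem_univ p : p ∈ {p : Fin 3510 | rho g p = p})
  · rintro rfl
    rw [fx, Nat.card_congr (Equiv.subtypeUnivEquiv fun p => by rw [map_one]; rfl), Nat.card_fin]

theorem ty_ord (g : Spor.Fi22) : orderOf g = dat.ord (ty g) := by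
  have h : ∀ t < 59, ∀ d < 31, d ∣ dat.ord t → (Eng.nth vF (look (dat.pw t) d) = 3510 ↔ d = dat.ord t) := by
    (refine of_decide_eq_true ?_; (try (rewrite [Cfsg.Agent.LsF.f0cf40c_0.2, Cfsg.Agent.LsF.f0cf40c_1.2, Cfsg.Agent.LsF.f0cf40c_2.2, Cfsg.Agent.LsF.instDecEq_eq, Cfsg.Agent.LsF.instIDecEq_eq, Cfsg.Agent.LsF.dBallLT_eq, Cfsg.Agent.LsF.decide_eq])); decide +kernel)
  obtain ⟨h1, h2⟩ := ord_lt g
  have h3 : orderOf g ∣ dat.ord (ty g) := by
    have h4 := fx_dvd g dvd_rfl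
    rw [(h _ (ty_lt g) _ h2 dvd_rfl).2 rfl] at h4
    exact orderOf_dvd_of_pow_eq_one (fx_eq.1 (by exact_mod_cast h4))
  refine (h _ (ty_lt g) _ ((Nat.le_of_dvd h1 h3).trans_lt h2) h3).1 ?_
  rw [← fx_dvd g h3, pow_orderOf_eq_one, fx_eq.2 rfl]
  rfl

theorem ty_gal (g : Spor.Fi22) (k : ℕ) (hk : Nat.Coprime k (orderOf g)) : ty (g ^ k) = ty g := by
  have := fin22
  have h : ∀ t < 59, ∀ u < 59, dat.ord u = dat.ord t → Eng.nth vC u = Eng.nth vC t → (∀ d < 31, d ∣ dat.ord t →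
      Eng.nth vF (look (dat.pw u) d) = Eng.nth vF (look (dat.pw t) d)) → u = t := by (refine of_decide_eq_true ?_; (try (rewrite [Cfsg.Agent.LsF.f0cf40c_0.2, Cfsg.Agent.LsF.f0cf40c_1.2, Cfsg.Agent.LsF.f0cf40c_2.2, Cfsg.Agent.LsF.instDecEq_eq, Cfsg.Agent.LsF.instIDecEq_eq, Cfsg.Agent.LsF.dBallLT_eq, Cfsg.Agent.LsF.decide_eq])); decide +kernel)
  have h1 : dat.ord (ty (g ^ k)) = dat.ord (ty g) := by rw [← ty_ord, ← ty_ord, hk.symm.orderOf_pow]
  refine h _ (ty_lt g) _ (ty_lt _) h1 (gen_gal (Characters.Brauer.isGeneralizedCharacter_of_isCharacter chi_isChar) hk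
    (chi_ty _) (chi_ty _)) fun d _ hd => ?_
  rw [← fx_dvd g hd, ← fx_dvd _ (h1 ▸ hd), ← pow_mul, mul_comm, pow_mul]
  exact gen_gal (Characters.Brauer.isGeneralizedCharacter_of_isCharacter fx_isChar)
    (hk.coprime_dvd_right (orderOf_pow_dvd d)) (Int.cast_natCast _).symm (Int.cast_natCast _).symm

private noncomputable def _root_.Cfsg.Agent.LsF.f0cf40c_3 : {f // @Cfsg.Agent.TAB.Eng.Dat.pwf = f} := ⟨_, by first | (delta Cfsg.Agent.TAB.Eng.Dat.pwf; rewrite [Cfsg.Agent.LsF.f0cf40c_1.2, Cfsg.Agent.LsF.f0cf40c_2.2, Cfsg.Agent.LsF.f0cf40c_0.2]; exact rfl) | exact rfl⟩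
theorem ty_pp (g : Spor.Fi22) (p : ℕ) (hp : p.Prime) (h : p ∣ orderOf g) : ty (g ^ p) = dat.pwf (ty g) p := by
  have := fin22
  have h1 : ∀ p ∈ [2, 3, 5, 7, 11, 13, 17, 19, 23, 29], ∀ t < 59, ∀ u < 59, dat.ord t = p * dat.ord u →
      (Eng.nth vC u - Eng.nth vC t) % (p : ℕ) = 0 → (∀ d < 31, d ∣ dat.ord u →
        Eng.nth vF (look (dat.pw u) d) = Eng.nth vF (look (dat.pw t) (p * d))) →
      (p = 2 → t = 56 ∨ t = 57 → Eng.nth vC u = 3) → u = dat.pwf t p := by (refine of_decide_eq_true ?_; (try (rewrite [Cfsg.Agent.LsF.f0cf40c_0.2, Cfsg.Agent.LsF.f0cf40c_1.2, Cfsg.Agent.LsF.f0cf40c_2.2, Cfsg.Agent.LsF.f0cf40c_3.2, Cfsg.Agent.LsF.nmul_pat, Cfsg.Agent.LsF.isub_pat, Cfsg.Agent.LsF.imod_pat, Cfsg.Agent.LsF.icast_pat, Cfsg.Agent.LsF.instDecEq_eq, Cfsg.Agent.LsF.instIDecEq_eq, Cfsg.Agent.LsF.dOr_eq, Cfsg.Agent.LsF.dBAll_eq, Cfsg.Agent.LsF.dBallLT_eq, Cfsg.Agent.LsF.decide_eq])); decide +kernel)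
  have h2 : ∀ p < 31, p.Prime → p ∈ [2, 3, 5, 7, 11, 13, 17, 19, 23, 29] := by
    intro p hp
    interval_cases p <;> decide
  have h3 : dat.ord (ty g) = p * dat.ord (ty (g ^ p)) := by
    rw [← ty_ord, ← ty_ord, orderOf_pow' _ hp.ne_zero, Nat.gcd_eq_right h, Nat.mul_div_cancel' h]
  refine h1 p (h2 p ((Nat.le_of_dvd (orderOf_pos g) h).trans_lt (ty_ord g ▸ (ord_lt g).2)) hp) _ (ty_lt g) _ (ty_lt _)
    h3 (gen_cong' (Characters.Brauer.isGeneralizedCharacter_of_isCharacter chi_isChar) hp (chi_ty _) (chi_ty _))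
    (fun d _ hd => ?_) fun h4 h5 => h4 ▸ chi_sq h5
  rw [← fx_dvd _ hd, ← fx_dvd g (h3 ▸ Nat.mul_dvd_mul_left p hd), pow_mul]

/-- **the types** -/
noncomputable def td : TD Spor.Fi22 dat :=
  haveI := fin22
  tdOf dat div_chk ty ty_lt (fun g h => by rw [ty, ty, fam_cj]) ty_ord ty_gal ty_pp

theorem td_ty (g : Spor.Fi22) : td.ty g = ty g := rfl

theorem mass : td.Mass := ⟨card_fi22, fun _ hi => ty_card hi⟩

theorem hom : Hom td := by
  intro y y' h
  obtain ⟨σ, h1, h2⟩ := fam_gal y y' (((ty_iff (ty_lt y')).1 h).trans ((ty_iff (ty_lt y')).1 rfl).symm)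
  exact ⟨σ, h1, fun g => by rw [td_ty, td_ty, ty, ty, h2]⟩

theorem virt_seeds : ∀ v ∈ seeds, Virt td (Eng.nth v) := by
  have := fin22
  refine List.forall_mem_cons.2 ⟨?_, List.forall_mem_cons.2 ⟨?_, List.forall_mem_cons.2
    ⟨(Virt.const 1).congr (by decide +kernel), List.forall_mem_nil _⟩⟩⟩
  · have h : ∀ t < 59, look (dat.pw t) 1 = t := by decide +kernel
    have h1 : (fun g => ((Eng.nth vF (td.ty g) : ℤ) : ℂ)) = fun g => (fx g : ℂ) := funext fun g => by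
      have h2 := fx_dvd g (one_dvd _)
      rw [h _ (ty_lt g), pow_one] at h2
      rw [td_ty, ← h2, Int.cast_natCast]
    rw [Virt, h1]
    exact Characters.Brauer.isGeneralizedCharacter_of_isCharacter fx_isChar
  · have h1 : (fun g => ((Eng.nth vC (td.ty g) : ℤ) : ℂ)) = chi := funext fun g => (chi_ty g).symm
    rw [Virt, h1]
    exact Characters.Brauer.isGeneralizedCharacter_of_isCharacter chi_isChar

theorem ty_one : ty 1 = 0 := by
  have h : ∀ t < 59, 1 = dat.ord t → t = 0 := by decide +kernel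
  exact h _ (ty_lt 1) (by rw [← ty_ord, orderOf_one])

/-- **the table** -/
theorem tab : Tab td (Sm2.mkRows rowA rowB) :=
  haveI := fin22
  tab_of_rows2 mass ty_one (slp mass rfl hom ops virt_seeds ix ops_chk) rows_chk

theorem inh : Inh td := inh_of_mass mass (by decide +kernel)

end Cfsg.Agent.TAB.F22

private theorem dce_9bdc5040c2ba : _root_.True := by
  try have : _root_.True := by simp only [_root_.Cfsg.Agent.TAB.F22.rp.eq_1]
  try have : _root_.True := by simp only [_root_.Cfsg.Agent.TAB.F22.wd.eq_1]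
  try have : _root_.True := by simp only [_root_.Cfsg.Agent.TAB.F22.kg.eq_1]
  try have : _root_.True := by simp only [_root_.Cfsg.Agent.TAB.F22.fam.eq_1]
  try have : _root_.True := by simp only [_root_.Cfsg.Agent.TAB.F22.ty.eq_1]
  try have : _root_.True := by simp only [_root_.Cfsg.Agent.TAB.F22.fx.eq_1]
  exact _root_.True.intro
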