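import Cfsg.Agent.TAB.F22.CovB
import Cfsg.Agent.TAB.F22.CovD
import Cfsg.Agent.TAB.J4.Main_m3
import Cfsg.Agent.TAB.F22.FxA_m3
import Cfsg.Agent.ODD.Red.Cl_m3
import Cfsg.Agent.ODD.Red.Bas
import Cfsg.Agent.H133.FibPce
import Cfsg.Agent.S2053
import Cfsg.Agent.Prune
set_option linter.all false

section
prune_inst 0x7ffffffeffafffffffff7e3fffd1dffab7c2effff6dffb43ffe9ebbfbf9fbbf77de5aba59de4faff9e7662b418b87843fb7eefffec6fdc7ffffdfff41ffbee4ff7ff358951d58c341fbc2fff93f37fff6f3ffffffffffffffffffffffffffffffffffbfeffff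

-- part: TAB/F22/CovE
section
prune_inst 0x10050000000000040002a200508151000090004b800060440406000088218540a6000000060818049200180100400000002900000000200036000003000008a04200a708a2042c0006800800090c00000000000000000000000000000000004010000
set_option linter.all false
open scoped Cfsg.Agent.FastGrp

/-- decoders of the packed data (elaboration time only) -/
private noncomputable def pk61d (b S i : Nat) : Nat := Nat.mod (Nat.shiftRight S (Nat.mul b i)) (Nat.shiftLeft (nat_lit 1) b)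
private noncomputable def pk61c {α : Type} (t : Nat) (a : α) (f : Nat → α) : α := Nat.rec a (fun k _ => f k) t
private noncomputable def pk61f {α : Type} (t : Nat) (f : Nat → α) : α := Nat.rec (f Nat.zero) (fun k _ => f (Nat.succ k)) t
private noncomputable def pk61l {α : Type} (f : Nat → α) (s e : Nat) (tl : List α) : List α :=
  pk61f e fun e => Nat.rec tl (fun k ih => List.cons (pk61f (Nat.sub e (Nat.succ k)) f) ih) (Nat.sub e s)
private noncomputable def pk61o {α : Type} (O : (n : Nat) → OfNat α n → α) (I : (n : Nat) → OfNat α n) (t : Nat) : α :=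
  pk61c t (O (nat_lit 0) (I (nat_lit 0))) fun k => O (Nat.succ k) (I (Nat.succ k))
private noncomputable def pk61y (O : (n : Nat) → OfNat Int n → Int) (I : (n : Nat) → OfNat Int n) (G : Int → Int) (t : Nat) : Int := pk61f t fun t =>
  pk61c (Nat.mod t (nat_lit 2)) (pk61o O I (Nat.div t (nat_lit 2))) fun _ => G (pk61o O I (Nat.succ (Nat.div t (nat_lit 2))))

private noncomputable def lq26ce77da96 {T : Sort _} (f :
    type_of% (@_root_.List.cons.{0} (Int)) →
    type_of% (@_root_.List.cons.{0}) →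
    type_of% (@_root_.List.nil.{0}) →
    type_of% (@_root_.Prod.mk.{0, 0}) →
    type_of% (@_root_.Cfsg.Agent.TAB.Cov.Lev.mk) →
    type_of% (@_root_.List.cons.{0} (Prod Cfsg.Agent.TAB.Cov.Lev (Prod (List Int) (List Int)))) →
    type_of% (@_root_.Cfsg.Agent.TAB.Eng.nth) →
    type_of% (@_root_.Cfsg.Agent.TAB.Pk.dp) →
    type_of% (@_root_.Decidable.decide) →
    type_of% (@_root_.Cfsg.Agent.TAB.Pk.frcP) →
    type_of% (@_root_.Nat.ble) →
    type_of% (@_root_.Cfsg.Agent.TAB.Pk.l1) →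
    type_of% (@_root_.Cfsg.Agent.TAB.Pk.eqS) →
    type_of% (@_root_.Cfsg.Agent.TAB.Cov.frL) →
    type_of% (@_root_.Cfsg.Agent.TAB.Cov.lin) →
    type_of% (@_root_.Cfsg.Agent.TAB.F22.rowA) →
    type_of% (@_root_.Cfsg.Agent.TAB.F22.rowB) →
    type_of% (@_root_.Cfsg.Agent.TAB.Eng.allL) →
    type_of% (@_root_.Cfsg.Agent.TAB.F22.Cv.bb) →
    type_of% (@_root_.List.range) →
    type_of% (@_root_.Cfsg.Agent.TAB.Pk.s2) →
    type_of% (@_root_.Cfsg.Agent.TAB.Pk.dn) → T) : T :=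
  f (@_root_.List.cons.{0} (Int)) (@_root_.List.cons.{0}) (@_root_.List.nil.{0}) (@_root_.Prod.mk.{0, 0}) (@_root_.Cfsg.Agent.TAB.Cov.Lev.mk) (@_root_.List.cons.{0} (Prod Cfsg.Agent.TAB.Cov.Lev (Prod (List Int) (List Int)))) (@_root_.Cfsg.Agent.TAB.Eng.nth) (@_root_.Cfsg.Agent.TAB.Pk.dp) (@_root_.Decidable.decide) (@_root_.Cfsg.Agent.TAB.Pk.frcP) (@_root_.Nat.ble) (@_root_.Cfsg.Agent.TAB.Pk.l1) (@_root_.Cfsg.Agent.TAB.Pk.eqS) (@_root_.Cfsg.Agent.TAB.Cov.frL) (@_root_.Cfsg.Agent.TAB.Cov.lin) (@_root_.Cfsg.Agent.TAB.F22.rowA) (@_root_.Cfsg.Agent.TAB.F22.rowB) (@_root_.Cfsg.Agent.TAB.Eng.allL) (@_root_.Cfsg.Agent.TAB.F22.Cv.bb) (@_root_.List.range) (@_root_.Cfsg.Agent.TAB.Pk.s2) (@_root_.Cfsg.Agent.TAB.Pk.dn)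

/-!
# The lattice of the known pairings for the faithful characters of `3.Fi22` : data (helper31, TAB)
-/

set_option autoImplicit false
set_option maxRecDepth 100000
set_option maxHeartbeats 400000

namespace Cfsg.Agent.TAB.F22.Cv

open Cfsg.Agent.TAB.Eng Cfsg.Agent.TAB.Cov

/-- a level -/
noncomputable def l0 : Lev × List ℤ × List ℤ :=
  (by
  refine (?fq9001 : (fun (On : (n : Nat) → OfNat Nat n → Nat) (In : (n : Nat) → OfNat Nat n) (Oz : (n : Nat) → OfNat Int n → Int) (Iz : (n : Nat) → OfNat Int n) (Gz : Int → Int) => ((_root_.Prod.mk (_root_.Cfsg.Agent.TAB.Cov.Lev.mk (pk61l (fun i1 => (pk61y Oz Iz Gz (pk61d (nat_lit 22) 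
    (nat_lit 0x36a962009f740139d00028800042000048000060000140000200000400000) (pk61d (nat_lit 4) 
    (nat_lit 0x2010001000000000000023100033320000000000004755650000987a) i1)))) (nat_lit 0) (nat_lit 59) List.nil) List.nil (pk61o On In (nat_lit 1)) (pk61o On In (nat_lit 64561751654400))) (_root_.Prod.mk (pk61l (fun i1 => (pk61y Oz Iz Gz (pk61d (nat_lit 2) 
    (nat_lit 0x20000000000000000000000) i1))) (nat_lit 0) (nat_lit 59) List.nil) (pk61l (fun i1 => (pk61y Oz Iz Gz (nat_lit 0))) (nat_lit 0) (nat_lit 59) List.nil))) : Lev × List ℤ × List ℤ))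
    = ?xq9001 → (Lev × List ℤ × List ℤ)) ?hq9001; (case hq9001 => (set_option maxRecDepth 1000000 in conv => lhs; reduce)); intro _; exact ?xq9001 (@OfNat.ofNat Nat) instOfNatNat (@OfNat.ofNat Int) (@instOfNat) (@Neg.neg Int Int.instNegInt) : Lev × List ℤ × List ℤ)

/-- a level -/
noncomputable def l1 : Lev × List ℤ × List ℤ :=
  (by
  refine (?fq9002 : (fun (On : (n : Nat) → OfNat Nat n → Nat) (In : (n : Nat) → OfNat Nat n) (Oz : (n : Nat) → OfNat Int n → Int) (Iz : (n : Nat) → OfNat Int n) (Gz : Int → Int) => ((_root_.Prod.mk (_root_.Cfsg.Agent.TAB.Cov.Lev.mk (pk61l (fun i1 => (pk61y Oz Iz Gz (pk61d (nat_lit 19) 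
    (nat_lit 0xd37044e4f404be802bd00144001f400210001d0002e00048000300005000080000c000100000) (pk61d (nat_lit 4) 
    (nat_lit 0x30001012000000000000000044115000000000007ba8960000edcf) i1)))) (nat_lit 0) (nat_lit 59) List.nil) (pk61l (fun i1 => (pk61y Oz Iz Gz (nat_lit 0))) (nat_lit 0) (nat_lit 1) List.nil) (pk61o On In (nat_lit 1)) (pk61o On In (nat_lit 129123503308800))) (_root_.Prod.mk (pk61l (fun i1 => (pk61y Oz Iz Gz (pk61d (nat_lit 2) 
    (nat_lit 0x8010000000000000) i1))) (nat_lit 0) (nat_lit 59) List.nil) (pk61l (fun i1 => (pk61y Oz Iz Gz (nat_lit 0))) (nat_lit 0) (nat_lit 59) List.nil))) : Lev × List ℤ × List ℤ))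
    = ?xq9002 → (Lev × List ℤ × List ℤ)) ?hq9002; (case hq9002 => (set_option maxRecDepth 1000000 in conv => lhs; reduce)); intro _; exact ?xq9002 (@OfNat.ofNat Nat) instOfNatNat (@OfNat.ofNat Int) (@instOfNat) (@Neg.neg Int Int.instNegInt) : Lev × List ℤ × List ℤ)

/-- a level -/
noncomputable def l2 : Lev × List ℤ × List ℤ :=
  (by
  refine (?fq9003 : (fun (On : (n : Nat) → OfNat Nat n → Nat) (In : (n : Nat) → OfNat Nat n) (Oz : (n : Nat) → OfNat Int n → Int) (Iz : (n : Nat) → OfNat Int n) (Gz : Int → Int) => ((_root_.Prod.mk (_root_.Cfsg.Agent.TAB.Cov.Lev.mk (pk61l (fun i1 => (pk61y Oz Iz Gz (pk61d (nat_lit 22) 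
    (nat_lit 0x2e408e02efc400e8e0004380004e000044000060000100000200000400000) (pk61d (nat_lit 4) 
    (nat_lit 0x20001031000000000004400055110000000000005755650000987a) i1)))) (nat_lit 0) (nat_lit 59) List.nil) (pk61l (fun i1 => (pk61y Oz Iz Gz (pk61d (nat_lit 1) 
    (nat_lit 0x1) i1))) (nat_lit 0) (nat_lit 2) List.nil) (pk61o On In (nat_lit 2)) (pk61o On In (nat_lit 387370509926400))) (_root_.Prod.mk (pk61l (fun i1 => (pk61y Oz Iz Gz (pk61d (nat_lit 2) 
    (nat_lit 0x20008000000000000000) i1))) (nat_lit 0) (nat_lit 59) List.nil) (pk61l (fun i1 => (pk61y Oz Iz Gz (nat_lit 0))) (nat_lit 0) (nat_lit 59) List.nil))) : Lev × List ℤ × List ℤ))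
    = ?xq9003 → (Lev × List ℤ × List ℤ)) ?hq9003; (case hq9003 => (set_option maxRecDepth 1000000 in conv => lhs; reduce)); intro _; exact ?xq9003 (@OfNat.ofNat Nat) instOfNatNat (@OfNat.ofNat Int) (@instOfNat) (@Neg.neg Int Int.instNegInt) : Lev × List ℤ × List ℤ)

/-- a level -/
noncomputable def l3 : Lev × List ℤ × List ℤ :=
  (by
  refine (?fq9004 : (fun (On : (n : Nat) → OfNat Nat n → Nat) (In : (n : Nat) → OfNat Nat n) (Oz : (n : Nat) → OfNat Int n → Int) (Iz : (n : Nat) → OfNat Int n) (Gz : Int → Int) => ((_root_.Prod.mk (_root_.Cfsg.Agent.TAB.Cov.Lev.mk (pk61l (fun i1 => (pk61y Oz Iz Gz (pk61d (nat_lit 21) 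
    (nat_lit 0x7cf0e0417f0016c70014380036000090000470000c0000440001000006000028000080000200000) (pk61d (nat_lit 4) 
    (nat_lit 0x2010000020000000000014100000503000000000006a87890000dcbe) i1)))) (nat_lit 0) (nat_lit 59) List.nil) (pk61l (fun i1 => (pk61y Oz Iz Gz (nat_lit 0))) (nat_lit 0) (nat_lit 3) List.nil) (pk61o On In (nat_lit 1)) (pk61o On In (nat_lit 129123503308800))) (_root_.Prod.mk (pk61l (fun i1 => (pk61y Oz Iz Gz (pk61d (nat_lit 2) 
    (nat_lit 0x80004000000000000000000) i1))) (nat_lit 0) (nat_lit 59) List.nil) (pk61l (fun i1 => (pk61y Oz Iz Gz (nat_lit 0))) (nat_lit 0) (nat_lit 59) List.nil))) : Lev × List ℤ × List ℤ))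
    = ?xq9004 → (Lev × List ℤ × List ℤ)) ?hq9004; (case hq9004 => (set_option maxRecDepth 1000000 in conv => lhs; reduce)); intro _; exact ?xq9004 (@OfNat.ofNat Nat) instOfNatNat (@OfNat.ofNat Int) (@instOfNat) (@Neg.neg Int Int.instNegInt) : Lev × List ℤ × List ℤ)

/-- a level -/
noncomputable def l4 : Lev × List ℤ × List ℤ :=
  (by
  refine (?fq9005 : (fun (On : (n : Nat) → OfNat Nat n → Nat) (In : (n : Nat) → OfNat Nat n) (Oz : (n : Nat) → OfNat Int n → Int) (Iz : (n : Nat) → OfNat Int n) (Gz : Int → Int) => ((_root_.Prod.mk (_root_.Cfsg.Agent.TAB.Cov.Lev.mk (pk61l (fun i1 => (pk61y Oz Iz Gz (pk61d (nat_lit 23) 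
    (nat_lit 0xdaa58802ab6c0010d8001440000d60000900001180000c00001600001000001800000) (pk61d (nat_lit 4) 
    (nat_lit 0x1020000010000000000020200043100000000000004754650000a89b) i1)))) (nat_lit 0) (nat_lit 59) List.nil) (pk61l (fun i1 => (pk61y Oz Iz Gz (pk61d (nat_lit 2) 
    (nat_lit 0x2) i1))) (nat_lit 0) (nat_lit 4) List.nil) (pk61o On In (nat_lit 2)) (pk61o On In (nat_lit 387370509926400))) (_root_.Prod.mk (pk61l (fun i1 => (pk61y Oz Iz Gz (pk61d (nat_lit 2) 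
    (nat_lit 0x200000008000000000000000000) i1))) (nat_lit 0) (nat_lit 59) List.nil) (pk61l (fun i1 => (pk61y Oz Iz Gz (nat_lit 0))) (nat_lit 0) (nat_lit 59) List.nil))) : Lev × List ℤ × List ℤ))
    = ?xq9005 → (Lev × List ℤ × List ℤ)) ?hq9005; (case hq9005 => (set_option maxRecDepth 1000000 in conv => lhs; reduce)); intro _; exact ?xq9005 (@OfNat.ofNat Nat) instOfNatNat (@OfNat.ofNat Int) (@instOfNat) (@Neg.neg Int Int.instNegInt) : Lev × List ℤ × List ℤ)

/-- a level -/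
noncomputable def l5 : Lev × List ℤ × List ℤ :=
  (by
  refine (?fq9006 : (fun (On : (n : Nat) → OfNat Nat n → Nat) (In : (n : Nat) → OfNat Nat n) (Oz : (n : Nat) → OfNat Int n → Int) (Iz : (n : Nat) → OfNat Int n) (Gz : Int → Int) => ((_root_.Prod.mk (_root_.Cfsg.Agent.TAB.Cov.Lev.mk (pk61l (fun i1 => (pk61y Oz Iz Gz (pk61d (nat_lit 19) 
    (nat_lit 0x69b822727a025f4015e800a2000fa00108000e8001a00024000280004800060000a0000c000100000) (pk61d (nat_lit 5) 
    (nat_lit 0x18000006000025088000000000000018c0000630848000000000000010c5a547000007b9b0) i1)))) (nat_lit 0) (nat_lit 59) List.nil) (pk61l (fun i1 => (pk61y Oz Iz Gz (pk61d (nat_lit 1) 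
    (nat_lit 0xc) i1))) (nat_lit 0) (nat_lit 5) List.nil) (pk61o On In (nat_lit 3)) (pk61o On In (nat_lit 2517908314521600))) (_root_.Prod.mk (pk61l (fun i1 => (pk61y Oz Iz Gz (pk61d (nat_lit 14) 
    (nat_lit 0x1991284c39b284042a19f82b708f008b0e65bf517993e66ee8b8907cc4260a21264666019b79c467e059d45e3d8c6153e904f73614503097d13f3039108a7180c50670d26b5f204f8e61e7222503674e521b911b147c7df0ef80c0c8432d94fb281290972de169a) i1))) (nat_lit 0) (nat_lit 59) List.nil) (pk61l (fun i1 => (pk61y Oz Iz Gz (pk61d (nat_lit 11) 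
    (nat_lit 0x80000000000000000000000000000000000000000000000044050ab98aa871a6d090faf40006ade88005a600002af9b9607c00000) i1))) (nat_lit 0) (nat_lit 59) List.nil))) : Lev × List ℤ × List ℤ))
    = ?xq9006 → (Lev × List ℤ × List ℤ)) ?hq9006; (case hq9006 => (set_option maxRecDepth 1000000 in conv => lhs; reduce)); intro _; exact ?xq9006 (@OfNat.ofNat Nat) instOfNatNat (@OfNat.ofNat Int) (@instOfNat) (@Neg.neg Int Int.instNegInt) : Lev × List ℤ × List ℤ)

/-- a level -/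
noncomputable def l6 : Lev × List ℤ × List ℤ :=
  (by
  refine (?fq9007 : (fun (On : (n : Nat) → OfNat Nat n → Nat) (In : (n : Nat) → OfNat Nat n) (Oz : (n : Nat) → OfNat Int n → Int) (Iz : (n : Nat) → OfNat Int n) (Gz : Int → Int) => ((_root_.Prod.mk (_root_.Cfsg.Agent.TAB.Cov.Lev.mk (pk61l (fun i1 => (pk61y Oz Iz Gz (pk61d (nat_lit 21) 
    (nat_lit 0xf9e1b882fdc02d90002880006b8001200008e0001f0000b8000280000e00006000020000080000200000) (pk61d (nat_lit 4) 
    (nat_lit 0x6001050000610000000000023500000504000000000008ba7a90000edcf) i1)))) (nat_lit 0) (nat_lit 59) List.nil) (pk61l (fun i1 => (pk61y Oz Iz Gz (pk61d (nat_lit 3) 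
    (nat_lit 0x110) i1))) (nat_lit 0) (nat_lit 6) List.nil) (pk61o On In (nat_lit 3)) (pk61o On In (nat_lit 2517908314521600))) (_root_.Prod.mk (pk61l (fun i1 => (pk61y Oz Iz Gz (pk61d (nat_lit 11) 
    (nat_lit 0xd7ca987529c2486606b08804c40b9b18ca51c917d086220362726c4095fe8d806e991068ad3fc2b4e68950a688ccc226b04034171a8bb8fde593b820c27d4b44d11ca721620a0a646caba128247fcc32ea) i1))) (nat_lit 0) (nat_lit 59) List.nil) (pk61l (fun i1 => (pk61y Oz Iz Gz (pk61d (nat_lit 8) 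
    (nat_lit 0x20000000000000000000000000000000000000000000000000c065669511970496200397f005f000361bf070000) i1))) (nat_lit 0) (nat_lit 59) List.nil))) : Lev × List ℤ × List ℤ))
    = ?xq9007 → (Lev × List ℤ × List ℤ)) ?hq9007; (case hq9007 => (set_option maxRecDepth 1000000 in conv => lhs; reduce)); intro _; exact ?xq9007 (@OfNat.ofNat Nat) instOfNatNat (@OfNat.ofNat Int) (@instOfNat) (@Neg.neg Int Int.instNegInt) : Lev × List ℤ × List ℤ)

/-- a level -/
noncomputable def l7 : Lev × List ℤ × List ℤ :=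
  (by
  refine (?fq9008 : (fun (On : (n : Nat) → OfNat Nat n → Nat) (In : (n : Nat) → OfNat Nat n) (Oz : (n : Nat) → OfNat Int n → Int) (Iz : (n : Nat) → OfNat Int n) (Gz : Int → Int) => ((_root_.Prod.mk (_root_.Cfsg.Agent.TAB.Cov.Lev.mk (pk61l (fun i1 => (pk61y Oz Iz Gz (pk61d (nat_lit 24) 
    (nat_lit 0x9f117c0177e30012fc0004a30000fb00006c00006b00002400002300000c00000b000006000005000000) (pk61d (nat_lit 4) 
    (nat_lit 0x30000010000000000004000034302000000000000897560000cbad) i1)))) (nat_lit 0) (nat_lit 59) List.nil) (pk61l (fun i1 => (pk61y Oz Iz Gz (pk61d (nat_lit 4) 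
    (nat_lit 0x4473bb) i1))) (nat_lit 0) (nat_lit 7) List.nil) (pk61o On In (nat_lit 13)) (pk61o On In (nat_lit 45322349661388800))) (_root_.Prod.mk (pk61l (fun i1 => (pk61y Oz Iz Gz (pk61d (nat_lit 12) 
    (nat_lit 0x5712270c52240e415e08f07a01b0c75fb14443e5e826f0690e40903ec57205767716404745234f14d3541112df1050813ab2963a88ec0270542c89b86e97a867a1d80c542c73d0f445c6b03420af1c527b3566e038926e4d6) i1))) (nat_lit 0) (nat_lit 59) List.nil) (pk61l (fun i1 => (pk61y Oz Iz Gz (pk61d (nat_lit 9) 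
    (nat_lit 0x1004249528916ac8e6a20016d9e004c80000a19d81c0000) i1))) (nat_lit 0) (nat_lit 59) List.nil))) : Lev × List ℤ × List ℤ))
    = ?xq9008 → (Lev × List ℤ × List ℤ)) ?hq9008; (case hq9008 => (set_option maxRecDepth 1000000 in conv => lhs; reduce)); intro _; exact ?xq9008 (@OfNat.ofNat Nat) instOfNatNat (@OfNat.ofNat Int) (@instOfNat) (@Neg.neg Int Int.instNegInt) : Lev × List ℤ × List ℤ)

/-- a level -/
noncomputable def l8 : Lev × List ℤ × List ℤ :=
  (by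
  refine (?fq9009 : (fun (On : (n : Nat) → OfNat Nat n → Nat) (In : (n : Nat) → OfNat Nat n) (Oz : (n : Nat) → OfNat Int n → Int) (Iz : (n : Nat) → OfNat Int n) (Gz : Int → Int) => ((_root_.Prod.mk (_root_.Cfsg.Agent.TAB.Cov.Lev.mk (pk61l (fun i1 => (pk61y Oz Iz Gz (pk61d (nat_lit 22) 
    (nat_lit 0xaa0ef4300dd002b080061d000434000ea0001f40005a0000740000c000018000050000100000300000800000) (pk61d (nat_lit 4) 
    (nat_lit 0x3030004020000000000020300047150000000000006ba4980000edcf) i1)))) (nat_lit 0) (nat_lit 59) List.nil) (pk61l (fun i1 => (pk61y Oz Iz Gz (pk61d (nat_lit 7) 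
    (nat_lit 0xc1ac2c32119) i1))) (nat_lit 0) (nat_lit 8) List.nil) (pk61o On In (nat_lit 117)) (pk61o On In (nat_lit 4169656168847769600))) (_root_.Prod.mk (pk61l (fun i1 => (pk61y Oz Iz Gz (pk61d (nat_lit 12) 
    (nat_lit 0x87b35d1353561622240e30be02b1359531fa69c9303cb0a51620d861a87c083a1323006f6ca52120f5341ab47719b0cb5b740a5b6de004308645ef24ad1be2a282e612567eb4317c6d6a6e50a10d2bf3dd52eab85893c8786) i1))) (nat_lit 0) (nat_lit 59) List.nil) (pk61l (fun i1 => (pk61y Oz Iz Gz (pk61d (nat_lit 9) 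
    (nat_lit 0x18063920ed723c5166fc0023e86007780000fbf582c0000) i1))) (nat_lit 0) (nat_lit 59) List.nil))) : Lev × List ℤ × List ℤ))
    = ?xq9009 → (Lev × List ℤ × List ℤ)) ?hq9009; (case hq9009 => (set_option maxRecDepth 1000000 in conv => lhs; reduce)); intro _; exact ?xq9009 (@OfNat.ofNat Nat) instOfNatNat (@OfNat.ofNat Int) (@instOfNat) (@Neg.neg Int Int.instNegInt) : Lev × List ℤ × List ℤ)

/-- a level -/
noncomputable def l9 : Lev × List ℤ × List ℤ :=
  (by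
  refine (?fq9010 : (fun (On : (n : Nat) → OfNat Nat n → Nat) (In : (n : Nat) → OfNat Nat n) (Oz : (n : Nat) → OfNat Int n → Int) (Iz : (n : Nat) → OfNat Int n) (Gz : Int → Int) => ((_root_.Prod.mk (_root_.Cfsg.Agent.TAB.Cov.Lev.mk (pk61l (fun i1 => (pk61y Oz Iz Gz (pk61d (nat_lit 21) 
    (nat_lit 0x612d2004bee011b70014400035c0008e00024000040000100000600000) (pk61d (nat_lit 4) 
    (nat_lit 0x2030001010000000000010200000030000000000004755650000987a) i1)))) (nat_lit 0) (nat_lit 59) List.nil) (pk61l (fun i1 => (pk61y Oz Iz Gz (pk61d (nat_lit 7) 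
    (nat_lit 0x60d6161908ca9) i1))) (nat_lit 0) (nat_lit 9) List.nil) (pk61o On In (nat_lit 69)) (pk61o On In (nat_lit 1363156824431001600))) (_root_.Prod.mk (pk61l (fun i1 => (pk61y Oz Iz Gz (pk61d (nat_lit 13) 
    (nat_lit 0x422cd1a2593400ad08501b70ba015c4bf22f1ec33923e07670a18ad0360be8846041e74e43c06eb4b14163fb5100d0d17631d0c5ac9cfc0b1cd8c01fc204878ec45426e793ba2cf09459595fb17435228ac9e010a9584f12a1ea722b14ec0eb2) i1))) (nat_lit 0) (nat_lit 59) List.nil) (pk61l (fun i1 => (pk61y Oz Iz Gz (pk61d (nat_lit 10) 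
    (nat_lit 0x30061bc80da322e1c57dec001179dc0074c00001ebefc1700000) i1))) (nat_lit 0) (nat_lit 59) List.nil))) : Lev × List ℤ × List ℤ))
    = ?xq9010 → (Lev × List ℤ × List ℤ)) ?hq9010; (case hq9010 => (set_option maxRecDepth 1000000 in conv => lhs; reduce)); intro _; exact ?xq9010 (@OfNat.ofNat Nat) instOfNatNat (@OfNat.ofNat Int) (@instOfNat) (@Neg.neg Int Int.instNegInt) : Lev × List ℤ × List ℤ)

/-- a level -/
noncomputable def l10 : Lev × List ℤ × List ℤ :=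
  (by
  refine (?fq9011 : (fun (On : (n : Nat) → OfNat Nat n → Nat) (In : (n : Nat) → OfNat Nat n) (Oz : (n : Nat) → OfNat Int n → Int) (Iz : (n : Nat) → OfNat Int n) (Gz : Int → Int) => ((_root_.Prod.mk (_root_.Cfsg.Agent.TAB.Cov.Lev.mk (pk61l (fun i1 => (pk61y Oz Iz Gz (pk61d (nat_lit 22) 
    (nat_lit 0xd37b340556d0047fc005b2000948000a20001c80005a0000d40002a0000a00001d00005c000120000300000800001c000060000140000200000400000) (pk61d (nat_lit 5) 
    (nat_lit 0x9c0000045090000000000000100c90006a40480000000000000170731ed98000a4a35) i1)))) (nat_lit 0) (nat_lit 59) List.nil) (pk61l (fun i1 => (pk61y Oz Iz Gz (pk61d (nat_lit 13) 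
    (nat_lit 0x170c2d1b8f0e72bc33811978114228) i1))) (nat_lit 0) (nat_lit 10) List.nil) (pk61o On In (nat_lit 3672)) (pk61o On In (nat_lit 4850704658205691084800))) (_root_.Prod.mk (pk61l (fun i1 => (pk61y Oz Iz Gz (pk61d (nat_lit 13) 
    (nat_lit 0x259c7661531da06284c40f306900c42aea531151d2947843705b86181f06c84b7026565e25c03f9d98b7e2332e1074c9fe1cf06b996c8dc6467b501141284ca8632f65a64b1a1930574e70c7d0d51df972059c0938c5c8725cc5f0184c86c85a) i1))) (nat_lit 0) (nat_lit 59) List.nil) (pk61l (fun i1 => (pk61y Oz Iz Gz (pk61d (nat_lit 10) 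
    (nat_lit 0x1a038fc48ceb13d3431d180009b59c00424000011b8840d00000) i1))) (nat_lit 0) (nat_lit 59) List.nil))) : Lev × List ℤ × List ℤ))
    = ?xq9011 → (Lev × List ℤ × List ℤ)) ?hq9011; (case hq9011 => (set_option maxRecDepth 1000000 in conv => lhs; reduce)); intro _; exact ?xq9011 (@OfNat.ofNat Nat) instOfNatNat (@OfNat.ofNat Int) (@instOfNat) (@Neg.neg Int Int.instNegInt) : Lev × List ℤ × List ℤ)

/-- a level -/
noncomputable def l11 : Lev × List ℤ × List ℤ :=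
  (by
  refine (?fq9012 : (fun (On : (n : Nat) → OfNat Nat n → Nat) (In : (n : Nat) → OfNat Nat n) (Oz : (n : Nat) → OfNat Int n → Int) (Iz : (n : Nat) → OfNat Int n) (Gz : Int → Int) => ((_root_.Prod.mk (_root_.Cfsg.Agent.TAB.Cov.Lev.mk (pk61l (fun i1 => (pk61y Oz Iz Gz (pk61d (nat_lit 23) 
    (nat_lit 0xaa62140d05a80120000218a0006540005e8000a500007d00003a00005c0000900000e0000140000180000280000400000600000800000800000) (pk61d (nat_lit 5) 
    (nat_lit 0x902000043290000000000000094ca001253842000000000000010e4adac88000941f3) i1)))) (nat_lit 0) (nat_lit 59) List.nil) (pk61l (fun i1 => (pk61y Oz Iz Gz (pk61d (nat_lit 16) 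
    (nat_lit 0x6ccc489345cc37c9245c0e0227d794a22cdf8a53) i1))) (nat_lit 0) (nat_lit 11) List.nil) (pk61o On In (nat_lit 40922)) (pk61o On In (nat_lit 606134648583618881126400))) (_root_.Prod.mk (pk61l (fun i1 => (pk61y Oz Iz Gz (pk61d (nat_lit 11) 
    (nat_lit 0xc309d07025e1fc5e8560860403935416e96da39520781fc27a2f60e0b1cf0d1050994e90bc3ae280cb0840a0810bca0d9e60681698fabef7220b9f2161c128c021069e5df9d70c03d8b11d578a7c0adaaf) i1))) (nat_lit 0) (nat_lit 59) List.nil) (pk61l (fun i1 => (pk61y Oz Iz Gz (pk61d (nat_lit 8) 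
    (nat_lit 0x9034f604e1a6140590036740056000058ae060000) i1))) (nat_lit 0) (nat_lit 59) List.nil))) : Lev × List ℤ × List ℤ))
    = ?xq9012 → (Lev × List ℤ × List ℤ)) ?hq9012; (case hq9012 => (set_option maxRecDepth 1000000 in conv => lhs; reduce)); intro _; exact ?xq9012 (@OfNat.ofNat Nat) instOfNatNat (@OfNat.ofNat Int) (@instOfNat) (@Neg.neg Int Int.instNegInt) : Lev × List ℤ × List ℤ)

/-- a level -/
noncomputable def l12 : Lev × List ℤ × List ℤ :=
  (by
  refine (?fq9013 : (fun (On : (n : Nat) → OfNat Nat n → Nat) (In : (n : Nat) → OfNat Nat n) (Oz : (n : Nat) → OfNat Int n → Int) (Iz : (n : Nat) → OfNat Int n) (Gz : Int → Int) => ((_root_.Prod.mk (_root_.Cfsg.Agent.TAB.Cov.Lev.mk (pk61l (fun i1 => (pk61y Oz Iz Gz (pk61d (nat_lit 23) 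
    (nat_lit 0x6792a2063e7a009f74008ff80040200021a0003140001a80002a00003a00005c0000900000c00001400001c0000280000400000600000800000800000) (pk61d (nat_lit 5) 
    (nat_lit 0x1c002a0c0000a22100000000000000908a000a91040000000000000006f7316d880009ca14) i1)))) (nat_lit 0) (nat_lit 59) List.nil) (pk61l (fun i1 => (pk61y Oz Iz Gz (pk61d (nat_lit 20) 
    (nat_lit 0x7cb9c2d75f6c1ef1b21721cdb87407028733ada81b5c5813c34b604) i1))) (nat_lit 0) (nat_lit 12) List.nil) (pk61o On In (nat_lit 458846)) (pk61o On In (nat_lit 70719866222265982078156800))) (_root_.Prod.mk (pk61l (fun i1 => (pk61y Oz Iz Gz (pk61d (nat_lit 14) 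
    (nat_lit 0x1d892eac42b2e604d81d9831f0a4009f10f60591b596ec7fe0d35090c4ca0c5154876481c78c5c782065572c47d46ef48105cf3e8c5910af53cb38013b0c1580d90728f0cd222529a58a2d8278844b5a8a70d149979491511a00e549a334d521a947130134d9a22) i1))) (nat_lit 0) (nat_lit 59) List.nil) (pk61l (fun i1 => (pk61y Oz Iz Gz (pk61d (nat_lit 11) 
    (nat_lit 0x1000000000000000000000000000000000000000000000000000000000000000000056058c51cbae71eef193ab6c0007c63380068600001b6fd5a0b400000) i1))) (nat_lit 0) (nat_lit 59) List.nil))) : Lev × List ℤ × List ℤ))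
    = ?xq9013 → (Lev × List ℤ × List ℤ)) ?hq9013; (case hq9013 => (set_option maxRecDepth 1000000 in conv => lhs; reduce)); intro _; exact ?xq9013 (@OfNat.ofNat Nat) instOfNatNat (@OfNat.ofNat Int) (@instOfNat) (@Neg.neg Int Int.instNegInt) : Lev × List ℤ × List ℤ)

/-- a level -/
noncomputable def l13 : Lev × List ℤ × List ℤ :=
  (by
  refine (?fq9014 : (fun (On : (n : Nat) → OfNat Nat n → Nat) (In : (n : Nat) → OfNat Nat n) (Oz : (n : Nat) → OfNat Int n → Int) (Iz : (n : Nat) → OfNat Int n) (Gz : Int → Int) => ((_root_.Prod.mk (_root_.Cfsg.Agent.TAB.Cov.Lev.mk (pk61l (fun i1 => (pk61y Oz Iz Gz (pk61d (nat_lit 24) 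
    (nat_lit 0xde23b10166ce0007ce0005b100010e00004e00001d00001100000e00000d00000a000005000004000003000002000001000000) (pk61d (nat_lit 5) 
    (nat_lit 0x200c0000203840000000000001944000129404a000000000000014c62d69000007b5d0) i1)))) (nat_lit 0) (nat_lit 59) List.nil) (pk61l (fun i1 => (pk61y Oz Iz Gz (pk61d (nat_lit 22) 
    (nat_lit 0x3983f40d55d8c507c10548402eea20ed7901009fa84b549f44eea7558d0e579310) i1))) (nat_lit 0) (nat_lit 13) List.nil) (pk61o On In (nat_lit 2387257)) (pk61o On In (nat_lit 1953383731237511182555545600))) (_root_.Prod.mk (pk61l (fun i1 => (pk61y Oz Iz Gz (pk61d (nat_lit 12) 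
    (nat_lit 0x5722280c62230e315d09007b01e0c85fa14343d5e727006a0e308f3eb57105867816304845135014e3531122e01060803ac2953a78e902a0532c59b76ea7a76791d70c642b73e0f345b6af3410b21c627c3556df38a26f4d7) i1))) (nat_lit 0) (nat_lit 59) List.nil) (pk61l (fun i1 => (pk61y Oz Iz Gz (pk61d (nat_lit 9) 
    (nat_lit 0xf03a45548a172c4e8a100171a0004d00000a29e0200000) i1))) (nat_lit 0) (nat_lit 59) List.nil))) : Lev × List ℤ × List ℤ))
    = ?xq9014 → (Lev × List ℤ × List ℤ)) ?hq9014; (case hq9014 => (set_option maxRecDepth 1000000 in conv => lhs; reduce)); intro _; exact ?xq9014 (@OfNat.ofNat Nat) instOfNatNat (@OfNat.ofNat Int) (@instOfNat) (@Neg.neg Int Int.instNegInt) : Lev × List ℤ × List ℤ)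

/-- a level -/
noncomputable def l14 : Lev × List ℤ × List ℤ :=
  (by
  refine (?fq9015 : (fun (On : (n : Nat) → OfNat Nat n → Nat) (In : (n : Nat) → OfNat Nat n) (Oz : (n : Nat) → OfNat Int n → Int) (Iz : (n : Nat) → OfNat Int n) (Gz : Int → Int) => ((_root_.Prod.mk (_root_.Cfsg.Agent.TAB.Cov.Lev.mk (pk61l (fun i1 => (pk61y Oz Iz Gz (pk61d (nat_lit 20) 
    (nat_lit 0x868d4094140222b0006b0004b000240000c0000b000090000800004000030000200000) (pk61d (nat_lit 4) 
    (nat_lit 0x5001020000521000000000014700077230000000000009a88680000cbad) i1)))) (nat_lit 0) (nat_lit 59) List.nil) (pk61l (fun i1 => (pk61y Oz Iz Gz (pk61d (nat_lit 24) 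
    (nat_lit 0x1f0f7d06d4116e7aaf489ddf2cb7a2cbaeecc78a6519f2349ce1120e5cb214645e3afc7b8100fd) i1))) (nat_lit 0) (nat_lit 14) List.nil) (pk61o On In (nat_lit 12673982)) (pk61o On In (nat_lit 51154842225800832268035686400))) (_root_.Prod.mk (pk61l (fun i1 => (pk61y Oz Iz Gz (pk61d (nat_lit 11) 
    (nat_lit 0xd80aa07629a2446586c08a0504139c18aa4dc897e08c21c35a716c2099ff0d707498d070ae3fa2b8e70960a4890cba25b02040169a7bbafe258bb720a2814ac4e11ea7616a090a8470ab211822800c2ae9) i1))) (nat_lit 0) (nat_lit 59) List.nil) (pk61l (fun i1 => (pk61y Oz Iz Gz (pk61d (nat_lit 8) 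
    (nat_lit 0x10000000000000000000000000000000000000000000000000b05556a521a6f4a61003a800060000462c0080000) i1))) (nat_lit 0) (nat_lit 59) List.nil))) : Lev × List ℤ × List ℤ))
    = ?xq9015 → (Lev × List ℤ × List ℤ)) ?hq9015; (case hq9015 => (set_option maxRecDepth 1000000 in conv => lhs; reduce)); intro _; exact ?xq9015 (@OfNat.ofNat Nat) instOfNatNat (@OfNat.ofNat Int) (@instOfNat) (@Neg.neg Int Int.instNegInt) : Lev × List ℤ × List ℤ)

/-- a level -/
noncomputable def l15 : Lev × List ℤ × List ℤ :=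
  (by
  refine (?fq9016 : (fun (On : (n : Nat) → OfNat Nat n → Nat) (In : (n : Nat) → OfNat Nat n) (Oz : (n : Nat) → OfNat Int n → Int) (Iz : (n : Nat) → OfNat Int n) (Gz : Int → Int) => ((_root_.Prod.mk (_root_.Cfsg.Agent.TAB.Cov.Lev.mk (pk61l (fun i1 => (pk61y Oz Iz Gz (pk61d (nat_lit 24) 
    (nat_lit 0x84262700cd07000ca70004380000d700009000001800001400001300000a000007000006000004000002000001000000) (pk61d (nat_lit 4) 
    (nat_lit 0x6003030000612000000000005800009534000000000007ba0900000edcf) i1)))) (nat_lit 0) (nat_lit 59) List.nil) (pk61l (fun i1 => (pk61y Oz Iz Gz (pk61d (nat_lit 27) 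
    (nat_lit 0x35005d0c1576ab0e5b648aeb788f657c6abf530971c49685bf25051efc769ba5fa01151b6261ca27449254dafe504b) i1))) (nat_lit 0) (nat_lit 15) List.nil) (pk61o On In (nat_lit 62517033)) (pk61o On In (nat_lit 1049420831128377270807173529600))) (_root_.Prod.mk (pk61l (fun i1 => (pk61y Oz Iz Gz (pk61d (nat_lit 11) 
    (nat_lit 0xd7ca987529c2486606b08804c40b9b188a51c917d086220362726c4095fe8d8072991068ad3fc2b4e68950aa88ccc226b0403c171a8bb4fde593b820c27d4c44d120a721720a0a646caba128247fcc22ec) i1))) (nat_lit 0) (nat_lit 59) List.nil) (pk61l (fun i1 => (pk61y Oz Iz Gz (pk61d (nat_lit 8) 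
    (nat_lit 0x20000000000000000000000000000000000000000000000000c065669511970496200397f005f000361bf070000) i1))) (nat_lit 0) (nat_lit 59) List.nil))) : Lev × List ℤ × List ℤ))
    = ?xq9016 → (Lev × List ℤ × List ℤ)) ?hq9016; (case hq9016 => (set_option maxRecDepth 1000000 in conv => lhs; reduce)); intro _; exact ?xq9016 (@OfNat.ofNat Nat) instOfNatNat (@OfNat.ofNat Int) (@instOfNat) (@Neg.neg Int Int.instNegInt) : Lev × List ℤ × List ℤ)

/-- a level -/
noncomputable def l16 : Lev × List ℤ × List ℤ :=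
  (by
  refine (?fq9017 : (fun (On : (n : Nat) → OfNat Nat n → Nat) (In : (n : Nat) → OfNat Nat n) (Oz : (n : Nat) → OfNat Int n → Int) (Iz : (n : Nat) → OfNat Int n) (Gz : Int → Int) => ((_root_.Prod.mk (_root_.Cfsg.Agent.TAB.Cov.Lev.mk (pk61l (fun i1 => (pk61y Oz Iz Gz (pk61d (nat_lit 24) 
    (nat_lit 0xaf495d01393d0027dd00040200010d0000ea0000a200005a00003500001e000012000006000005000004000002000001000000) (pk61d (nat_lit 5) 
    (nat_lit 0x800004010400000000000019c80000c4114a00000000000000cc5a548000007b9b0) i1)))) (nat_lit 0) (nat_lit 59) List.nil) (pk61l (fun i1 => (pk61y Oz Iz Gz (pk61d (nat_lit 29) 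
    (nat_lit 0x1a5185405596d482098afd08875d9afb73a5e1ae7a36b3618740d3f9e40c63434c85d063a446cf881e7af21054f7308eeb237264734b0) i1))) (nat_lit 0) (nat_lit 16) List.nil) (pk61o On In (nat_lit 130000799)) (pk61o On In (nat_lit 4700382335670445827251001753600))) (_root_.Prod.mk (pk61l (fun i1 => (pk61y Oz Iz Gz (pk61d (nat_lit 12) 
    (nat_lit 0x5722280c62230e315d09007b01e0c85fc14343d5e727006a0e308f3eb57305867816304a45135014e3531122e01060823ac2973a78eb02a0532c79b76ea7a76791d70c642d73c0f545b6b13410b01c827a3536df38c26b4d5) i1))) (nat_lit 0) (nat_lit 59) List.nil) (pk61l (fun i1 => (pk61y Oz Iz Gz (pk61d (nat_lit 9) 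
    (nat_lit 0xf03a45548a172c4e8a100171a0004d00000a29e0200000) i1))) (nat_lit 0) (nat_lit 59) List.nil))) : Lev × List ℤ × List ℤ))
    = ?xq9017 → (Lev × List ℤ × List ℤ)) ?hq9017; (case hq9017 => (set_option maxRecDepth 1000000 in conv => lhs; reduce)); intro _; exact ?xq9017 (@OfNat.ofNat Nat) instOfNatNat (@OfNat.ofNat Int) (@instOfNat) (@Neg.neg Int Int.instNegInt) : Lev × List ℤ × List ℤ)

/-- a level -/
noncomputable def l17 : Lev × List ℤ × List ℤ :=
  (by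
  refine (?fq9018 : (fun (On : (n : Nat) → OfNat Nat n → Nat) (In : (n : Nat) → OfNat Nat n) (Oz : (n : Nat) → OfNat Int n → Int) (Iz : (n : Nat) → OfNat Int n) (Gz : Int → Int) => ((_root_.Prod.mk (_root_.Cfsg.Agent.TAB.Cov.Lev.mk (pk61l (fun i1 => (pk61y Oz Iz Gz (pk61d (nat_lit 22) 
    (nat_lit 0x3e0af509c254035ff0086280032a0005e8000a2000228000720000f800012000028000080000180000500000c0000200000400000) (pk61d (nat_lit 5) 
    (nat_lit 0x11840000e3004000000000000114a0000883846000000000000012d6296c800008bdd2) i1)))) (nat_lit 0) (nat_lit 59) List.nil) (pk61l (fun i1 => (pk61y Oz Iz Gz (pk61d (nat_lit 31) 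
    (nat_lit 0x3c3f880049532f0287998181bfd11608592b6f20365b01823461c9c46c6a255ce491cbb7939bd327bca0094b84b43b6b825eb44e6170f24b028947cc65f) i1))) (nat_lit 0) (nat_lit 17) List.nil) (pk61o On In (nat_lit 560030731)) (pk61o On In (nat_lit 94783258254557438023651806412800))) (_root_.Prod.mk (pk61l (fun i1 => (pk61y Oz Iz Gz (pk61d (nat_lit 11) 
    (nat_lit 0x1060d00963362a48386e0ba0604b4881eacf6359de09c2b433aef82a10a6d10d068d753e10e50a341130cc0c8b20fbac7d6e0801fa1bec3552e3cfd2d621190d7c16ed3681a6b11c558f727ba7ab08e7ba7) i1))) (nat_lit 0) (nat_lit 59) List.nil) (pk61l (fun i1 => (pk61y Oz Iz Gz (pk61d (nat_lit 8) 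
    (nat_lit 0xb056f806a2285587900469c0074000078f0040000) i1))) (nat_lit 0) (nat_lit 59) List.nil))) : Lev × List ℤ × List ℤ))
    = ?xq9018 → (Lev × List ℤ × List ℤ)) ?hq9018; (case hq9018 => (set_option maxRecDepth 1000000 in conv => lhs; reduce)); intro _; exact ?xq9018 (@OfNat.ofNat Nat) instOfNatNat (@OfNat.ofNat Int) (@instOfNat) (@Neg.neg Int Int.instNegInt) : Lev × List ℤ × List ℤ)

/-- a level -/
noncomputable def l18 : Lev × List ℤ × List ℤ :=
  (by
  refine (?fq9019 : (fun (On : (n : Nat) → OfNat Nat n → Nat) (In : (n : Nat) → OfNat Nat n) (Oz : (n : Nat) → OfNat Int n → Int) (Iz : (n : Nat) → OfNat Int n) (Gz : Int → Int) => ((_root_.Prod.mk (_root_.Cfsg.Agent.TAB.Cov.Lev.mk (pk61l (fun i1 => (pk61y Oz Iz Gz (pk61d (nat_lit 21) 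
    (nat_lit 0xe983a8294a804800006f5001ca8005e8000fa0003000015000074000240000a0000400001c0000c00005000020000080000200000) (pk61d (nat_lit 5) 
    (nat_lit 0x200008c6000025100000000000000218ec0008a1050000000000000000e6a56988000941f3) i1)))) (nat_lit 0) (nat_lit 59) List.nil) (pk61l (fun i1 => (pk61y Oz Iz Gz (pk61d (nat_lit 31) 
    (nat_lit 0x2a5e1ba7219798b7130bc0ec9d194749c353dc7270e08c005ae1e64667cc36993bcc0e2dc1b41e1a6f115c1f5278e0b5f542f7626bc58c366fd644612ecc26c9b0ae) i1))) (nat_lit 0) (nat_lit 18) List.nil) (pk61o On In (nat_lit 873822484)) (pk61o On In (nat_lit 203915575246392054342859161600000))) (_root_.Prod.mk (pk61l (fun i1 => (pk61y Oz Iz Gz (pk61d (nat_lit 12) 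
    (nat_lit 0x5662280cc2210df15f07607f01c0c461a1454495f126e0680e708b3e155f07266816903448b36417635d1122d00fc07e3d029b3cf8ed0380512c99e57487d16b31ff0ba4257880ff46968f3590e61ce2cc3437053c225d4f3) i1))) (nat_lit 0) (nat_lit 59) List.nil) (pk61l (fun i1 => (pk61y Oz Iz Gz (pk61d (nat_lit 9) 
    (nat_lit 0x40000000000000000000000000000000000000000000000000000000f02a55588c192bce4a5001719c004c0000aa29f0180000) i1))) (nat_lit 0) (nat_lit 59) List.nil))) : Lev × List ℤ × List ℤ))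
    = ?xq9019 → (Lev × List ℤ × List ℤ)) ?hq9019; (case hq9019 => (set_option maxRecDepth 1000000 in conv => lhs; reduce)); intro _; exact ?xq9019 (@OfNat.ofNat Nat) instOfNatNat (@OfNat.ofNat Int) (@instOfNat) (@Neg.neg Int Int.instNegInt) : Lev × List ℤ × List ℤ)

/-- a level -/
noncomputable def l19 : Lev × List ℤ × List ℤ :=
  (by
  refine (?fq9020 : (fun (On : (n : Nat) → OfNat Nat n → Nat) (In : (n : Nat) → OfNat Nat n) (Oz : (n : Nat) → OfNat Int n → Int) (Iz : (n : Nat) → OfNat Int n) (Gz : Int → Int) => ((_root_.Prod.mk (_root_.Cfsg.Agent.TAB.Cov.Lev.mk (pk61l (fun i1 => (pk61y Oz Iz Gz (pk61d (nat_lit 23) 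
    (nat_lit 0x2370a20289440002880000ec0001200001e00001800002c0000480000400000600000800000800000) (pk61d (nat_lit 4) 
    (nat_lit 0x2030003052000000000017400066438000000000006b99a90000cbbd) i1)))) (nat_lit 0) (nat_lit 59) List.nil) (pk61l (fun i1 => (pk61y Oz Iz Gz (pk61d (nat_lit 33) 
    (nat_lit 0x1a8e7a5e2761ce081c5de0bb8d6fc7c80d4fce3d476493242f2a3a4449e97c5618466688f557f340f959dca0a11be43d20175ce1272090514223820603ba18c6876d180b5ea4abfad0c9) i1))) (nat_lit 0) (nat_lit 19) List.nil) (pk61o On In (nat_lit 3614530375)) (pk61o On In (nat_lit 3212373872171840589221802393600000))) (_root_.Prod.mk (pk61l (fun i1 => (pk61y Oz Iz Gz (pk61d (nat_lit 2) 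
    (nat_lit 0x2100a000010040200000008220) i1))) (nat_lit 0) (nat_lit 59) List.nil) (pk61l (fun i1 => (pk61y Oz Iz Gz (nat_lit 0))) (nat_lit 0) (nat_lit 59) List.nil))) : Lev × List ℤ × List ℤ))
    = ?xq9020 → (Lev × List ℤ × List ℤ)) ?hq9020; (case hq9020 => (set_option maxRecDepth 1000000 in conv => lhs; reduce)); intro _; exact ?xq9020 (@OfNat.ofNat Nat) instOfNatNat (@OfNat.ofNat Int) (@instOfNat) (@Neg.neg Int Int.instNegInt) : Lev × List ℤ × List ℤ)

/-- a level -/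
noncomputable def l20 : Lev × List ℤ × List ℤ :=
  (by
  refine (?fq9021 : (fun (On : (n : Nat) → OfNat Nat n → Nat) (In : (n : Nat) → OfNat Nat n) (Oz : (n : Nat) → OfNat Int n → Int) (Iz : (n : Nat) → OfNat Int n) (Gz : Int → Int) => ((_root_.Prod.mk (_root_.Cfsg.Agent.TAB.Cov.Lev.mk (pk61l (fun i1 => (pk61y Oz Iz Gz (pk61d (nat_lit 21) 
    (nat_lit 0xe983a8294a804800006f5001ca8005e8000fa0002a0000e800048000220000a0000400001c0000c00005000020000080000200000) (pk61d (nat_lit 5) 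
    (nat_lit 0x200008c6950025100000000000000218e40008b1050000000000000000e6a98a88000941f3) i1)))) (nat_lit 0) (nat_lit 59) List.nil) (pk61l (fun i1 => (pk61y Oz Iz Gz (pk61d (nat_lit 33) 
    (nat_lit 0x45643b3441be9d112cfeaefab0a92b396878dd782499598cac4ddd9a843ed17d4092c9a79b0112c85729d09de9530fdf17b85fa5024972da4288784ffbeb0bce25e8136e5e281a69c0d7261198773) i1))) (nat_lit 0) (nat_lit 20) List.nil) (pk61o On In (nat_lit 4588573013)) (pk61o On In (nat_lit 5832521639118385759865085434265600))) (_root_.Prod.mk (pk61l (fun i1 => (pk61y Oz Iz Gz (pk61d (nat_lit 9) 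
    (nat_lit 0x3e4b61b300b0702d0801c4af31a2e9e8730989050b87a00e42320da41221b450bd122f0ba34dc8cc90181070cb3ce9cec1a0d5851b122aa708e03944869c8d1f4e0ca) i1))) (nat_lit 0) (nat_lit 59) List.nil) (pk61l (fun i1 => (pk61y Oz Iz Gz (pk61d (nat_lit 6) 
    (nat_lit 0x800000000000000000000000000000000000021187550e25da00d8c06c00dbd41000) i1))) (nat_lit 0) (nat_lit 59) List.nil))) : Lev × List ℤ × List ℤ))
    = ?xq9021 → (Lev × List ℤ × List ℤ)) ?hq9021; (case hq9021 => (set_option maxRecDepth 1000000 in conv => lhs; reduce)); intro _; exact ?xq9021 (@OfNat.ofNat Nat) instOfNatNat (@OfNat.ofNat Int) (@instOfNat) (@Neg.neg Int Int.instNegInt) : Lev × List ℤ × List ℤ)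

/-- a level -/
noncomputable def l21 : Lev × List ℤ × List ℤ :=
  (by
  refine (?fq9022 : (fun (On : (n : Nat) → OfNat Nat n → Nat) (In : (n : Nat) → OfNat Nat n) (Oz : (n : Nat) → OfNat Int n → Int) (Iz : (n : Nat) → OfNat Int n) (Gz : Int → Int) => ((_root_.Prod.mk (_root_.Cfsg.Agent.TAB.Cov.Lev.mk (pk61l (fun i1 => (pk61y Oz Iz Gz (pk61d (nat_lit 21) 
    (nat_lit 0x74c1d414a54024000037a800e54002f40007d00015000074000240000a0000400001c0000c00005000020000080000200000) (pk61d (nat_lit 5) 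
    (nat_lit 0x200008c6948025100000000000000218e40008a1050000000000000000d62569800008bdd2) i1)))) (nat_lit 0) (nat_lit 59) List.nil) (pk61l (fun i1 => (pk61y Oz Iz Gz (pk61d (nat_lit 33) 
    (nat_lit 0x8ac87668837d3a2259fd5df561525672d0f1baf04932b319589bbb35087da2fa8125934f36022590ae53a13bd2a61fbe2f70bf4a0492e5b48510f09ff7d6179c4bd026dcbc5034d381ae4c2330ee6eb5563f1) i1))) (nat_lit 0) (nat_lit 21) List.nil) (pk61o On In (nat_lit 6562693966)) (pk61o On In (nat_lit 10851120294512391049102265371852800))) (_root_.Prod.mk (pk61l (fun i1 => (pk61y Oz Iz Gz (pk61d (nat_lit 14) 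
    (nat_lit 0x12b61db02ae1d6c30912fc1ea06a40620a914a21174e99516c85c05b0311073cd6f4aec12c59184d703d0f1d2d4049a2e143ac27603900708cb2239cc9f7a8409e04bc9af85e580268d568919cc27c39358f20d0cf255bfcb1709706102270b6d5ee4c4c21750a3) i1))) (nat_lit 0) (nat_lit 59) List.nil) (pk61l (fun i1 => (pk61y Oz Iz Gz (pk61d (nat_lit 11) 
    (nat_lit 0x10000000000000000000000000000000000000000000000000000000000000000000330327dd231de14097cc522d0004f96600042400000a2c88006800000) i1))) (nat_lit 0) (nat_lit 59) List.nil))) : Lev × List ℤ × List ℤ))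
    = ?xq9022 → (Lev × List ℤ × List ℤ)) ?hq9022; (case hq9022 => (set_option maxRecDepth 1000000 in conv => lhs; reduce)); intro _; exact ?xq9022 (@OfNat.ofNat Nat) instOfNatNat (@OfNat.ofNat Int) (@instOfNat) (@Neg.neg Int Int.instNegInt) : Lev × List ℤ × List ℤ)

/-- a level -/
noncomputable def l22 : Lev × List ℤ × List ℤ :=
  (by
  refine (?fq9023 : (fun (On : (n : Nat) → OfNat Nat n → Nat) (In : (n : Nat) → OfNat Nat n) (Oz : (n : Nat) → OfNat Int n → Int) (Iz : (n : Nat) → OfNat Int n) (Gz : Int → Int) => ((_root_.Prod.mk (_root_.Cfsg.Agent.TAB.Cov.Lev.mk (pk61l (fun i1 => (pk61y Oz Iz Gz (pk61d (nat_lit 23) 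
    (nat_lit 0xd4f24402c8f400d800004800008040004340005100005a00006a0000680000900000b0000140000240000300000500000600000800000800000) (pk61d (nat_lit 5) 
    (nat_lit 0x80008ce80008238400000000000009840000894945000000000000014e62dab88000935f3) i1)))) (nat_lit 0) (nat_lit 59) List.nil) (pk61l (fun i1 => (pk61y Oz Iz Gz (pk61d (nat_lit 33) 
    (nat_lit 0x1f590c149655b82b8eb4683e69ad832fd40612cfb9eeb724ef70f9f2d22108bbd42415b9192dadb86446d880b30654e1373ada3893bcb753c562245742524c60b855e6f61686c1ff7b6da20d58013d199bb9f7377e197c) i1))) (nat_lit 0) (nat_lit 22) List.nil) (pk61o On In (nat_lit 5691209946)) (pk61o On In (nat_lit 7735113271502437944528832934707200))) (_root_.Prod.mk (pk61l (fun i1 => (pk61y Oz Iz Gz (pk61d (nat_lit 13) 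
    (nat_lit 0x3d94c2a22d3070a087c81a50ae014c4570df1ca300a14c6e90958a10310b127b203b64963f2069b15128a3b54b80c1503a2f50b9a974ea0a50c9601e41ec7eedb74e46b0126a29c083579145d155318a5e49140ef93e4de69689b92824dc4da2) i1))) (nat_lit 0) (nat_lit 59) List.nil) (pk61l (fun i1 => (pk61y Oz Iz Gz (pk61d (nat_lit 10) 
    (nat_lit 0x2a0619e775871fdf651dc80010392c006cc00005c7df41300000) i1))) (nat_lit 0) (nat_lit 59) List.nil))) : Lev × List ℤ × List ℤ))
    = ?xq9023 → (Lev × List ℤ × List ℤ)) ?hq9023; (case hq9023 => (set_option maxRecDepth 1000000 in conv => lhs; reduce)); intro _; exact ?xq9023 (@OfNat.ofNat Nat) instOfNatNat (@OfNat.ofNat Int) (@instOfNat) (@Neg.neg Int Int.instNegInt) : Lev × List ℤ × List ℤ)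

/-- a level -/
noncomputable def l23 : Lev × List ℤ × List ℤ :=
  (by
  refine (?fq9024 : (fun (On : (n : Nat) → OfNat Nat n → Nat) (In : (n : Nat) → OfNat Nat n) (Oz : (n : Nat) → OfNat Int n → Int) (Iz : (n : Nat) → OfNat Int n) (Gz : Int → Int) => ((_root_.Prod.mk (_root_.Cfsg.Agent.TAB.Cov.Lev.mk (pk61l (fun i1 => (pk61y Oz Iz Gz (pk61d (nat_lit 21) 
    (nat_lit 0x40bcec3277602b4f007620006bc002880008f0004200009000040000140000600002c0000e00004000018000080000200000) (pk61d (nat_lit 5) 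
    (nat_lit 0x400000603006228800000000000019007000c64180e03000001800012d5296a800008bdb2) i1)))) (nat_lit 0) (nat_lit 59) List.nil) (pk61l (fun i1 => (pk61y Oz Iz Gz (pk61d (nat_lit 38) 
    (nat_lit 0x18a7b87eee2f11e55530e3d6e348c801a9b2fa382b4ec6f2dcf08a2365cd1d6eeddb0251964d81a565081056d8f6bee6400f97c167e021869d8b2b2d8f5fd7d3a32640787bfd91418a177b7d2d377d3cc5e33e6f3dd8090a440a5bc341f6b0a9be31a6316026fac4a) i1))) (nat_lit 0) (nat_lit 23) List.nil) (pk61o On In (nat_lit 189465122727)) (pk61o On In (nat_lit 9609011523446334797006182291872153600))) (_root_.Prod.mk (pk61l (fun i1 => (pk61y Oz Iz Gz (pk61d (nat_lit 13) 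
    (nat_lit 0x3634ac61ef2a908d86d016b09801143e2ee51952a19d6460508488d82b09be6ca032603a384059ab1905e3454260ab4e462890a3a454cec918b1301ac1b06fac1244d65e502a24f077d4b91f112e2bc215c8100d19184c3a8488872314c20bfc) i1))) (nat_lit 0) (nat_lit 59) List.nil) (pk61l (fun i1 => (pk61y Oz Iz Gz (pk61d (nat_lit 10) 
    (nat_lit 0x280496a695571cdb847592000e7814005fc0000191c3c1500000) i1))) (nat_lit 0) (nat_lit 59) List.nil))) : Lev × List ℤ × List ℤ))
    = ?xq9024 → (Lev × List ℤ × List ℤ)) ?hq9024; (case hq9024 => (set_option maxRecDepth 1000000 in conv => lhs; reduce)); intro _; exact ?xq9024 (@OfNat.ofNat Nat) instOfNatNat (@OfNat.ofNat Int) (@instOfNat) (@Neg.neg Int Int.instNegInt) : Lev × List ℤ × List ℤ)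

/-- a level -/
noncomputable def l24 : Lev × List ℤ × List ℤ :=
  (by
  refine (?fq9025 : (fun (On : (n : Nat) → OfNat Nat n → Nat) (In : (n : Nat) → OfNat Nat n) (Oz : (n : Nat) → OfNat Int n → Int) (Iz : (n : Nat) → OfNat Int n) (Gz : Int → Int) => ((_root_.Prod.mk (_root_.Cfsg.Agent.TAB.Cov.Lev.mk (pk61l (fun i1 => (pk61y Oz Iz Gz (pk61d (nat_lit 23) 
    (nat_lit 0xdb9aa207354400c570012000004a20004380005080004e0000820000600000880000e0000160000200000380000600000a00000800000800000) (pk61d (nat_lit 5) 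
    (nat_lit 0x9c20000462980000000000001a42a001292040000000000000010e6ad8980000945f3) i1)))) (nat_lit 0) (nat_lit 59) List.nil) (pk61l (fun i1 => (pk61y Oz Iz Gz (pk61d (nat_lit 38) 
    (nat_lit 0x1ca6b24b4696120f3d50c543f02924211155a412a9c6abb64550996faf37c8cbaf73c2b70841000caa84d796201749a50d3ba27dca58b0117b08e8fbde8922cce58e3c84d9522eb240c4510b13b454397455ee8c74660820bdf001d2b377a7d16b1cb0573cc1d8ea4dd8c461f6b) i1))) (nat_lit 0) (nat_lit 24) List.nil) (pk61o On In (nat_lit 130925090687)) (pk61o On In (nat_lit 3536169385985026943960473670791987200))) (_root_.Prod.mk (pk61l (fun i1 => (pk61y Oz Iz Gz (pk61d (nat_lit 13) 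
    (nat_lit 0x3b68bb821a2eb89b477a1840a5814044104e1b6ae1e04a6a809209a4316ab376e83ca3543bf0642edd22038248b8ba0fc02d60ad2828e0a9edc2981c01ce78fd3dcb129b319327e88916c73ba14eaf6647e8dd0ed1370d6c91f95ea678d46d2f) i1))) (nat_lit 0) (nat_lit 59) List.nil) (pk61l (fun i1 => (pk61y Oz Iz Gz (pk61d (nat_lit 10) 
    (nat_lit 0x290558d739761f9e54f1b9000f88e00069000001bed781600000) i1))) (nat_lit 0) (nat_lit 59) List.nil))) : Lev × List ℤ × List ℤ))
    = ?xq9025 → (Lev × List ℤ × List ℤ)) ?hq9025; (case hq9025 => (set_option maxRecDepth 1000000 in conv => lhs; reduce)); intro _; exact ?xq9025 (@OfNat.ofNat Nat) instOfNatNat (@OfNat.ofNat Int) (@instOfNat) (@Neg.neg Int Int.instNegInt) : Lev × List ℤ × List ℤ)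

/-- a level -/
noncomputable def l25 : Lev × List ℤ × List ℤ :=
  (by
  refine (?fq9026 : (fun (On : (n : Nat) → OfNat Nat n → Nat) (In : (n : Nat) → OfNat Nat n) (Oz : (n : Nat) → OfNat Int n → Int) (Iz : (n : Nat) → OfNat Int n) (Gz : Int → Int) => ((_root_.Prod.mk (_root_.Cfsg.Agent.TAB.Cov.Lev.mk (pk61l (fun i1 => (pk61y Oz Iz Gz (pk61d (nat_lit 20) 
    (nat_lit 0xdfd152300a00d4a003950035f0017a0012000042000350002a000240001a000120000b0000a000060000400003000020000100000) (pk61d (nat_lit 5) 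
    (nat_lit 0x180019020380451880000000000002184a001884848003800000000016f43568800009c654) i1)))) (nat_lit 0) (nat_lit 59) List.nil) (pk61l (fun i1 => (pk61y Oz Iz Gz (pk61d (nat_lit 37) 
    (nat_lit 0x4f9548647226128a02e12f7aa56e74151f78b0622bce6898eaf0ab295c9ffca62bf31105d027589cb3b1ff3828534bcf8e7b5c61be8bc116cba8d4e1bbcd41bb20a91ac34d63df383a911e2b6bb36b21b59f704f3a04f33eac4add4a24075a03711043dad27d500248a1c5c6ae3739) i1))) (nat_lit 0) (nat_lit 25) List.nil) (pk61o On In (nat_lit 34862106527)) (pk61o On In (nat_lit 283521109800813716148457586039193600))) (_root_.Prod.mk (pk61l (fun i1 => (pk61y Oz Iz Gz (pk61d (nat_lit 13) 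
    (nat_lit 0x2dfc91219b23f07905b814b07d00f434ac7f15423798c451b07187682608465c70265b5a2f0055a368dce29537d0914c3622708c9e4cae0784964013c1745e0a2238bdfdcd641e006e5190ef70f924b9c6c6c809d8ed49ce7107231cd4a64a12) i1))) (nat_lit 0) (nat_lit 59) List.nil) (pk61l (fun i1 => (pk61y Oz Iz Gz (pk61d (nat_lit 10) 
    (nat_lit 0x8000000000000000000000000000000000000000000000000000000000000220492e58d1f175783cd52000c36dc005140001553a541300000) i1))) (nat_lit 0) (nat_lit 59) List.nil))) : Lev × List ℤ × List ℤ))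
    = ?xq9026 → (Lev × List ℤ × List ℤ)) ?hq9026; (case hq9026 => (set_option maxRecDepth 1000000 in conv => lhs; reduce)); intro _; exact ?xq9026 (@OfNat.ofNat Nat) instOfNatNat (@OfNat.ofNat Int) (@instOfNat) (@Neg.neg Int Int.instNegInt) : Lev × List ℤ × List ℤ)

/-- a level -/
noncomputable def l26 : Lev × List ℤ × List ℤ :=
  (by
  refine (?fq9027 : (fun (On : (n : Nat) → OfNat Nat n → Nat) (In : (n : Nat) → OfNat Nat n) (Oz : (n : Nat) → OfNat Int n → Int) (Iz : (n : Nat) → OfNat Int n) (Gz : Int → Int) => ((_root_.Prod.mk (_root_.Cfsg.Agent.TAB.Cov.Lev.mk (pk61l (fun i1 => (pk61y Oz Iz Gz (pk61d (nat_lit 22) 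
    (nat_lit 0x27a50b01f52c0180b000f2c0006b0000900001b0000300000b000018000050000100000200000400000) (pk61d (nat_lit 4) 
    (nat_lit 0x20006011000000000004400077385000000000004aa6690000dcbe) i1)))) (nat_lit 0) (nat_lit 59) List.nil) (pk61l (fun i1 => (pk61y Oz Iz Gz (pk61d (nat_lit 36) 
    (nat_lit 0x1bd0512f015596f2aa50391a0ea011e12e3c0b58983e28ea6cc9f04c7ffd16b402169a907276ced200fa6d011a3e56243582847e5683563de9c976018e0488098b438011398841444df4b38a007e81e939276658781054c7d47d0a0e07e8907224ff113966b18f33376d40d21a2884b4c) i1))) (nat_lit 0) (nat_lit 26) List.nil) (pk61o On In (nat_lit 20994484687)) (pk61o On In (nat_lit 118580359509127254983992407333273600))) (_root_.Prod.mk (pk61l (fun i1 => (pk61y Oz Iz Gz (pk61d (nat_lit 2) 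
    (nat_lit 0x10100400422018801) i1))) (nat_lit 0) (nat_lit 59) List.nil) (pk61l (fun i1 => (pk61y Oz Iz Gz (nat_lit 0))) (nat_lit 0) (nat_lit 59) List.nil))) : Lev × List ℤ × List ℤ))
    = ?xq9027 → (Lev × List ℤ × List ℤ)) ?hq9027; (case hq9027 => (set_option maxRecDepth 1000000 in conv => lhs; reduce)); intro _; exact ?xq9027 (@OfNat.ofNat Nat) instOfNatNat (@OfNat.ofNat Int) (@instOfNat) (@Neg.neg Int Int.instNegInt) : Lev × List ℤ × List ℤ)

/-- a level -/
noncomputable def l27 : Lev × List ℤ × List ℤ :=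
  (by
  refine (?fq9028 : (fun (On : (n : Nat) → OfNat Nat n → Nat) (In : (n : Nat) → OfNat Nat n) (Oz : (n : Nat) → OfNat Int n → Int) (Iz : (n : Nat) → OfNat Int n) (Gz : Int → Int) => ((_root_.Prod.mk (_root_.Cfsg.Agent.TAB.Cov.Lev.mk (pk61l (fun i1 => (pk61y Oz Iz Gz (pk61d (nat_lit 25) 
    (nat_lit 0xae6c4d813dc6c0055360013af000168000086c0001f6000090000047800021000004800001d00000a000002c00000c0000050000018000008000002000000) (pk61d (nat_lit 5) 
    (nat_lit 0x8025200c008800000000000011444000c638caf03000001600010e6a92980000945d3) i1)))) (nat_lit 0) (nat_lit 59) List.nil) (pk61l (fun i1 => (pk61y Oz Iz Gz (pk61d (nat_lit 29) 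
    (nat_lit 0x201b68fed9b807a24bec69002385f054cd4aaa60a3ff36e93423f6a3a9c8342430ddc4d4593131900ac8eb0c2573ab1d9b9187182526325b9572d3bde7a0d43f2c6652d90f00ac94ea39fc9b2ae076a1826c7c59af98575e5f0106d6a59e1) i1))) (nat_lit 0) (nat_lit 27) List.nil) (pk61o On In (nat_lit 270014588)) (pk61o On In (nat_lit 16167555371024275005577101312000))) (_root_.Prod.mk (pk61l (fun i1 => (pk61y Oz Iz Gz (pk61d (nat_lit 14) 
    (nat_lit 0x200932cc48f325853a20403590b380ab124e3391dd18f28ad8e5309c453a0ce170a80381f7983c83e06959924dac7bf4e80653439460d0c0d5973d09586d1b00ff07f1074e4a28cbb3a26462bb046d6212a8d16619c89d813141004a653a65392a1c94df3939c6e) i1))) (nat_lit 0) (nat_lit 59) List.nil) (pk61l (fun i1 => (pk61y Oz Iz Gz (pk61d (nat_lit 11) 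
    (nat_lit 0x5c05cd71f2b2d21f05153bb800087e63800712000003b7e820b400000) i1))) (nat_lit 0) (nat_lit 59) List.nil))) : Lev × List ℤ × List ℤ))
    = ?xq9028 → (Lev × List ℤ × List ℤ)) ?hq9028; (case hq9028 => (set_option maxRecDepth 1000000 in conv => lhs; reduce)); intro _; exact ?xq9028 (@OfNat.ofNat Nat) instOfNatNat (@OfNat.ofNat Int) (@instOfNat) (@Neg.neg Int Int.instNegInt) : Lev × List ℤ × List ℤ)

/-- a level -/
noncomputable def l28 : Lev × List ℤ × List ℤ :=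
  (by
  refine (?fq9029 : (fun (On : (n : Nat) → OfNat Nat n → Nat) (In : (n : Nat) → OfNat Nat n) (Oz : (n : Nat) → OfNat Int n → Int) (Iz : (n : Nat) → OfNat Int n) (Gz : Int → Int) => ((_root_.Prod.mk (_root_.Cfsg.Agent.TAB.Cov.Lev.mk (pk61l (fun i1 => (pk61y Oz Iz Gz (pk61d (nat_lit 20) 
    (nat_lit 0xc25a4328bb008db0057b000fc0006c0006b0003b0002300017000120000c0000b00008000060000500003000020000100000) (pk61d (nat_lit 5) 
    (nat_lit 0x28040000c018000000000000009040000eb1a80000000000000012d7a18e0000094613) i1)))) (nat_lit 0) (nat_lit 59) List.nil) (pk61l (fun i1 => (pk61y Oz Iz Gz (pk61d (nat_lit 25) 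
    (nat_lit 0x96a8add1311b54731f274c3d8ce1645f8dc88fce06178ddb9e7d019b7f149f08482839276236094ee1bbba505ba7334dd53987900c78d06e46085c1ec1fe1738f61407fa4a6d3509610b598439dbc0e8fae26010) i1))) (nat_lit 0) (nat_lit 28) List.nil) (pk61o On In (nat_lit 25761985)) (pk61o On In (nat_lit 139010292020184406364454912000))) (_root_.Prod.mk (pk61l (fun i1 => (pk61y Oz Iz Gz (pk61d (nat_lit 14) 
    (nat_lit 0x1d102e104222dac4bd1d343060a3409e10a9ff21b056a17dfcd0208e04bf0bcd4e7743c1ce8a187710609727468870047245bc3d5857c0ae13983755383be4c0e2071cee1cf6e4f8a3262ab277c40e58fe69c14557558ed51550ea897235011c392c52ee33dd9cd) i1))) (nat_lit 0) (nat_lit 59) List.nil) (pk61l (fun i1 => (pk61y Oz Iz Gz (pk61d (nat_lit 11) 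
    (nat_lit 0x53052c2dc52e21ececd3535f0007b22b00066c00000360d2c0a800000) i1))) (nat_lit 0) (nat_lit 59) List.nil))) : Lev × List ℤ × List ℤ))
    = ?xq9029 → (Lev × List ℤ × List ℤ)) ?hq9029; (case hq9029 => (set_option maxRecDepth 1000000 in conv => lhs; reduce)); intro _; exact ?xq9029 (@OfNat.ofNat Nat) instOfNatNat (@OfNat.ofNat Int) (@instOfNat) (@Neg.neg Int Int.instNegInt) : Lev × List ℤ × List ℤ)

/-- a level -/
noncomputable def l29 : Lev × List ℤ × List ℤ :=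
  (by
  refine (?fq9030 : (fun (On : (n : Nat) → OfNat Nat n → Nat) (In : (n : Nat) → OfNat Nat n) (Oz : (n : Nat) → OfNat Int n → Int) (Iz : (n : Nat) → OfNat Int n) (Gz : Int → Int) => ((_root_.Prod.mk (_root_.Cfsg.Agent.TAB.Cov.Lev.mk (pk61l (fun i1 => (pk61y Oz Iz Gz (pk61d (nat_lit 18) 
    (nat_lit 0x30d851de6836000301404da0094800c5002880042000d4001d0004c000c0002c0007000180005000100002000040000) (pk61d (nat_lit 5) 
    (nat_lit 0x218600004300000000000000009d00001442146000000000000012b7b1cd900009c614) i1)))) (nat_lit 0) (nat_lit 59) List.nil) (pk61l (fun i1 => (pk61y Oz Iz Gz (pk61d (nat_lit 21) 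
    (nat_lit 0x19fe61037ba0f90c00bab119d2934321a26309142b38a5c3803b8525e03445b148842d9eec5eafc33c9026d5a1c93288a27a52e994445e8aa534994de013d94a999a1b358977a05632f) i1))) (nat_lit 0) (nat_lit 29) List.nil) (pk61o On In (nat_lit 515914)) (pk61o On In (nat_lit 57794183991031298575564800))) (_root_.Prod.mk (pk61l (fun i1 => (pk61y Oz Iz Gz (pk61d (nat_lit 14) 
    (nat_lit 0x15b62260314221c38d15bc23c07940740c897d6141d0db5e4c9b006a8389090cfa356e41606740585049111934e852034fc4482df84100808ea0293ce858e440a2053cb0b9abdb6e7a0d9b11d3432c428dcd20f451596abcd050ae87162750d4f6d54e0626c5347) i1))) (nat_lit 0) (nat_lit 59) List.nil) (pk61l (fun i1 => (pk61y Oz Iz Gz (pk61d (nat_lit 11) 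
    (nat_lit 0x3f03e90d53224170b14e72850005b99f0004cc000002889d408800000) i1))) (nat_lit 0) (nat_lit 59) List.nil))) : Lev × List ℤ × List ℤ))
    = ?xq9030 → (Lev × List ℤ × List ℤ)) ?hq9030; (case hq9030 => (set_option maxRecDepth 1000000 in conv => lhs; reduce)); intro _; exact ?xq9030 (@OfNat.ofNat Nat) instOfNatNat (@OfNat.ofNat Int) (@instOfNat) (@Neg.neg Int Int.instNegInt) : Lev × List ℤ × List ℤ)

/-- a level -/
noncomputable def l30 : Lev × List ℤ × List ℤ :=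
  (by
  refine (?fq9031 : (fun (On : (n : Nat) → OfNat Nat n → Nat) (In : (n : Nat) → OfNat Nat n) (Oz : (n : Nat) → OfNat Int n → Int) (Iz : (n : Nat) → OfNat Int n) (Gz : Int → Int) => ((_root_.Prod.mk (_root_.Cfsg.Agent.TAB.Cov.Lev.mk (pk61l (fun i1 => (pk61y Oz Iz Gz (pk61d (nat_lit 24) 
    (nat_lit 0xa323ba007b6500125a00083a00011a00010d00003500002300001d000012000006000005000003000002000001000000) (pk61d (nat_lit 4) 
    (nat_lit 0x20000050420000000000103000646140000000000089a7b60000ecdf) i1)))) (nat_lit 0) (nat_lit 59) List.nil) (pk61l (fun i1 => (pk61y Oz Iz Gz (pk61d (nat_lit 15) 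
    (nat_lit 0x472743d454082758bd664870c307a188489c3cbd0d91d904fd43698984920ccf66b42b8400f2c2d5db2911cf86b1674cec9cc17e1b654) i1))) (nat_lit 0) (nat_lit 30) List.nil) (pk61o On In (nat_lit 16066)) (pk61o On In (nat_lit 50970420876191072256000))) (_root_.Prod.mk (pk61l (fun i1 => (pk61y Oz Iz Gz (pk61d (nat_lit 11) 
    (nat_lit 0xb50900682361d45a84c07e0403431c14e8cd879440701d423a075a60b1ae0bb04c904db0b2376238be0880887a0ab9e793a06015973a16e71fab611ee18914bc20fa91dbc9ad0b43a8a51b9722760a1a81) i1))) (nat_lit 0) (nat_lit 59) List.nil) (pk61l (fun i1 => (pk61y Oz Iz Gz (pk61d (nat_lit 8) 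
    (nat_lit 0x7034b5848185b3c5300306c0050000054a4040000) i1))) (nat_lit 0) (nat_lit 59) List.nil))) : Lev × List ℤ × List ℤ))
    = ?xq9031 → (Lev × List ℤ × List ℤ)) ?hq9031; (case hq9031 => (set_option maxRecDepth 1000000 in conv => lhs; reduce)); intro _; exact ?xq9031 (@OfNat.ofNat Nat) instOfNatNat (@OfNat.ofNat Int) (@instOfNat) (@Neg.neg Int Int.instNegInt) : Lev × List ℤ × List ℤ)

/-- a level -/
noncomputable def l31 : Lev × List ℤ × List ℤ :=
  (by
  refine (?fq9032 : (fun (On : (n : Nat) → OfNat Nat n → Nat) (In : (n : Nat) → OfNat Nat n) (Oz : (n : Nat) → OfNat Int n → Int) (Iz : (n : Nat) → OfNat Int n) (Gz : Int → Int) => ((_root_.Prod.mk (_root_.Cfsg.Agent.TAB.Cov.Lev.mk (pk61l (fun i1 => (pk61y Oz Iz Gz (pk61d (nat_lit 24) 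
    (nat_lit 0x85e522029b9d000e2200074f00061d00022d0001af0000a200008f00007d00002e00001a00001200001100000a000008000006000005000004000002000001000000) (pk61d (nat_lit 5) 
    (nat_lit 0x40030c48280a110400000000000019c250008451c2f03400001a00016e8258990000a4e35) i1)))) (nat_lit 0) (nat_lit 59) List.nil) (pk61l (fun i1 => (pk61y Oz Iz Gz (pk61d (nat_lit 14) 
    (nat_lit 0x218e76609484eb0ac83f83dac36c3c4caa55b4210c5440a6f07286183a70cf6519ad9512446059fbdde2299dd861c7c8c33d50b2f) i1))) (nat_lit 0) (nat_lit 31) List.nil) (pk61o On In (nat_lit 5460)) (pk61o On In (nat_lit 6522792563267076096000))) (_root_.Prod.mk (pk61l (fun i1 => (pk61y Oz Iz Gz (pk61d (nat_lit 14) 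
    (nat_lit 0x1b472b343df2ae84741b702d509900910fa5df3195953c7650c3308544740b213a26d181b181a46f805b55b2422468942c055f399c5290a2526133e124cb2980cf06a8df4c29a2a1991208024f03cd539243113215e086210400da48db318d0b289b91bb30b1836) i1))) (nat_lit 0) (nat_lit 59) List.nil) (pk61l (fun i1 => (pk61y Oz Iz Gz (pk61d (nat_lit 11) 
    (nat_lit 0x4e050b71a8ab31cade921b2a00072e088006060000032bc5a09c00000) i1))) (nat_lit 0) (nat_lit 59) List.nil))) : Lev × List ℤ × List ℤ))
    = ?xq9032 → (Lev × List ℤ × List ℤ)) ?hq9032; (case hq9032 => (set_option maxRecDepth 1000000 in conv => lhs; reduce)); intro _; exact ?xq9032 (@OfNat.ofNat Nat) instOfNatNat (@OfNat.ofNat Int) (@instOfNat) (@Neg.neg Int Int.instNegInt) : Lev × List ℤ × List ℤ)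

/-- a level -/
noncomputable def l32 : Lev × List ℤ × List ℤ :=
  (by
  refine (?fq9033 : (fun (On : (n : Nat) → OfNat Nat n → Nat) (In : (n : Nat) → OfNat Nat n) (Oz : (n : Nat) → OfNat Int n → Int) (Iz : (n : Nat) → OfNat Int n) (Gz : Int → Int) => ((_root_.Prod.mk (_root_.Cfsg.Agent.TAB.Cov.Lev.mk (pk61l (fun i1 => (pk61y Oz Iz Gz (pk61d (nat_lit 23) 
    (nat_lit 0x9302a001a94000ca80001af0001200000600000b80001100001e0000280000480000700000c00001000001000000) (pk61d (nat_lit 4) 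
    (nat_lit 0x106000000200000000001350009a740000000000008c00bb0000edcf) i1)))) (nat_lit 0) (nat_lit 59) List.nil) (pk61l (fun i1 => (pk61y Oz Iz Gz (pk61d (nat_lit 9) 
    (nat_lit 0xbe2e451ada3190f3de98101e2696e34cf278ec16873e0f000d025848f636120907e2d) i1))) (nat_lit 0) (nat_lit 32) List.nil) (pk61o On In (nat_lit 257)) (pk61o On In (nat_lit 14335807831356211200))) (_root_.Prod.mk (pk61l (fun i1 => (pk61y Oz Iz Gz (pk61d (nat_lit 13) 
    (nat_lit 0x2c688cc19422d873c59212807c80f0330c34149a29580e4f806d073c23e7fb58d82c1a602d704a2364d782ae36588c0bb82180851df0a8e773915815815a5af9e7b881f26d3f1e286310feec00f8a3a5b4669d0b30e68a206c97029cf09e69d9) i1))) (nat_lit 0) (nat_lit 59) List.nil) (pk61l (fun i1 => (pk61y Oz Iz Gz (pk61d (nat_lit 10) 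
    (nat_lit 0x1f03d295691a179693b149000bc6a0004e8000014aa101000000) i1))) (nat_lit 0) (nat_lit 59) List.nil))) : Lev × List ℤ × List ℤ))
    = ?xq9033 → (Lev × List ℤ × List ℤ)) ?hq9033; (case hq9033 => (set_option maxRecDepth 1000000 in conv => lhs; reduce)); intro _; exact ?xq9033 (@OfNat.ofNat Nat) instOfNatNat (@OfNat.ofNat Int) (@instOfNat) (@Neg.neg Int Int.instNegInt) : Lev × List ℤ × List ℤ)

/-- a level -/
noncomputable def l33 : Lev × List ℤ × List ℤ :=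
  (by
  refine (?fq9034 : (fun (On : (n : Nat) → OfNat Nat n → Nat) (In : (n : Nat) → OfNat Nat n) (Oz : (n : Nat) → OfNat Int n → Int) (Iz : (n : Nat) → OfNat Int n) (Gz : Int → Int) => ((_root_.Prod.mk (_root_.Cfsg.Agent.TAB.Cov.Lev.mk (pk61l (fun i1 => (pk61y Oz Iz Gz (pk61d (nat_lit 22) 
    (nat_lit 0xe8b41c177780034dc00af8000a1c00167000360000d700029c000770001200004700007c0001700003c000080000180000400000c0000200000400000) (pk61d (nat_lit 5) 
    (nat_lit 0x1108528083184000014a00000280c5001084809002c0000140000ef731aa98000a4a35) i1)))) (nat_lit 0) (nat_lit 59) List.nil) (pk61l (fun i1 => (pk61y Oz Iz Gz (pk61d (nat_lit 5) 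
    (nat_lit 0x20a400816c3a59000c2860949298ee1a86320083) i1))) (nat_lit 0) (nat_lit 33) List.nil) (pk61o On In (nat_lit 8)) (pk61o On In (nat_lit 18593784476467200))) (_root_.Prod.mk (pk61l (fun i1 => (pk61y Oz Iz Gz (pk61d (nat_lit 11) 
    (nat_lit 0xfdcc888f3202987f0630b00544ac5b1d4c52291c509a298362dc7f01065a8fe06ac79358ed4d831d0d8bf0b6ab4f12a6d040641e200e293fecc4b02a42558654316cc9a7026210252ce5a72a04a3ce2388) i1))) (nat_lit 0) (nat_lit 59) List.nil) (pk61l (fun i1 => (pk61y Oz Iz Gz (pk61d (nat_lit 8) 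
    (nat_lit 0xc066a7b6321825376004197006f000077e5050000) i1))) (nat_lit 0) (nat_lit 59) List.nil))) : Lev × List ℤ × List ℤ))
    = ?xq9034 → (Lev × List ℤ × List ℤ)) ?hq9034; (case hq9034 => (set_option maxRecDepth 1000000 in conv => lhs; reduce)); intro _; exact ?xq9034 (@OfNat.ofNat Nat) instOfNatNat (@OfNat.ofNat Int) (@instOfNat) (@Neg.neg Int Int.instNegInt) : Lev × List ℤ × List ℤ)

/-- a level -/
noncomputable def l34 : Lev × List ℤ × List ℤ :=
  (by
  refine (?fq9035 : (fun (On : (n : Nat) → OfNat Nat n → Nat) (In : (n : Nat) → OfNat Nat n) (Oz : (n : Nat) → OfNat Int n → Int) (Iz : (n : Nat) → OfNat Int n) (Gz : Int → Int) => ((_root_.Prod.mk (_root_.Cfsg.Agent.TAB.Cov.Lev.mk (pk61l (fun i1 => (pk61y Oz Iz Gz (pk61d (nat_lit 24) 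
    (nat_lit 0xdcca640801e40026640008ee00049100021b0001440000b400006b00003b00002400002000001d00001100000c00000b000008000006000005000004000003000002000000) (pk61d (nat_lit 5) 
    (nat_lit 0x12928c052000210c0900129480000a0ca000e7420720240000120001707b9ac98000ad236) i1)))) (nat_lit 0) (nat_lit 59) List.nil) (pk61l (fun i1 => (pk61y Oz Iz Gz (pk61d (nat_lit 6) 
    (nat_lit 0xf0211833088ca3d529039301450720330b20d0d2403005147) i1))) (nat_lit 0) (nat_lit 34) List.nil) (pk61o On In (nat_lit 16)) (pk61o On In (nat_lit 74375137905868800))) (_root_.Prod.mk (pk61l (fun i1 => (pk61y Oz Iz Gz (pk61d (nat_lit 14) 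
    (nat_lit 0x2255365c4e335f859c22903870c100b713b65cb1fe9ac09520f650a7c59c0e118b6899021fa33c8c40725b4c53a484754306bf48946830cad72b414970ae1101070869190f582ba7c1028e42e984d9693adad1831b8aa8c947c1144b393e7d508ada165f3d51e82) i1))) (nat_lit 0) (nat_lit 59) List.nil) (pk61l (fun i1 => (pk61y Oz Iz Gz (pk61d (nat_lit 11) 
    (nat_lit 0x64060e6a16b652471896cbfe00090e8f800796000003fff920c400000) i1))) (nat_lit 0) (nat_lit 59) List.nil))) : Lev × List ℤ × List ℤ))
    = ?xq9035 → (Lev × List ℤ × List ℤ)) ?hq9035; (case hq9035 => (set_option maxRecDepth 1000000 in conv => lhs; reduce)); intro _; exact ?xq9035 (@OfNat.ofNat Nat) instOfNatNat (@OfNat.ofNat Int) (@instOfNat) (@Neg.neg Int Int.instNegInt) : Lev × List ℤ × List ℤ)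

/-- a level -/
noncomputable def l35 : Lev × List ℤ × List ℤ :=
  (by
  refine (?fq9036 : (fun (On : (n : Nat) → OfNat Nat n → Nat) (In : (n : Nat) → OfNat Nat n) (Oz : (n : Nat) → OfNat Int n → Int) (Iz : (n : Nat) → OfNat Int n) (Gz : Int → Int) => ((_root_.Prod.mk (_root_.Cfsg.Agent.TAB.Cov.Lev.mk (pk61l (fun i1 => (pk61y Oz Iz Gz (pk61d (nat_lit 24) 
    (nat_lit 0x926de9014796000c3c0009e90003960000fc0000f600006c00003600002b00002900002400002300001e00001100000e00000c000009000007000006000005000004000003000002000001000000) (pk61d (nat_lit 5) 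
    (nat_lit 0x1c0008c85300471040d001ce7000031d2b0016c505140340000240002118be71b8000c5ab9) i1)))) (nat_lit 0) (nat_lit 59) List.nil) (pk61l (fun i1 => (pk61y Oz Iz Gz (pk61d (nat_lit 8) 
    (nat_lit 0x2f4f3106134c973c4abf4a6a4f11630034446807130314070d533250230005053820) i1))) (nat_lit 0) (nat_lit 35) List.nil) (pk61o On In (nat_lit 64)) (pk61o On In (nat_lit 1115627068588032000))) (_root_.Prod.mk (pk61l (fun i1 => (pk61y Oz Iz Gz (pk61d (nat_lit 14) 
    (nat_lit 0x13461e882ba1e2c329133421206a40660b2951811e4eed534c89805f031f07fcddf4d4c11c5b984ed0428f132eb84842eec3d228d83980738cd824a4ccd7e0408c04b49d388dd82e6bbd6b519bc2d43af59640d64f6b5ee4b7b09286422230bcd6084c542285101) i1))) (nat_lit 0) (nat_lit 59) List.nil) (pk61l (fun i1 => (pk61y Oz Iz Gz (pk61d (nat_lit 11) 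
    (nat_lit 0x8000000000000000000000000000000000000000000000000000000000000000000390367fd2c1e61449d4cd239000521700004440000223c8b408000000) i1))) (nat_lit 0) (nat_lit 59) List.nil))) : Lev × List ℤ × List ℤ))
    = ?xq9036 → (Lev × List ℤ × List ℤ)) ?hq9036; (case hq9036 => (set_option maxRecDepth 1000000 in conv => lhs; reduce)); intro _; exact ?xq9036 (@OfNat.ofNat Nat) instOfNatNat (@OfNat.ofNat Int) (@instOfNat) (@Neg.neg Int Int.instNegInt) : Lev × List ℤ × List ℤ)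

/-- a level -/
noncomputable def l36 : Lev × List ℤ × List ℤ :=
  (by
  refine (?fq9037 : (fun (On : (n : Nat) → OfNat Nat n → Nat) (In : (n : Nat) → OfNat Nat n) (Oz : (n : Nat) → OfNat Int n → Int) (Iz : (n : Nat) → OfNat Int n) (Gz : Int → Int) => ((_root_.Prod.mk (_root_.Cfsg.Agent.TAB.Cov.Lev.mk (pk61l (fun i1 => (pk61y Oz Iz Gz (pk61d (nat_lit 24) 
    (nat_lit 0x9b0d2a03e3d500040200032a0000a200008a00005a00005900003600003500001200001100001000000b00000a000006000005000004000002000001000000) (pk61d (nat_lit 5) 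
    (nat_lit 0x192a10c07000a5280090012e5000012000000845282d04000001800000b711eb900009c634) i1)))) (nat_lit 0) (nat_lit 59) List.nil) (pk61l (fun i1 => (pk61y Oz Iz Gz (pk61d (nat_lit 7) 
    (nat_lit 0xbc41a0a021d096a5c212af12980010a07360c40718d5a0646900050a4001f) i1))) (nat_lit 0) (nat_lit 36) List.nil) (pk61o On In (nat_lit 32)) (pk61o On In (nat_lit 390469474005811200))) (_root_.Prod.mk (pk61l (fun i1 => (pk61y Oz Iz Gz (pk61d (nat_lit 14) 
    (nat_lit 0x11da1c602901c242e3121c1c806640600a393bc10acdf94dac80605682f106eccd1475412a54d04970380e912b4047c2bf4384259037006a0c28221cc1f74e4092046c9338035716646d5a918c424a36a57e20cace6d5794a9909705c82168ae55b0cbde1fb4feb) i1))) (nat_lit 0) (nat_lit 59) List.nil) (pk61l (fun i1 => (pk61y Oz Iz Gz (pk61d (nat_lit 11) 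
    (nat_lit 0x100000000000000000000000000000000000000000000000000000000000000000003102e78d161ca13490cbd2130004b9550003f000001a1482005800000) i1))) (nat_lit 0) (nat_lit 59) List.nil))) : Lev × List ℤ × List ℤ))
    = ?xq9037 → (Lev × List ℤ × List ℤ)) ?hq9037; (case hq9037 => (set_option maxRecDepth 1000000 in conv => lhs; reduce)); intro _; exact ?xq9037 (@OfNat.ofNat Nat) instOfNatNat (@OfNat.ofNat Int) (@instOfNat) (@Neg.neg Int Int.instNegInt) : Lev × List ℤ × List ℤ)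

/-- a level -/
noncomputable def l37 : Lev × List ℤ × List ℤ :=
  (by
  refine (?fq9038 : (fun (On : (n : Nat) → OfNat Nat n → Nat) (In : (n : Nat) → OfNat Nat n) (Oz : (n : Nat) → OfNat Int n → Int) (Iz : (n : Nat) → OfNat Int n) (Gz : Int → Int) => ((_root_.Prod.mk (_root_.Cfsg.Agent.TAB.Cov.Lev.mk (pk61l (fun i1 => (pk61y Oz Iz Gz (pk61d (nat_lit 22) 
    (nat_lit 0xf9aa0c21e1c004bf00076100128c000b40002840009c0001b00005a0000ec0003500009000014000048000110000300000b00001c000060000100000200000400000) (pk61d (nat_lit 5) 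
    (nat_lit 0x10918007000000880c001c84000018000000e65148e04400001c00000f9360ba0000b5677) i1)))) (nat_lit 0) (nat_lit 59) List.nil) (pk61l (fun i1 => (pk61y Oz Iz Gz (pk61d (nat_lit 7) 
    (nat_lit 0x402589700863bc1dbe5424e08e80047cc2a3a5c50748ac50a0800204486c089) i1))) (nat_lit 0) (nat_lit 37) List.nil) (pk61o On In (nat_lit 35)) (pk61o On In (nat_lit 671119408447488000))) (_root_.Prod.mk (pk61l (fun i1 => (pk61y Oz Iz Gz (pk61d (nat_lit 5) 
    (nat_lit 0x38c218462080541b5e6104878864504d0669102130e7d886bfea79388f80c62721147ab8ed) i1))) (nat_lit 0) (nat_lit 59) List.nil) (pk61l (fun i1 => (pk61y Oz Iz Gz (pk61d (nat_lit 3) 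
    (nat_lit 0x52041090402800) i1))) (nat_lit 0) (nat_lit 59) List.nil))) : Lev × List ℤ × List ℤ))
    = ?xq9038 → (Lev × List ℤ × List ℤ)) ?hq9038; (case hq9038 => (set_option maxRecDepth 1000000 in conv => lhs; reduce)); intro _; exact ?xq9038 (@OfNat.ofNat Nat) instOfNatNat (@OfNat.ofNat Int) (@instOfNat) (@Neg.neg Int Int.instNegInt) : Lev × List ℤ × List ℤ)

/-- a level -/
noncomputable def l38 : Lev × List ℤ × List ℤ :=
  (by
  refine (?fq9039 : (fun (On : (n : Nat) → OfNat Nat n → Nat) (In : (n : Nat) → OfNat Nat n) (Oz : (n : Nat) → OfNat Int n → Int) (Iz : (n : Nat) → OfNat Int n) (Gz : Int → Int) => ((_root_.Prod.mk (_root_.Cfsg.Agent.TAB.Cov.Lev.mk (pk61l (fun i1 => (pk61y Oz Iz Gz (pk61d (nat_lit 22) 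
    (nat_lit 0xbb3e482ee4d0024480010d0002880007e000168000360000d4000120000440000a000018000050000100000300000800000) (pk61d (nat_lit 5) 
    (nat_lit 0x8e8188a5280c00840a001494000018427000880942c02000000e00008d4910b7000083dd1) i1)))) (nat_lit 0) (nat_lit 59) List.nil) (pk61l (fun i1 => (pk61y Oz Iz Gz (pk61d (nat_lit 5) 
    (nat_lit 0x130a4801312523c0e19403a0c85208a50084701ce561027) i1))) (nat_lit 0) (nat_lit 38) List.nil) (pk61o On In (nat_lit 11)) (pk61o On In (nat_lit 57524520724070400))) (_root_.Prod.mk (pk61l (fun i1 => (pk61y Oz Iz Gz (pk61d (nat_lit 14) 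
    (nat_lit 0x163c233032622e43a1165425407cc0780cc9860149d143608c9f006d039f08fcffd593414e69e05ab04d918b35c8548365c45e2f184400848ee62a2cec9916c0a40584b5f9e45c047c2da571dc4322440dd540f7d1cf6d84d270a887382788da56fe4e5427dd3a1) i1))) (nat_lit 0) (nat_lit 59) List.nil) (pk61l (fun i1 => (pk61y Oz Iz Gz (pk61d (nat_lit 11) 
    (nat_lit 0x3f03e94559232174b54ec2910005e1a90004ec00002296a1008800000) i1))) (nat_lit 0) (nat_lit 59) List.nil))) : Lev × List ℤ × List ℤ))
    = ?xq9039 → (Lev × List ℤ × List ℤ)) ?hq9039; (case hq9039 => (set_option maxRecDepth 1000000 in conv => lhs; reduce)); intro _; exact ?xq9039 (@OfNat.ofNat Nat) instOfNatNat (@OfNat.ofNat Int) (@instOfNat) (@Neg.neg Int Int.instNegInt) : Lev × List ℤ × List ℤ)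

/-- the levels with the coefficients -/
noncomputable def lc : List (Lev × List ℤ × List ℤ) :=
  (beta% delta% lq26ce77da96 fun _ c d _ _ h _ _ _ _ _ _ _ _ _ _ _ _ _ _ _ _ =>
 (let b:=(let b:=(let b:=(h l34<|h l35<|h l36<|h l37<|h l38<|d);
 (h l29<|h l30<|h l31<|h l32<|h l33<|b));
 (let b:=(h l24<|
 h l25<|h l26<|h l27<|h l28<|b);
 (h l19<|h l20<|h l21<|h l22<|h l23<|b)));
 (let b:=(let b:=(h l14<|h l15<|h l16<|h l17<|h l18<|b);
 (h l9<|h l10<|h l11<|h l12<|h l13<|b));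
 (let b:=(h l4<|h l5<|h l6<|h l7<|h l8<|b);
 (c l0<|c l1<|c l2<|c l3<|b)))))

/-- the levels -/
noncomputable def lv : List Lev := lc.map Prod.fst

/-- the degree -/
def cd : List ℤ :=
  (beta% delta% lq26ce77da96 fun a c d _ _ _ _ _ _ _ _ _ _ _ _ _ _ _ _ _ _ _ =>
 (let b:=(let b:=(let b:=(a 2729376<|a (-401004)<|a (-44577)<|a 310095<|a 1791153<|d);
 (a 12474<|
 a 1658475<|a (-2678670)<|a 965790<|a 0<|b));
 (let b:=(a 2282742<|a (-1425600)<|a 1965600<|a 982800<|a (-3260250)<|b);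
 (a 1755000<|a (-1351350)<|a 0<|a (-1297296)<|a (-1631448)<|b)));
 (let b:=(let b:=(a (-311850)<|a 982800<|a 1351350<|
 a 1351350<|a (-368550)<|b);
 (a (-982800)<|a 1658475<|a (-1351350)<|a (-1289925)<|a 1351350<|b));
 (let b:=(a 0<|a 0<|a 12474<|a 368550<|a 0<|b);
 (c 0<|c 0<|c 0<|c 0<|b)))))

/-- the mean value on the elements of order `11` -/
def cM : List ℤ :=
  (beta% delta% lq26ce77da96 fun a c d _ _ _ _ _ _ _ _ _ _ _ _ _ _ _ _ _ _ _ =>
 (let b:=(let b:=(let b:=(a 2<|a 2<|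
 a 1<|a (-1)<|a 2<|d);
 (a 0<|a (-1)<|a 1<|a 2<|a 0<|b));
 (let b:=(a 0<|a 0<|a (-2)<|a (-1)<|a 3<|b);
 (a (-1)<|a 0<|a 0<|a 0<|a 1<|b)));
 (let b:=(let b:=(a 0<|a (-1)<|a 0<|a 0<|a (-1)<|b);
 (a 1<|a (-1)<|a 0<|a 2<|a 0<|b));
 (let b:=(a 0<|a 0<|a 0<|a 1<|a 0<|b);
 (c 0<|c 0<|c 0<|c 0<|b)))))

/-- the characteristic function of the elements of order `11` -/
noncomputable def cF : List ℤ :=
  (by
  refine (?fq9040 : (fun (Oz : (n : Nat) → OfNat Int n → Int) (Iz : (n : Nat) → OfNat Int n) (Gz : Int → Int) => ((pk61l (fun i1 => (pk61y Oz Iz Gz (pk61d (nat_lit 3) 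
    (nat_lit 0x410046c0004020020000000000000000000603000024) i1))) (nat_lit 0) (nat_lit 59) List.nil) : List ℤ))
    = ?xq9040 → (List ℤ)) ?hq9040; (case hq9040 => (set_option maxRecDepth 1000000 in conv => lhs; reduce)); intro _; exact ?xq9040 (@OfNat.ofNat Int) (@instOfNat) (@Neg.neg Int Int.instNegInt) : List ℤ)

/-- the vector of a level is a sum of two admissible vectors -/
noncomputable def okV (x : Lev × List ℤ × List ℤ) : Bool :=
  (beta% delta% lq26ce77da96 fun _ c d _ _ _ i _ l _ _ _ _ q r s u w y z _ _ =>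
 q (r x.2.1 (s ++ u)) fun k => q (r x.2.2 (s ++ u)) fun e =>
 w (fun t => l (i x.1.v t = i k t + i y t * i e t) && l (3 ∣ dat.ord t → i k t = 0) &&
 l (t ∈ (c 35<|c 46<|c 55<|d) → i e t = 0)) (z 59))

section

open Cfsg.Agent.TAB.Pk Finset

/-- the products -/
private noncomputable def wz (U : List ℕ) : List ℤ → List (ℕ × ℕ) :=
  List.rec (fun _ => []) (fun u _ ih c => Pk.st u (nth c 0) (0, 0) :: ih c.tail) U

private theorem wz_spec (U : List ℕ) (c : List ℤ) : (wz U c).length = U.length ∧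
    ∀ t, sg (ntd (wz U c) (0, 0) t) = nth c t * U.getD t 0 := by
  induction U generalizing c with
  | nil => exact ⟨rfl, fun t => (mul_zero _).symm⟩
  | cons u U ih =>
    refine ⟨congrArg Nat.succ (ih c.tail).1, fun t => ?_⟩
    cases t with
    | zero => exact (sg_st u (nth c 0) (0, 0)).trans (zero_add _)
    | succ t => exact ((ih c.tail).2 t).trans (by cases c <;> rfl)

private theorem sg_lin (B n : ℕ) (c r : List ℤ) (R : List (List ℤ)) : sg (dp (R.map (dp (wz (pows B n) c))) r) =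
    ∑ t ∈ range n, (B : ℤ) ^ t * (nth c t * nth (lin r R) t) := by
  induction r generalizing R with
  | nil =>
    refine Eq.trans ?_ (sum_eq_zero fun t _ => (congrArg _ (mul_zero _)).trans (mul_zero _)).symm
    cases R <;> rfl
  | cons a r ih => cases R with
    | nil => exact (sum_eq_zero fun t _ => (congrArg _ (mul_zero _)).trans (mul_zero _)).symm
    | cons b R =>
      refine (sg_s2 (dp (wz (pows B n) c) b) a (dp (R.map (dp (wz (pows B n) c))) r)).trans ?_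
      rw [ih, sg_dp, (wz_spec _ c).1, length_pows, mul_sum, ← sum_add_distrib]
      refine sum_congr rfl fun t ht => ?_
      rw [(wz_spec _ c).2, getD_pows B (mem_range.1 ht), nth_lin_cons]
      ring

private theorem abs_lin {K : ℕ} (r : List ℤ) {R : List (List ℤ)} (h : ∀ b ∈ R, Pk.l1 b ≤ K) (t : ℕ) :
    |nth (lin r R) t| ≤ Pk.l1 r * K := by
  induction r generalizing R with
  | nil => exact mul_nonneg (Int.natCast_nonneg _) (Int.natCast_nonneg _)
  | cons a r ih => cases R with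
    | nil => exact mul_nonneg (Int.natCast_nonneg _) (Int.natCast_nonneg _)
    | cons b R =>
      rw [nth_lin_cons, l1_cons, add_mul]
      refine (abs_add_le _ _).trans (add_le_add ?_ (ih fun b hb => h b (List.mem_cons_of_mem _ hb)))
      rw [abs_mul]
      exact mul_le_mul_of_nonneg_left ((abs_le_l1 b t).trans (Int.ofNat_le.2 (h b List.mem_cons_self))) (abs_nonneg _)

private theorem abs_lin' {C : ℕ} (c : List ℤ) {r : List ℤ} {R : List (List ℤ)} (hc : Pk.l1 c ≤ C) (hr : Pk.l1 r ≤ C)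
    (hR : Pk.l2 R ≤ C) (t : ℕ) : |nth c t * nth (lin r R) t| ≤ (C * (C * C) : ℕ) := by
  rw [abs_mul, Nat.cast_mul, Nat.cast_mul]
  exact mul_le_mul ((abs_le_l1 c t).trans (Int.ofNat_le.2 hc)) ((abs_lin r (fun b hb => (l1_le_l2 hb).trans hR) t).trans
    (mul_le_mul_of_nonneg_right (Int.ofNat_le.2 hr) (Int.natCast_nonneg _))) (abs_nonneg _) (Int.natCast_nonneg _)

/-- an indicator -/
private noncomputable def ind (p : ℕ → Prop) [DecidablePred p] : List ℤ := (List.range 59).map fun t => if p t then 1 else 0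

private theorem nth_ind {p : ℕ → Prop} [DecidablePred p] {t : ℕ} (h : t < 59) (hp : p t) : nth (ind p) t = 1 :=
  (nth_eq _ _).trans ((getD_range _ _ h).trans (if_pos hp))

/-- the packed rows -/
private noncomputable def pk (c : List ℤ) : List (ℕ × ℕ) := (rowA ++ rowB).map (dp (wz (pows (3 ^ 80) 59) c))

/-- the check on packed rows -/
private noncomputable def okP : Bool :=
  Nat.ble (Pk.l2 (rowA ++ rowB)) (2 ^ 40) && Nat.ble (Pk.l1 bb) (2 ^ 40) && Nat.ble (Pk.l1 (ind fun _ => True)) (2 ^ 40) &&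
    Nat.ble (Pk.l1 (ind fun t => 3 ∣ dat.ord t)) (2 ^ 40) && Nat.ble (Pk.l1 (ind fun t => t ∈ [35, 46, 55])) (2 ^ 40) &&
    frcL (pows (3 ^ 80) 59) fun U => frcP (pk (ind fun _ => True)) (beta% delta% lq26ce77da96 fun _ c d f _ _ _ j _ m n o p _ _ _ _ w y _ A B =>
 fun P1 => m (pk y) fun P2 =>
 m (pk (ind fun t => 3 ∣ dat.ord t)) fun P3 => m (pk (ind fun t => t ∈ (c 35<|c 46<|c 55<|d))) fun P4 =>
 w (fun x => n (o x.1.v) (2 ^ 40) && n (o x.2.1) (2 ^ 40) && n (o x.2.2) (2 ^ 40) &&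
 p (A (j P2 x.2.2) 1 (j P1 x.2.1)) (B U x.1.v) && p (j P3 x.2.1) (f 0 0) &&
 p (j P4 x.2.2) (f 0 0)) lc :
 List (ℕ × ℕ) → Bool)

theorem lc_chk : allL okV lc = true := by
  have h : okP = true := by decide +kernel
  rw [okP, frcL_eq, frcP_eq, frcP_eq, frcP_eq, frcP_eq] at h
  simp only [Bool.and_eq_true, Nat.ble_eq] at h
  obtain ⟨⟨⟨⟨⟨a1, a2⟩, a3⟩, a4⟩, a5⟩, h⟩ := h
  refine allL_of fun x hx => (frL_eq _ _).trans ((frL_eq _ _).trans (allL_of fun t ht => ?_))
  have h1 := allL_spec h x hx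
  simp only [Bool.and_eq_true, Nat.ble_eq] at h1
  obtain ⟨⟨⟨⟨⟨b1, b2⟩, b3⟩, b4⟩, b5⟩, b6⟩ := h1
  have ht' := List.mem_range.1 ht
  have z : ∀ {c r : List ℤ}, Pk.l1 c ≤ 2 ^ 40 → Pk.l1 r ≤ 2 ^ 40 → eqS (dp (pk c) r) (0, 0) = true →
      nth c t * nth (lin r (rowA ++ rowB)) t = 0 := fun hc hr h2 =>
    digits_eq (B := 3 ^ 80) (K := 2 ^ 40 * (2 ^ 40 * 2 ^ 40)) (g := fun _ => 0) (by norm_num)
      (fun j _ => abs_lin' _ hc hr a1 j) (fun j _ => Int.natCast_nonneg _)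
      ((sg_lin _ _ _ _ _).symm.trans ((eqS_spec h2).trans (sum_eq_zero fun j _ => mul_zero _).symm)) t ht'
  have c1 := digits_eq (B := 3 ^ 80) (K := 2 ^ 40 * (2 ^ 40 * 2 ^ 40) + 2 ^ 40 * (2 ^ 40 * 2 ^ 40)) (k := 59)
    (f := nth x.1.v) (g := fun j => nth (ind fun _ => True) j * nth (lin x.2.1 (rowA ++ rowB)) j +
      nth bb j * nth (lin x.2.2 (rowA ++ rowB)) j) (by norm_num)
    (fun j _ => (abs_le_l1 _ j).trans (Int.ofNat_le.2 (b1.trans (by norm_num))))
    (fun j _ => (abs_add_le _ _).trans ((add_le_add (abs_lin' _ a3 b2 a1 j) (abs_lin' _ a2 b3 a1 j)).trans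
      (Nat.cast_add _ _).ge))
    (by
      rw [← sg_enc, ← eqS_spec b4, sg_s2, one_mul, pk, pk, sg_lin, sg_lin, ← sum_add_distrib]
      exact sum_congr rfl fun j _ => (mul_add _ _ _).symm) t ht'
  rw [nth_ind ht' trivial, one_mul] at c1
  simp only [Bool.and_eq_true, decide_eq_true_eq]
  refine ⟨⟨c1, fun h3 => ?_⟩, fun h3 => ?_⟩
  · have c2 := z a4 b2 b5
    rwa [nth_ind (p := fun t => 3 ∣ dat.ord t) ht' h3, one_mul] at c2
  · have c2 := z a5 b3 b6
    rwa [nth_ind (p := fun t => t ∈ [35, 46, 55]) ht' h3, one_mul] at c2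

end

private theorem _root_.Cfsg.Agent.KO579fdb6.e0.{ku, kv} {α : Type kv} {M : List α → Sort ku} (φ : ∀ l, M l) {z : M List.nil} {s : ∀ a l, M l → M (List.cons a l)} (h0 : φ List.nil = z) (hs : ∀ a l, φ (List.cons a l) = s a l (φ l)) (l : List α) : φ l = @List.rec α M z s l := List.rec h0 (fun a l ih => (hs a l).trans (congrArg (s a l) ih)) l
private noncomputable def _root_.Cfsg.Agent.KO579fdb6.k1.{ku0, ku1} : type_of% @List.map.{ku0, ku1} := @(fun x0 x1 x2 x3 => @List.rec.{(ku1+1), ku0} @x0 @(fun x4 => @List.{ku1} @x1) [] @(fun x4 x5 x6 => (@x2 @x4) :: @x6) @x3)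
private theorem _root_.Cfsg.Agent.KO579fdb6.e1.{ku0, ku1} : @List.map.{ku0, ku1} = @_root_.Cfsg.Agent.KO579fdb6.k1.{ku0, ku1} := by delta _root_.Cfsg.Agent.KO579fdb6.k1; funext a0 a1 a2 a3; refine (_root_.Cfsg.Agent.KO579fdb6.e0 (fun a3 => @List.map.{ku0, ku1} a0 a1 a2 a3) ?_ (fun c0 c1 => ?_) a3 :) <;> (rfl')
private noncomputable def _root_.Cfsg.Agent.KO579fdb6.k2 : (by first | exact type_of% @Cfsg.Agent.TAB.Eng.frc | exact Unit : Sort _) := by first | (refine @Subtype.val _ (fun g => @Cfsg.Agent.TAB.Eng.frc = @g) (@Subtype.mk _ _ (@(fun x0 x1 x2 => @Nat.rec.{1} @(fun x3 => @x0) (@x2 (nat_lit 0)) @(fun x3 x4 => @x2 (@Nat.succ @x3)) @x1)) ?_); rfl') | exact @Cfsg.Agent.TAB.Eng.frc | exact ()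
private theorem _root_.Cfsg.Agent.KO579fdb6.e2 : (by first | exact @Cfsg.Agent.TAB.Eng.frc = @_root_.Cfsg.Agent.KO579fdb6.k2 | exact True : Prop) := by first | (delta _root_.Cfsg.Agent.KO579fdb6.k2; exact @Subtype.property _ (fun g => @Cfsg.Agent.TAB.Eng.frc = @g) _) | rfl | trivial
private noncomputable def _root_.Cfsg.Agent.KO579fdb6.k3 : (by first | exact type_of% @Cfsg.Agent.TAB.Cov.frI | exact Unit : Sort _) := by first | (refine @Subtype.val _ (fun g => @Cfsg.Agent.TAB.Cov.frI = @g) (@Subtype.mk _ _ (@(fun x0 x1 x2 => @Int.rec.{1} @(fun x3 => @x0) @(fun x3 => @Cfsg.Agent.KO579fdb6.k2 _ @x3 @(fun x4 => @x2 (@Int.ofNat @x4))) @(fun x3 => @Cfsg.Agent.KO579fdb6.k2 _ @x3 @(fun x4 => @x2 (@Int.negSucc @x4))) @x1)) ?_); rewrite [← Cfsg.Agent.KO579fdb6.e2]; (try delta Cfsg.Agent.TAB.Cov.frI); (try generalize @Cfsg.Agent.TAB.Eng.frc = g0); rfl') | exact @Cfsg.Agent.TAB.Cov.frI | exact ()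
private theorem _root_.Cfsg.Agent.KO579fdb6.e3 : (by first | exact @Cfsg.Agent.TAB.Cov.frI = @_root_.Cfsg.Agent.KO579fdb6.k3 | exact True : Prop) := by first | (delta _root_.Cfsg.Agent.KO579fdb6.k3; exact @Subtype.property _ (fun g => @Cfsg.Agent.TAB.Cov.frI = @g) _) | rfl | trivial
private noncomputable def _root_.Cfsg.Agent.KO579fdb6.k4 : (by first | exact type_of% @Cfsg.Agent.TAB.Cov.frL | exact Unit : Sort _) := by first | (refine @Subtype.val _ (fun g => @Cfsg.Agent.TAB.Cov.frL = @g) (@Subtype.mk _ _ (@(fun x0 x1 => @List.rec.{1, 0} ℤ @(fun x2 => ((@List.{0} ℤ) → @x0) → @x0) @(fun x2 => @x2 []) @(fun x2 x3 x4 x5 => @Cfsg.Agent.KO579fdb6.k3 _ @x2 @(fun x6 => @x4 @(fun x7 => @x5 (@x6 :: @x7)))) @x1)) ?_); rewrite [← Cfsg.Agent.KO579fdb6.e3]; (try delta Cfsg.Agent.TAB.Cov.frL); (try generalize @Cfsg.Agent.TAB.Cov.frI = g0); rfl') | exact @Cfsg.Agent.TAB.Cov.frL | exact ()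
private theorem _root_.Cfsg.Agent.KO579fdb6.e4 : (by first | exact @Cfsg.Agent.TAB.Cov.frL = @_root_.Cfsg.Agent.KO579fdb6.k4 | exact True : Prop) := by first | (delta _root_.Cfsg.Agent.KO579fdb6.k4; exact @Subtype.property _ (fun g => @Cfsg.Agent.TAB.Cov.frL = @g) _) | rfl | trivial
private noncomputable def _root_.Cfsg.Agent.KO579fdb6.k5 : type_of% @Int.add := @(fun x0 x1 => @Int.rec.{1} @(fun x2 => ℤ) @(fun x2 => @Int.rec.{1} @(fun x3 => ℤ) @(fun x3 => @Int.ofNat (@Nat.add @x2 @x3)) @(fun x3 => @Nat.rec.{1} @(fun x4 => ℤ) (@Int.ofNat (@Nat.sub @x2 (@Nat.succ @x3))) @(fun x4 x5 => @Int.negSucc @x4) (@Nat.sub (@Nat.succ @x3) @x2)) @x1) @(fun x2 => @Int.rec.{1} @(fun x3 => ℤ) @(fun x3 => @Nat.rec.{1} @(fun x4 => ℤ) (@Int.ofNat (@Nat.sub @x3 (@Nat.succ @x2))) @(fun x4 x5 => @Int.negSucc @x4) (@Nat.sub (@Nat.succ @x2) @x3)) @(fun x3 => @Int.negSucc (@Nat.succ (@Nat.add @x2 @x3))) @x1) @x0)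
private theorem _root_.Cfsg.Agent.KO579fdb6.e5 : @Int.add = @_root_.Cfsg.Agent.KO579fdb6.k5 := by delta _root_.Cfsg.Agent.KO579fdb6.k5; rfl'
private noncomputable def _root_.Cfsg.Agent.KO579fdb6.k6 : (by first | exact type_of% @Cfsg.Agent.TAB.Eng.addL | exact Unit : Sort _) := by first | (refine @Subtype.val _ (fun g => @Cfsg.Agent.TAB.Eng.addL = @g) (@Subtype.mk _ _ (@(fun x0 => @List.rec.{1, 0} ℤ @(fun x1 => (@List.{0} ℤ) → @List.{0} ℤ) @(fun x1 => @x1) @(fun x1 x2 x3 x4 => @List.rec.{1, 0} ℤ @(fun x5 => @List.{0} ℤ) (@x1 :: @x2) @(fun x5 x6 x7 => (@Cfsg.Agent.KO579fdb6.k5 @x1 @x5) :: (@x3 @x6)) @x4) @x0)) ?_); rewrite [← Cfsg.Agent.KO579fdb6.e5]; rfl') | exact @Cfsg.Agent.TAB.Eng.addL | exact ()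
private theorem _root_.Cfsg.Agent.KO579fdb6.e6 : (by first | exact @Cfsg.Agent.TAB.Eng.addL = @_root_.Cfsg.Agent.KO579fdb6.k6 | exact True : Prop) := by first | (delta _root_.Cfsg.Agent.KO579fdb6.k6; exact @Subtype.property _ (fun g => @Cfsg.Agent.TAB.Eng.addL = @g) _) | rfl | trivial
private noncomputable def _root_.Cfsg.Agent.KO579fdb6.k7 : type_of% @Int.mul := @(fun x0 x1 => @Int.rec.{1} @(fun x2 => ℤ) @(fun x2 => @Int.rec.{1} @(fun x3 => ℤ) @(fun x3 => @Int.ofNat (@Nat.mul @x2 @x3)) @(fun x3 => @Nat.rec.{1} @(fun x4 => ℤ) (@Int.ofNat (nat_lit 0)) @(fun x4 x5 => @Int.negSucc @x4) (@Nat.mul @x2 (@Nat.succ @x3))) @x1) @(fun x2 => @Int.rec.{1} @(fun x3 => ℤ) @(fun x3 => @Nat.rec.{1} @(fun x4 => ℤ) (@Int.ofNat (nat_lit 0)) @(fun x4 x5 => @Int.negSucc @x4) (@Nat.mul (@Nat.succ @x2) @x3)) @(fun x3 => @Int.ofNat (@Nat.mul (@Nat.succ @x2) (@Nat.succ @x3))) @x1) @x0)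
private theorem _root_.Cfsg.Agent.KO579fdb6.e7 : @Int.mul = @_root_.Cfsg.Agent.KO579fdb6.k7 := by delta _root_.Cfsg.Agent.KO579fdb6.k7; rfl'
private noncomputable def _root_.Cfsg.Agent.KO579fdb6.k8 : (by first | exact type_of% @Cfsg.Agent.TAB.Cov.lin | exact Unit : Sort _) := by first | (refine @Subtype.val _ (fun g => @Cfsg.Agent.TAB.Cov.lin = @g) (@Subtype.mk _ _ (@(fun x0 => @List.rec.{1, 0} ℤ @(fun x1 => (@List.{0} (@List.{0} ℤ)) → @List.{0} ℤ) @(fun x1 => []) @(fun x1 x2 x3 x4 => @List.rec.{1, 0} (@List.{0} ℤ) @(fun x5 => @List.{0} ℤ) [] @(fun x5 x6 x7 => @Cfsg.Agent.KO579fdb6.k6 (@Cfsg.Agent.KO579fdb6.k1.{0, 0} _ _ (@Cfsg.Agent.KO579fdb6.k7 @x1) @x5) (@x3 @x6)) @x4) @x0)) ?_); rewrite [← Cfsg.Agent.KO579fdb6.e7, ← Cfsg.Agent.KO579fdb6.e1.{0, 0}, ← Cfsg.Agent.KO579fdb6.e6]; (try delta Cfsg.Agent.TAB.Cov.lin); (try generalize @Cfsg.Agent.TAB.Eng.addL = g0); rfl') | exact @Cfsg.Agent.TAB.Cov.lin | exact ()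
private theorem _root_.Cfsg.Agent.KO579fdb6.e8 : (by first | exact @Cfsg.Agent.TAB.Cov.lin = @_root_.Cfsg.Agent.KO579fdb6.k8 | exact True : Prop) := by first | (delta _root_.Cfsg.Agent.KO579fdb6.k8; exact @Subtype.property _ (fun g => @Cfsg.Agent.TAB.Cov.lin = @g) _) | rfl | trivial
private noncomputable def _root_.Cfsg.Agent.KO579fdb6.k9 : (by first | exact type_of% @Cfsg.Agent.TAB.Eng.allL | exact Unit : Sort _) := by first | (refine @Subtype.val _ (fun g => @Cfsg.Agent.TAB.Eng.allL = @g) (@Subtype.mk _ _ (@(fun x0 x1 x2 => @List.rec.{1, 0} @x0 @(fun x3 => @Bool) @Bool.true @(fun x3 x4 x5 => @Bool.rec.{1} @(fun x6 => @Bool) @Bool.false @x5 (@x1 @x3)) @x2)) ?_); rfl') | exact @Cfsg.Agent.TAB.Eng.allL | exact ()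
private theorem _root_.Cfsg.Agent.KO579fdb6.e9 : (by first | exact @Cfsg.Agent.TAB.Eng.allL = @_root_.Cfsg.Agent.KO579fdb6.k9 | exact True : Prop) := by first | (delta _root_.Cfsg.Agent.KO579fdb6.k9; exact @Subtype.property _ (fun g => @Cfsg.Agent.TAB.Eng.allL = @g) _) | rfl | trivial
private noncomputable def _root_.Cfsg.Agent.KO579fdb6.k10 : type_of% @Nat.decEq := @(fun x0 x1 => @Bool.rec.{1} @(fun x2 => (@Eq.{1} _ (@Nat.beq @x0 @x1) @x2) → @Decidable (@Eq.{1} _ @x0 @x1)) @(fun x2 => @Decidable.isFalse _ (@Nat.ne_of_beq_eq_false _ _ @x2)) @(fun x2 => @Decidable.isTrue _ (@Nat.eq_of_beq_eq_true _ _ @x2)) (@Nat.beq @x0 @x1) (@Eq.refl.{1} _ (@Nat.beq @x0 @x1)))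
private theorem _root_.Cfsg.Agent.KO579fdb6.e10 : @Nat.decEq = @_root_.Cfsg.Agent.KO579fdb6.k10 := by delta _root_.Cfsg.Agent.KO579fdb6.k10; rfl'
private noncomputable def _root_.Cfsg.Agent.KO579fdb6.k11 : type_of% @Int.decEq := @(fun x0 x1 => @Int.rec.{1} @(fun x2 => @Decidable (@Eq.{1} _ @x2 @x1)) @(fun x2 => @Int.rec.{1} @(fun x3 => @Decidable (@Eq.{1} _ (@Int.ofNat @x2) @x3)) @(fun x3 => @Decidable.rec.{1} _ @(fun x4 => @Decidable (@Eq.{1} _ (@Int.ofNat @x2) (@Int.ofNat @x3))) @(fun x4 => @Decidable.isFalse _ (@Int.decEq._proof_2 @x2 @x3 @x4)) @(fun x4 => @Decidable.isTrue _ (@Int.decEq._proof_1 @x2 @x3 @x4)) (@Cfsg.Agent.KO579fdb6.k10 @x2 @x3)) @(fun x3 => @Decidable.isFalse _ (@Int.decEq._proof_3 @x2 @x3)) @x1) @(fun x2 => @Int.rec.{1} @(fun x3 => @Decidable (@Eq.{1} _ (@Int.negSucc @x2) @x3)) @(fun x3 => @Decidable.isFalse _ (@Int.decEq._proof_4 @x2 @x3)) @(fun x3 => @Decidable.rec.{1} _ @(fun x4 => @Decidable (@Eq.{1}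 _ (@Int.negSucc @x2) (@Int.negSucc @x3))) @(fun x4 => @Decidable.isFalse _ (@Int.decEq._proof_6 @x2 @x3 @x4)) @(fun x4 => @Decidable.isTrue _ (@Int.decEq._proof_5 @x2 @x3 @x4)) (@Cfsg.Agent.KO579fdb6.k10 @x2 @x3)) @x1) @x0)
private theorem _root_.Cfsg.Agent.KO579fdb6.e11 : @Int.decEq = @_root_.Cfsg.Agent.KO579fdb6.k11 := by delta _root_.Cfsg.Agent.KO579fdb6.k11; rewrite [← Cfsg.Agent.KO579fdb6.e10]; rfl'
private noncomputable def _root_.Cfsg.Agent.KO579fdb6.k13 : (by first | exact type_of% @Cfsg.Agent.TAB.Cov.okLev | exact Unit : Sort _) := by first | (refine @Subtype.val _ (fun g => @Cfsg.Agent.TAB.Cov.okLev = @g) (@Subtype.mk _ _ (@(fun x0 x1 => @List.rec.{1, 0} @Cfsg.Agent.TAB.Cov.Lev @(fun x2 => (@List.{0} (@List.{0} ℤ)) → (@List.{0} (@List.{0} ℤ)) → @Bool) @(fun x2 x3 => @Bool.true) @(fun x2 x3 x4 x5 x6 => @Cfsg.Agent.KO579fdb6.k4 _ (@Cfsg.Agent.KO579fdb6.k8 ((@Int.ofNat (@Cfsg.Agent.TAB.Cov.Lev.p @x2)) :: (@Cfsg.Agent.TAB.Cov.Lev.r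 @x2)) ((@Cfsg.Agent.TAB.Cov.Lev.v @x2) :: @x5)) @(fun x7 => @Bool.rec.{1} @(fun x8 => @Bool) @Bool.false (@x4 ((@Cfsg.Agent.TAB.Cov.Lev.v @x2) :: @x5) (@x7 :: @x6)) (@Bool.rec.{1} @(fun x8 => @Bool) @Bool.false (@Cfsg.Agent.KO579fdb6.k9 _ @(fun x8 => @Decidable.rec.{1} _ @(fun x9 => @Bool) @(fun x9 => @Bool.false) @(fun x9 => @Bool.true) (@Cfsg.Agent.KO579fdb6.k11 (@Cfsg.Agent.TAB.Eng.ipL (@Cfsg.Agent.TAB.Eng.Dat.cntL @x0) @x8 @x7) (@Int.ofNat (nat_lit 0)))) @x6) (@Bool.rec.{1} @(fun x8 => @Bool) @Bool.false (@Decidable.rec.{1} _ @(fun x8 => @Bool) @(fun x8 => @Bool.false) @(fun x8 => @Bool.true) (@Cfsg.Agent.KO579fdb6.k11 (@Cfsg.Agent.TAB.Eng.ipL (@Cfsg.Agent.TAB.Eng.Dat.cntL @x0) @x7 @x7) (@Int.ofNat (@Cfsg.Agent.TAB.Cov.Lev.n @x2)))) (@Bool.rec.{1} @(fun x8 => @Bool) @Bool.false (@Nat.ble (@Nat.succ (nat_lit 0)) (@Cfsg.Agent.TAB.Cov.Lev.n @x2)) (@Nat.ble (@Nat.succ (nat_lit 0)) (@Cfsg.Agent.TAB.Cov.Lev.p @x2))))))) @x1))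 ?_); rewrite [← Cfsg.Agent.KO579fdb6.e11, ← Cfsg.Agent.KO579fdb6.e9, ← Cfsg.Agent.KO579fdb6.e8, ← Cfsg.Agent.KO579fdb6.e4]; (try delta Cfsg.Agent.TAB.Cov.okLev Cfsg.Agent.TAB.Eng.ip); (try generalize @Cfsg.Agent.TAB.Cov.frL = g0); (try generalize @Cfsg.Agent.TAB.Cov.lin = g1); (try generalize @Cfsg.Agent.TAB.Eng.allL = g2); (try generalize @Cfsg.Agent.TAB.Eng.ipL = g3); rfl') | exact @Cfsg.Agent.TAB.Cov.okLev | exact ()
private theorem _root_.Cfsg.Agent.KO579fdb6.e13 : (by first | exact @Cfsg.Agent.TAB.Cov.okLev = @_root_.Cfsg.Agent.KO579fdb6.k13 | exact True : Prop) := by first | (delta _root_.Cfsg.Agent.KO579fdb6.k13; exact @Subtype.property _ (fun g => @Cfsg.Agent.TAB.Cov.okLev = @g) _) | rfl | trivial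

theorem lv_chk : okLev dat lv [] [] = true := by (first | (delta Cfsg.Agent.TAB.F22.Cv.lv; rewrite [Cfsg.Agent.KO579fdb6.e13, Cfsg.Agent.KO579fdb6.e1.{0, 0}]; decide +kernel) | decide +kernel)

theorem cd_chk : ∀ t < 59, nth (lin cd ((lv.map Lev.v).reverse ++ [])) t = if t = 0 then (dat.N : ℤ) else 0 := by
  decide +kernel

theorem cM_chk : ∀ t < 59, nth (lin cM ((lv.map Lev.v).reverse ++ [])) t = if t = 35 then 22 else 0 := by
  decide +kernel

theorem cF_chk : ∀ t < 59, nth (lin cF (rowA ++ rowB)) t = if t = 35 then 22 else 0 := by decide +kernel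

/-- the test at the leaves -/
noncomputable def leaf (as : List ℤ) (bud : ℕ) : Bool :=
  decide (Cov.dot cd as % 2 = 0) || (decide (Cov.dot cM as % 2 = 1) && Nat.blt (44 * bud) 1000000)

private noncomputable def _root_.Cfsg.Agent.KO579fdb6.k22 : (by first | exact type_of% @Cfsg.Agent.TAB.Cov.dot | exact Unit : Sort _) := by first | (refine @Subtype.val _ (fun g => @Cfsg.Agent.TAB.Cov.dot = @g) (@Subtype.mk _ _ (@(fun x0 => @List.rec.{1, 0} ℤ @(fun x1 => (@List.{0} ℤ) → ℤ) @(fun x1 => @Int.ofNat (nat_lit 0)) @(fun x1 x2 x3 x4 => @List.rec.{1, 0} ℤ @(fun x5 => ℤ) (@Int.ofNat (nat_lit 0)) @(fun x5 x6 x7 => @Cfsg.Agent.KO579fdb6.k5 (@Cfsg.Agent.KO579fdb6.k7 @x1 @x5) (@x3 @x6)) @x4) @x0)) ?_); rewrite [← Cfsg.Agent.KO579fdb6.e7, ← Cfsg.Agent.KO579fdb6.e5]; rfl') | exact @Cfsg.Agent.TAB.Cov.dot | exact ()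
private theorem _root_.Cfsg.Agent.KO579fdb6.e22 : (by first | exact @Cfsg.Agent.TAB.Cov.dot = @_root_.Cfsg.Agent.KO579fdb6.k22 | exact True : Prop) := by first | (delta _root_.Cfsg.Agent.KO579fdb6.k22; exact @Subtype.property _ (fun g => @Cfsg.Agent.TAB.Cov.dot = @g) _) | rfl | trivial
private noncomputable def _root_.Cfsg.Agent.KO579fdb6.k23 : type_of% @Int.ediv := @(fun x0 x1 => @Int.rec.{1} @(fun x2 => ℤ) @(fun x2 => @Int.rec.{1} @(fun x3 => ℤ) @(fun x3 => @Int.ofNat (@Nat.div @x2 @x3)) @(fun x3 => @Nat.rec.{1} @(fun x4 => ℤ) (@Int.ofNat (nat_lit 0)) @(fun x4 x5 => @Int.negSucc @x4) (@Nat.div @x2 (@Nat.succ @x3))) @x1) @(fun x2 => @Int.rec.{1} @(fun x3 => ℤ) @(fun x3 => @Nat.rec.{1} @(fun x4 => ℤ) (@Int.ofNat (nat_lit 0)) @(fun x4 x5 => @Int.negSucc (@Nat.div @x2 (@Nat.succ @x4))) @x3) @(fun x3 => @Int.ofNat (@Nat.succ (@Nat.div @x2 (@Nat.succ @x3)))) @x1) @x0)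
private theorem _root_.Cfsg.Agent.KO579fdb6.e23 : @Int.ediv = @_root_.Cfsg.Agent.KO579fdb6.k23 := by delta _root_.Cfsg.Agent.KO579fdb6.k23; rfl'
private noncomputable def _root_.Cfsg.Agent.KO579fdb6.k24 : (by first | exact type_of% @Cfsg.Agent.TAB.Cov.scan | exact Unit : Sort _) := by first | (refine @Subtype.val _ (fun g => @Cfsg.Agent.TAB.Cov.scan = @g) (@Subtype.mk _ _ (@(fun x0 x1 x2 x3 x4 x5 x6 => @Nat.rec.{1} @(fun x7 => ℤ → ℕ → @Bool) @(fun x7 x8 => @Bool.false) @(fun x7 x8 x9 x10 => @Cfsg.Agent.KO579fdb6.k3 _ @x9 @(fun x11 => @Cfsg.Agent.KO579fdb6.k2 _ @x10 @(fun x12 => @Cfsg.Agent.KO579fdb6.k2 _ (@Cfsg.Agent.TAB.Cov.cost @x1 @x2 @x12) @(fun x13 => @Bool.rec.{1} @(fun x14 => @Bool) @Bool.true (@Bool.rec.{1} @(fun x14 => @Bool) @Bool.false (@x8 (@Cfsg.Agent.KO579fdb6.k5 @x11 @x4) (@Nat.add @x12 @x5)) (@Cfsg.Agent.KO579fdb6.k2 _ (@Nat.sub @x3 @x13) (@x0 @x11))) (@Nat.ble @x13 @x3))))) @x6)) ?_); rewrite [← Cfsg.Agent.KO579fdb6.e5,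 ← Cfsg.Agent.KO579fdb6.e2, ← Cfsg.Agent.KO579fdb6.e3]; (try delta Cfsg.Agent.TAB.Cov.scan); (try generalize @Cfsg.Agent.TAB.Cov.frI = g0); (try generalize @Cfsg.Agent.TAB.Eng.frc = g1); (try generalize @Cfsg.Agent.TAB.Cov.cost = g2); rfl') | exact @Cfsg.Agent.TAB.Cov.scan | exact ()
private theorem _root_.Cfsg.Agent.KO579fdb6.e24 : (by first | exact @Cfsg.Agent.TAB.Cov.scan = @_root_.Cfsg.Agent.KO579fdb6.k24 | exact True : Prop) := by first | (delta _root_.Cfsg.Agent.KO579fdb6.k24; exact @Subtype.property _ (fun g => @Cfsg.Agent.TAB.Cov.scan = @g) _) | rfl | trivial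
private noncomputable def _root_.Cfsg.Agent.KO579fdb6.k25 : (by first | exact type_of% @Cfsg.Agent.TAB.Cov.dfs | exact Unit : Sort _) := by first | (refine @Subtype.val _ (fun g => @Cfsg.Agent.TAB.Cov.dfs = @g) (@Subtype.mk _ _ (@(fun x0 x1 x2 x3 => @List.rec.{1, 0} @Cfsg.Agent.TAB.Cov.Lev @(fun x4 => (@List.{0} ℤ) → ℕ → @Bool) @x0 @(fun x4 x5 x6 x7 x8 => @Cfsg.Agent.KO579fdb6.k3 _ (@Cfsg.Agent.KO579fdb6.k22 (@Cfsg.Agent.TAB.Cov.Lev.r @x4) @x7) @(fun x9 => @Cfsg.Agent.KO579fdb6.k3 _ (@Int.rec.{1} @(fun x10 => ℤ) @(fun x10 => @Nat.rec.{1} @(fun x11 => ℤ) (@Int.ofNat (nat_lit 0)) @(fun x11 x12 => @Int.negSucc @x11) @x10) @(fun x10 => @Int.ofNat (@Nat.succ @x10)) (@Cfsg.Agent.KO579fdb6.k23 @x9 (@Int.ofNat (@Cfsg.Agent.TAB.Cov.Lev.p @x4)))) @(fun x10 => @Cfsg.Agent.KO579fdb6.k2 _ (@Int.rec.{1} @(fun x11 => ℕ) @(fun x11 => @x11) @(fun x11 => nat_lit 0) (@Int.rec.{1} @(fun x11 => ℤ) @(fun x11 => @Int.ofNat (@Nat.mod @x11 (@Cfsg.Agent.TAB.Cov.Lev.p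 @x4))) @(fun x11 => @Nat.rec.{1} @(fun x12 => ℤ) (@Int.ofNat (@Nat.sub (@Cfsg.Agent.TAB.Cov.Lev.p @x4) (@Nat.succ (@Nat.mod @x11 (@Cfsg.Agent.TAB.Cov.Lev.p @x4))))) @(fun x12 x13 => @Int.negSucc @x12) (@Nat.sub (@Nat.succ (@Nat.mod @x11 (@Cfsg.Agent.TAB.Cov.Lev.p @x4))) (@Cfsg.Agent.TAB.Cov.Lev.p @x4))) @x9)) @(fun x11 => @Bool.rec.{1} @(fun x12 => @Bool) @Bool.false (@Cfsg.Agent.KO579fdb6.k24 @(fun x12 x13 => @x6 (@x12 :: @x7) @x13) @x1 (@Cfsg.Agent.TAB.Cov.Lev.n @x4) @x8 (@Nat.rec.{1} @(fun x12 => ℤ) (@Int.ofNat (nat_lit 0)) @(fun x12 x13 => @Int.negSucc @x12) (nat_lit 1)) (@Cfsg.Agent.TAB.Cov.Lev.p @x4) @x2 (@Cfsg.Agent.KO579fdb6.k5 @x10 (@Nat.rec.{1} @(fun x12 => ℤ) (@Int.ofNat (nat_lit 0)) @(fun x12 x13 => @Int.negSucc @x12) (nat_lit 1))) (@Nat.sub (@Cfsg.Agent.TAB.Cov.Lev.p @x4) @x11)) (@Cfsg.Agent.KO579fdb6.k24 @(fun x12 x13 => @x6 (@x12 :: @x7) @x13) @x1 (@Cfsg.Agent.TAB.Cov.Lev.n @x4) @x8 (@Int.ofNat (nat_lit 1)) (@Cfsg.Agent.TAB.Cov.Lev.p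 @x4) @x2 @x10 @x11))))) @x3)) ?_); rewrite [← Cfsg.Agent.KO579fdb6.e5, ← Cfsg.Agent.KO579fdb6.e24, ← Cfsg.Agent.KO579fdb6.e2, ← Cfsg.Agent.KO579fdb6.e23, ← Cfsg.Agent.KO579fdb6.e22, ← Cfsg.Agent.KO579fdb6.e3]; (try delta Cfsg.Agent.TAB.Cov.dfs); (try generalize @Cfsg.Agent.TAB.Cov.frI = g0); (try generalize @Cfsg.Agent.TAB.Cov.dot = g1); (try generalize @Cfsg.Agent.TAB.Eng.frc = g2); (try generalize @Cfsg.Agent.TAB.Cov.scan = g3); rfl') | exact @Cfsg.Agent.TAB.Cov.dfs | exact ()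
private theorem _root_.Cfsg.Agent.KO579fdb6.e25 : (by first | exact @Cfsg.Agent.TAB.Cov.dfs = @_root_.Cfsg.Agent.KO579fdb6.k25 | exact True : Prop) := by first | (delta _root_.Cfsg.Agent.KO579fdb6.k25; exact @Subtype.property _ (fun g => @Cfsg.Agent.TAB.Cov.dfs = @g) _) | rfl | trivial
private noncomputable def _root_.Cfsg.Agent.KO579fdb6.k26 : (by first | exact type_of% @Cfsg.Agent.TAB.F22.Cv.leaf | exact Unit : Sort _) := by first | (refine @Subtype.val _ (fun g => @Cfsg.Agent.TAB.F22.Cv.leaf = @g) (@Subtype.mk _ _ (@(fun x0 x1 => @Bool.rec.{1} @(fun x2 => @Bool) (@Bool.rec.{1} @(fun x2 => @Bool) @Bool.false (@Nat.ble (@Nat.succ (@Nat.mul (nat_lit 44) @x1)) (nat_lit 1000000)) (@Decidable.rec.{1} _ @(fun x2 => @Bool) @(fun x2 => @Bool.false) @(fun x2 => @Bool.true) (@Cfsg.Agent.KO579fdb6.k11 (@Int.rec.{1} @(fun x2 => ℤ) @(fun x2 => @Int.ofNat (@Nat.mod @x2 (nat_lit 2))) @(fun x2 => @Nat.rec.{1} @(fun x3 => ℤ) (@Int.ofNat (@Nat.sub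 (nat_lit 2) (@Nat.succ (@Nat.mod @x2 (nat_lit 2))))) @(fun x3 x4 => @Int.negSucc @x3) (@Nat.sub (@Nat.succ (@Nat.mod @x2 (nat_lit 2))) (nat_lit 2))) (@Cfsg.Agent.KO579fdb6.k22 @Cfsg.Agent.TAB.F22.Cv.cM @x0)) (@Int.ofNat (nat_lit 1))))) @Bool.true (@Decidable.rec.{1} _ @(fun x2 => @Bool) @(fun x2 => @Bool.false) @(fun x2 => @Bool.true) (@Cfsg.Agent.KO579fdb6.k11 (@Int.rec.{1} @(fun x2 => ℤ) @(fun x2 => @Int.ofNat (@Nat.mod @x2 (nat_lit 2))) @(fun x2 => @Nat.rec.{1} @(fun x3 => ℤ) (@Int.ofNat (@Nat.sub (nat_lit 2) (@Nat.succ (@Nat.mod @x2 (nat_lit 2))))) @(fun x3 x4 => @Int.negSucc @x3) (@Nat.sub (@Nat.succ (@Nat.mod @x2 (nat_lit 2))) (nat_lit 2))) (@Cfsg.Agent.KO579fdb6.k22 @Cfsg.Agent.TAB.F22.Cv.cd @x0)) (@Int.ofNat (nat_lit 0)))))) ?_); rewrite [← Cfsg.Agent.KO579fdb6.e22, ← Cfsg.Agent.KO579fdb6.e11]; (try delta Cfsg.Agent.TAB.F22.Cv.leaf); (try generalize @Cfsg.Agent.TAB.Cov.dot = g0); (try generalize @Cfsg.Agent.TAB.F22.Cv.cM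 = g1); (try generalize @Cfsg.Agent.TAB.F22.Cv.cd = g2); rfl') | exact @Cfsg.Agent.TAB.F22.Cv.leaf | exact ()
private theorem _root_.Cfsg.Agent.KO579fdb6.e26 : (by first | exact @Cfsg.Agent.TAB.F22.Cv.leaf = @_root_.Cfsg.Agent.KO579fdb6.k26 | exact True : Prop) := by first | (delta _root_.Cfsg.Agent.KO579fdb6.k26; exact @Subtype.property _ (fun g => @Cfsg.Agent.TAB.F22.Cv.leaf = @g) _) | rfl | trivial

theorem dfs_chk : dfs leaf (1000000 * dat.N) 5 lv [] 500000 = true := by (first | (delta Cfsg.Agent.TAB.F22.Cv.lv; rewrite [Cfsg.Agent.KO579fdb6.e25, Cfsg.Agent.KO579fdb6.e26, Cfsg.Agent.KO579fdb6.e1.{0, 0}]; decide +kernel) | decide +kernel)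

end Cfsg.Agent.TAB.F22.Cv
end

-- part: TAB/F22/Cov
section
prune_inst 0x4020000000000000000000000000400000000000020b01000000080281440300000000000000000000000000000011800800000000000000000000000000000000000000000000000000000000000000000000000000
set_option linter.all false
open scoped Cfsg.Agent.FastGrp

/-!
# The characters of odd degree of `3.Fi22` are `2`-rational (helper31, TAB)

Let `ψ` be faithful and moved by `τ`.  The function `hh` built from `ψ + τ ψ` has norm at most `2` and integral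
pairings with a lattice of rank `39`; the enumeration of the short vectors of the dual lattice shows that the
degree of `ψ` is even.
-/

set_option autoImplicit false
set_option maxRecDepth 100000
set_option exponentiation.threshold 5000
set_option maxHeartbeats 400000

namespace Cfsg.Agent.TAB.F22.Cv

open Cfsg Cfsg.Agent.TAB.Cov Cfsg.Agent.TAB.Eng Cfsg.Agent.ODD.Red Cfsg.Agent.Characters Cfsg.Agent.Characters.Core
open Cfsg.Agent.Characters.Brauer Cfsg.Agent.H139.Cusp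
open scoped ComplexConjugate

variable {X : Type} [Group X] [Fintype X]

theorem sum_int {f : X → ℂ} (hf : IsGeneralizedCharacter X f) : ∃ a : ℤ, ∑ x, f x = Nat.card X * a := by
  obtain ⟨a, ha⟩ := H447.CTab.exists_mu hf ⟨1, isIrr_one⟩
  refine ⟨a, ?_⟩
  rw [classInner_def, inv_mul_eq_iff_eq_mul₀ card_ne_zero_complex] at ha
  simpa only [_root_.Nat.card_eq_fintype_card, _root_.Pi.one_apply, _root_.map_one, _root_.mul_one] using ha

theorem sum_two {f : X → ℂ} (hf : IsGeneralizedCharacter X f) (τ : ℂ ≃+* ℂ) :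
    ∃ a : ℤ, ∑ x, (f x + τ (f x)) = 2 * Nat.card X * a := by
  obtain ⟨a, ha⟩ := sum_int hf
  refine ⟨a, ?_⟩
  rw [Finset.sum_add_distrib, ← map_sum, ha, map_mul, map_natCast, map_intCast]
  ring

theorem norm_two {ψ φ : X → ℂ} (hψ : IsIrrCharacter X ψ) (hφ : IsIrrCharacter X φ) (h : ψ ≠ φ) :
    ∑ x, Complex.normSq (ψ x + φ x) = 2 * Nat.card X := by
  have h1 := classInner_self_eq_ofReal (ψ + φ)
  rw [classInner_add_left, classInner_add_right, classInner_add_right, classInner_irr_self hψ, classInner_irr_self hφ,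
    classInner_irr_ne hψ hφ h, classInner_irr_ne hφ hψ h.symm] at h1
  have h2 : (2 : ℝ) = (Nat.card X : ℝ)⁻¹ * ∑ x, Complex.normSq (ψ x + φ x) := by
    apply Complex.ofReal_injective
    exact Eq.trans (by norm_num) h1
  rw [h2, mul_right_comm, inv_mul_cancel₀ (by exact_mod_cast Nat.card_pos.ne'), one_mul]

variable (M : Md X)

theorem sum_pi (F : ℕ → ℝ) : ∑ x, F (ty (M.π x)) = 3 * ∑ t ∈ Finset.range 59, dat.cnt t * F t := by
  classical
  have := fin22
  have := Fintype.ofFinite Spor.Fi22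
  have h1 : ∀ g, (Finset.univ.filter fun x => M.π x = g).card = 3 := fun g => by
    rw [MonoidHom.card_fiber_eq_of_mem_range M.π (M.surj g) (M.surj 1), ← M.card, Nat.card_eq_fintype_card,
      Fintype.card_subtype]
    exact congrArg Finset.card (Finset.filter_congr fun x _ => MonoidHom.mem_ker.symm)
  have h2 := sum_mass mass F
  simp only [nsmul_eq_mul] at h2
  rw [← Finset.sum_fiberwise (s := Finset.univ) (g := M.π), show Finset.range 59 = Finset.range dat.n from rfl, ← h2,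
    Finset.mul_sum]
  refine Finset.sum_congr rfl fun g _ => ?_
  rw [Finset.sum_congr rfl (g := fun _ => F (ty g)) fun x hx => by rw [(Finset.mem_filter.1 hx).2], Finset.sum_const,
    h1, nsmul_eq_mul, Nat.cast_ofNat, td_ty]

theorem sum_ip (v w : List ℤ) : ∑ x, (nth v (ty (M.π x)) : ℝ) * nth w (ty (M.π x)) = 3 * ip dat v w := by
  rw [sum_pi M fun t => (nth v t : ℝ) * nth w t, ip, ipL_eq]
  push_cast
  rfl

theorem sum_ind {t : ℕ} (ht : t < 59) (c : ℝ) : ∑ x, (if ty (M.π x) = t then c else 0) = 3 * dat.cnt t * c := by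
  rw [sum_pi M fun s => if s = t then c else 0]
  simp only [mul_ite, mul_zero, Finset.sum_ite_eq', Finset.mem_range, ht, if_true, mul_assoc]

include M in
theorem card_cov : Nat.card X = 3 * dat.N := by
  have h1 := sum_pi M fun _ => 1
  have h2 : ∑ t ∈ Finset.range 59, dat.cnt t = dat.N := by decide +kernel
  simp only [mul_one, Finset.sum_const, Finset.card_univ, nsmul_eq_mul] at h1
  rw [← h2, Nat.card_eq_fintype_card]
  exact_mod_cast h1

omit [Fintype X] in
theorem pow_ord (x : X) {m : ℕ} (h : dat.ord (ty (M.π x)) ∣ m) : M.π (x ^ m) = 1 := by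
  rw [map_pow, ← orderOf_dvd_iff_pow_eq_one, ty_ord]
  exact h

theorem pow_ord' (x : X) {m : ℕ} (h : dat.ord (ty (M.π x)) ∣ m) : x ^ (m * 3) = 1 := by
  obtain ⟨j, hj⟩ := exists_om M ((pow_ord M x h).trans (map_one M.π).symm)
  rw [pow_mul, hj, mul_one, ← pow_mul, mul_comm, pow_mul, M.cube, one_pow]

theorem reg_lift (x : X) (h : ¬ 3 ∣ dat.ord (ty (M.π x))) :
    (∃ j : ℕ, x ^ 160161 = M.z ^ j * x) ∧ M.π (x ^ 160161) = M.π x ∧ (x ^ 160161) ^ 80080 = 1 := by
  have h1 : ∀ t < 59, ¬ 3 ∣ dat.ord t → dat.ord t ∣ 80080 := by decide +kernel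
  have h2 := h1 _ (ty_lt _) h
  have h3 : M.π (x ^ 160161) = M.π x := by
    rw [show 160161 = 80080 * 2 + 1 from rfl, pow_succ, map_mul, pow_ord M x (h2.mul_right 2), one_mul]
  refine ⟨exists_om M h3, h3, ?_⟩
  rw [← pow_mul, show 160161 * 80080 = 80080 * 3 * 53387 from rfl, pow_mul, pow_ord' M x h2, one_pow]

theorem virt_rows : ∀ r ∈ rowA ++ rowB, Virt td (nth r) :=
  haveI := fin22
  Sz.slp mass rfl hom ops virt_seeds ix ops_chk

omit [Fintype X] in
theorem gen_pi {f : ℕ → ℤ} (h : Virt td f) : IsGeneralizedCharacter X fun x => (f (ty (M.π x)) : ℂ) :=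
  isGeneralizedCharacter_comp M.π h

/-- the function on the cover -/
noncomputable def hh (B : GL (Fin 54) (ZMod 2) → ℂ) (w : ℂ) (Ψ : X → ℂ) (x : X) : ℂ :=
  if 3 ∣ dat.ord (ty (M.π x)) then Ψ x * be M B w x / nth bb (ty (M.π x)) else Ψ (x ^ 160161)

variable {B : GL (Fin 54) (ZMod 2) → ℂ} {w : ℂ} {Ψ : X → ℂ}

omit [Fintype X] in
theorem om_val (hz : ∀ x, Ψ (M.z * x) = w * Ψ x) (j : ℕ) (x : X) : Ψ (M.z ^ j * x) = w ^ j * Ψ x := by
  induction j with
  | zero => rw [pow_zero, pow_zero, one_mul, one_mul]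
  | succ j ih => rw [pow_succ' M.z, mul_assoc, hz, ih, pow_succ', mul_assoc]

theorem good_of_dvd {t : ℕ} (h : 3 ∣ dat.ord t) : t ∉ [35, 46, 55] := by
  intro h1
  simp only [List.mem_cons, List.not_mem_nil, or_false] at h1
  rcases h1 with rfl | rfl | rfl <;> revert h <;> decide +kernel

theorem hh_le (hB : Lift B) (hw : 1 + w + w ^ 2 = 0) (hz : ∀ x, Ψ (M.z * x) = w * Ψ x) (x : X) :
    Complex.normSq (hh M B w Ψ x) ≤ Complex.normSq (Ψ x) := by
  have hw3 : w ^ 3 = 1 := by linear_combination (w - 1) * hw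
  have h1 : Complex.normSq w = 1 := by
    rw [Complex.normSq_eq_norm_sq, Complex.norm_eq_one_of_pow_eq_one hw3 three_ne_zero, one_pow]
  rw [hh]
  split_ifs with h
  · obtain ⟨j, hj⟩ := (be_val M hB hw x (good_of_dvd h)).1
    rw [← hj, map_div₀, map_mul, map_mul, map_pow, h1, one_pow, one_mul, mul_div_assoc]
    exact mul_le_of_le_one_right (Complex.normSq_nonneg _) (div_self_le_one _)
  · obtain ⟨j, hj⟩ := (reg_lift M x h).1
    rw [hj, om_val M hz, map_mul, map_pow, h1, one_pow, one_mul]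

theorem hh_mul (hB : Lift B) (hw : 1 + w + w ^ 2 = 0) (hz : ∀ x, Ψ (M.z * x) = w * Ψ x) (x : X)
    (hx : ty (M.π x) ∉ [35, 46, 55]) : hh M B w Ψ x * nth bb (ty (M.π x)) = Ψ x * be M B w x := by
  have hw3 : w ^ 3 = 1 := by linear_combination (w - 1) * hw
  rw [hh]
  split_ifs with h
  · by_cases h0 : (nth bb (ty (M.π x)) : ℂ) = 0
    · obtain ⟨j, hj⟩ := (be_val M hB hw x hx).1
      have h1 : w ≠ 0 := fun h2 => by simp [h2] at hw
      rw [h0] at hj
      rw [h0, (mul_eq_zero.1 hj).resolve_left (pow_ne_zero j h1), mul_zero, mul_zero]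
    · exact div_mul_cancel₀ _ h0
  · obtain ⟨⟨j, hj⟩, h2, h3⟩ := reg_lift M x h
    have h4 := (be_val M hB hw (x ^ 160161) (h2 ▸ hx)).2 (h2 ▸ h) h3
    rw [h2] at h4
    rw [← h4, hj, om_val M hz, ← be_om_pow M hw3 x j]
    ring

theorem sum_be (hz : ∀ x, Ψ (M.z * x) = w * Ψ x) (F : ℕ → ℂ) :
    ∑ x, Ψ x * be M B w x * F (ty (M.π x)) = ∑ x, Ψ x * B (M.ρ x) * F (ty (M.π x)) := by
  have h1 : ∀ x, M.π (M.z * x) = M.π x := fun x => by
    rw [map_mul, show M.π M.z = 1 from (M.ker ▸ Subgroup.mem_zpowers M.z : M.z ∈ M.π.ker), one_mul]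
  have h2 := Equiv.sum_comp (Equiv.mulLeft M.z) fun x => Ψ x * B (M.ρ x) * F (ty (M.π x))
  have h3 := Equiv.sum_comp (Equiv.mulLeft M.z) fun x => Ψ (M.z * x) * B (M.ρ (M.z * x)) * F (ty (M.π (M.z * x)))
  simp only [Equiv.coe_mulLeft, hz, h1] at h2 h3
  have h4 : ∀ x, Ψ x * be M B w x * F (ty (M.π x)) = (Ψ x * B (M.ρ x) * F (ty (M.π x)) +
      w * Ψ x * B (M.ρ (M.z * x)) * F (ty (M.π x)) +
        w * (w * Ψ x) * B (M.ρ (M.z * (M.z * x))) * F (ty (M.π x))) / 3 := fun x => by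
    rw [be]
    ring
  simp only [h4, ← Finset.sum_div, Finset.sum_add_distrib, h3, h2]
  ring

variable {ψ : X → ℂ} {τ : ℂ ≃+* ℂ}

theorem pair_K (hψ : IsCharacter X ψ) {k : List ℤ} (hk : Virt td (nth k))
    (h0 : ∀ t < 59, 3 ∣ dat.ord t → nth k t = 0) :
    ∃ a : ℤ, ∑ x, hh M B w (fun x => ψ x + τ (ψ x)) x * nth k (ty (M.π x)) = 2 * Nat.card X * a := by
  obtain ⟨a, ha⟩ := sum_two (isGeneralizedCharacter_mul
    (isGeneralizedCharacter_pow (isGeneralizedCharacter_of_isCharacter hψ) 160161) (gen_pi M hk)) τ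
  refine ⟨a, ha ▸ Finset.sum_congr rfl fun x _ => ?_⟩
  simp only [hh, Pi.mul_apply, map_mul, map_intCast]
  split_ifs with h
  · simp [h0 _ (ty_lt _) h]
  · ring

theorem pair_E (hB : Lift B) (hw : 1 + w + w ^ 2 = 0) (hψ : IsCharacter X ψ) (hτ : Two τ)
    (hz : ∀ x, ψ (M.z * x) + τ (ψ (M.z * x)) = w * (ψ x + τ (ψ x))) {e : List ℤ} (he : Virt td (nth e))
    (h0 : ∀ t < 59, t ∈ [35, 46, 55] → nth e t = 0) :
    ∃ a : ℤ, ∑ x, hh M B w (fun x => ψ x + τ (ψ x)) x * (nth bb (ty (M.π x)) * nth e (ty (M.π x))) =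
      2 * Nat.card X * a := by
  obtain ⟨a, ha⟩ := sum_two (isGeneralizedCharacter_mul (isGeneralizedCharacter_mul
    (isGeneralizedCharacter_of_isCharacter hψ) (isGeneralizedCharacter_comp M.ρ hB.gen)) (gen_pi M he)) τ
  refine ⟨a, ?_⟩
  simp only [Pi.mul_apply, map_mul, map_intCast, hB.two τ hτ, ← add_mul] at ha
  rw [← ha, ← sum_be M (Ψ := fun x => ψ x + τ (ψ x)) hz fun t => nth e t]
  refine Finset.sum_congr rfl fun x _ => ?_
  by_cases h : ty (M.π x) ∈ [35, 46, 55]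
  · simp [h0 _ (ty_lt _) h]
  · rw [← mul_assoc, hh_mul M hB hw hz x h]

theorem pair_lv (hB : Lift B) (hw : 1 + w + w ^ 2 = 0) (hψ : IsCharacter X ψ) (hτ : Two τ)
    (hz : ∀ x, ψ (M.z * x) + τ (ψ (M.z * x)) = w * (ψ x + τ (ψ x))) : ∀ l ∈ lv, ∃ a : ℤ,
      ∑ x, (hh M B w (fun x => ψ x + τ (ψ x)) x).re * nth l.v (ty (M.π x)) = 2 * 3 * dat.N * a := by
  intro l hl
  obtain ⟨c, hc, rfl⟩ := List.mem_map.1 hl
  have h1 := allL_spec lc_chk c hc
  rw [okV, frL_eq, frL_eq] at h1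
  have h2 := fun t (ht : t < 59) => allL_spec h1 t (List.mem_range.2 ht)
  simp only [Bool.and_eq_true, decide_eq_true_eq] at h2
  obtain ⟨a, ha⟩ := pair_K M (B := B) (w := w) (τ := τ) hψ (virt_lin c.2.1 virt_rows) fun t ht => (h2 t ht).1.2
  obtain ⟨b, hb⟩ := pair_E M hB hw hψ hτ hz (virt_lin c.2.2 virt_rows) fun t ht => (h2 t ht).2
  refine ⟨a + b, ?_⟩
  have h3 : ∑ x, hh M B w (fun x => ψ x + τ (ψ x)) x * nth c.1.v (ty (M.π x)) =
      ((2 * 3 * dat.N * (a + b : ℤ) : ℝ) : ℂ) := by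
    simp only [(h2 _ (ty_lt _)).1.1, Int.cast_add, Int.cast_mul, mul_add, Finset.sum_add_distrib, ha, hb, card_cov M]
    push_cast
    ring
  have h4 := congrArg Complex.re h3
  rw [Complex.re_sum, Complex.ofReal_re] at h4
  simpa only [Complex.mul_re, Complex.intCast_re, Complex.intCast_im, mul_zero, sub_zero] using h4

/-- the elements of order `11` cost energy if the mean value is odd -/
theorem penalty {H : X → ℂ} {a m : ℤ} (hm : m % 2 = 1)
    (h1 : ∑ x, (H x).re * ((if ty (M.π x) = 35 then 22 else 0 : ℤ) : ℝ) = 2 * 3 * dat.N * m)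
    (h2 : ∑ x, Complex.normSq (H x) * ((if ty (M.π x) = 35 then 22 else 0 : ℤ) : ℝ) = 4 * 3 * dat.N * a) (W : ℕ → ℝ) :
    3 * (dat.N : ℝ) ≤ 11 * (∑ x, ((H x).re - W (ty (M.π x))) ^ 2 + ∑ x, (H x).im ^ 2) := by
  have h3 := sum_ind M (t := 35) (by norm_num) 22
  have h4 : (3 : ℝ) * dat.cnt 35 * 22 = 2 * 3 * dat.N := by
    have h5 : 3 * dat.cnt 35 * 22 = 2 * 3 * dat.N := by decide +kernel
    exact_mod_cast h5
  have hN : (0 : ℝ) < dat.N := by
    have h5 : 0 < dat.N := by decide +kernel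
    exact_mod_cast h5
  have h5 : ∀ c : ℝ, ∑ x, (if ty (M.π x) = 35 then 22 * (((H x).re - c) ^ 2 + (H x).im ^ 2) else 0) =
      6 * dat.N * ((c - m) ^ 2 + (2 * a - m ^ 2)) := fun c => by
    have h6 : ∀ x, (if ty (M.π x) = 35 then 22 * (((H x).re - c) ^ 2 + (H x).im ^ 2) else 0) =
        Complex.normSq (H x) * ((if ty (M.π x) = 35 then 22 else 0 : ℤ) : ℝ) -
          2 * c * ((H x).re * ((if ty (M.π x) = 35 then 22 else 0 : ℤ) : ℝ)) +
            c ^ 2 * if ty (M.π x) = 35 then 22 else 0 := fun x => by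
      rw [Complex.normSq_apply]
      split_ifs <;> push_cast <;> ring
    simp only [h6, Finset.sum_add_distrib, Finset.sum_sub_distrib, ← Finset.mul_sum, h1, h2, h3, h4]
    ring
  have h6 : (1 : ℝ) ≤ 2 * a - m ^ 2 := by
    have h7 : 0 ≤ 6 * (dat.N : ℝ) * ((m - m) ^ 2 + (2 * a - m ^ 2)) :=
      h5 m ▸ Finset.sum_nonneg fun x _ => by split_ifs <;> (clear * -; positivity)
    have h8 : (0 : ℝ) ≤ 2 * a - m ^ 2 := by simpa only [_root_.sub_nonneg, _root_.sub_self, _root_.ne_eq, _root_.OfNat.ofNat_ne_zero, _root_.not_false_eq_true, _root_.zero_pow, _root_.zero_add] using nonneg_of_mul_nonneg_right h7 (by positivity)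
    have h9 : (0 : ℤ) ≤ 2 * a - m ^ 2 := by exact_mod_cast h8
    have h10 : m ^ 2 % 2 = 1 := by rw [sq, Int.mul_emod, hm]; rfl
    exact_mod_cast (by omega : (1 : ℤ) ≤ 2 * a - m ^ 2)
  have h7 : ∑ x, (if ty (M.π x) = 35 then 22 * (((H x).re - W 35) ^ 2 + (H x).im ^ 2) else 0) ≤
      ∑ x, 22 * (((H x).re - W (ty (M.π x))) ^ 2 + (H x).im ^ 2) := Finset.sum_le_sum fun x _ => by
    split_ifs with h
    · rw [h]
    · (clear * -; positivity)
  rw [h5, ← Finset.mul_sum, Finset.sum_add_distrib] at h7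
  linarith only [h7, sq_nonneg (W 35 - m), mul_le_mul_of_nonneg_left h6 hN.le, mul_nonneg hN.le (sq_nonneg (W 35 - m))]

theorem sq_int (hψ : IsCharacter X ψ) (hτ : Two τ) : ∃ a : ℤ, ∑ x, Complex.normSq (hh M B w (fun x => ψ x + τ (ψ x)) x) *
    ((if ty (M.π x) = 35 then 22 else 0 : ℤ) : ℝ) = 4 * 3 * dat.N * a := by
  obtain ⟨a, ha⟩ := sum_int (isGeneralizedCharacter_mul (isGeneralizedCharacter_pow
    (isGeneralizedCharacter_of_isCharacter (isCharacter_mul hψ (isCharacter_conj hψ))) 160161)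
      (gen_pi M (virt_lin cF virt_rows)))
  refine ⟨a, Complex.ofReal_injective ?_⟩
  rw [card_cov M] at ha
  push_cast at ha ⊢
  rw [mul_assoc 4, mul_assoc 4, ← ha, Finset.mul_sum]
  refine Finset.sum_congr rfl fun x _ => ?_
  simp only [Pi.mul_apply, cF_chk _ (ty_lt _), Complex.mul_conj]
  split_ifs with h
  · have h1 : dat.ord (ty (M.π x)) = 11 := by rw [h]; rfl
    have h2 : (x ^ 160161) ^ (2 * 33) = 1 := by
      rw [← pow_mul, show 160161 * (2 * 33) = 11 * 3 * 320322 from rfl, pow_mul, pow_ord' M x h1.dvd, one_pow]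
    rw [hh, if_neg (by rw [h1]; decide), Sz.two_fix_char hτ hψ (by decide) h2, ← two_mul, map_mul,
      Complex.normSq_ofNat]
    push_cast
    ring
  · simp

theorem deg_sum (hψ : IsCharacter X ψ) : ∑ x, (hh M B w (fun x => ψ x + τ (ψ x)) x).re *
    ((if ty (M.π x) = 0 then (dat.N : ℤ) else 0 : ℤ) : ℝ) = 2 * 3 * dat.N * charDegree ψ := by
  have h1 := sum_ind M (t := 0) (by norm_num) (2 * dat.N * charDegree ψ)
  rw [show dat.cnt 0 = 1 from rfl, Nat.cast_one] at h1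
  refine Eq.trans (Finset.sum_congr rfl fun x _ => ?_) (h1.trans (by ring))
  split_ifs with h
  · have h2 : dat.ord (ty (M.π x)) = 1 := by rw [h]; rfl
    have h3 : x ^ 160161 = 1 := by rw [show 160161 = 1 * 3 * 53387 from rfl, pow_mul, pow_ord' M x h2.dvd, one_pow]
    rw [hh, if_neg (by rw [h2]; decide), h3, apply_one hψ, map_natCast, Complex.add_re, Complex.natCast_re]
    push_cast
    ring
  · simp

/-- **the faithful characters of odd degree** -/
theorem fix_md (hψ : IsIrrCharacter X ψ) (ho : Odd (charDegree ψ)) (hw : 1 + w + w ^ 2 = 0)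
    (hz : ∀ x, ψ (M.z * x) = w * ψ x) (hτ : Two τ) : _root_.Cfsg.Agent.ODD.Red.Fix τ ψ := by
  by_contra hne
  obtain ⟨B, hB⟩ := exists_lift (n := 54) (by norm_num)
  have hc := isIrr_isCharacter hψ
  have hw3 : w ^ 3 = 1 := by linear_combination (w - 1) * hw
  have hz' : ∀ x, ψ (M.z * x) + τ (ψ (M.z * x)) = w * (ψ x + τ (ψ x)) := fun x => by
    rw [hz, map_mul, hτ 3 w (by decide) hw3, mul_add]
  have h1 := norm_two hψ (GaloisIrr.isIrr_map τ hψ) fun h => hne fun x => (congrFun h x).symm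
  have h2 := Finset.sum_le_sum fun x (_ : x ∈ Finset.univ) => hh_le M (Ψ := fun x => ψ x + τ (ψ x)) hB hw hz' x
  rw [h1, card_cov M] at h2
  have h3 := pair_lv M hB hw hc hτ hz'
  obtain ⟨a, h4⟩ := sq_int M (B := B) (w := w) hc hτ
  have h5 := deg_sum M (B := B) (w := w) (τ := τ) hc
  generalize hh M B w (fun x => ψ x + τ (ψ x)) = H at h2 h3 h4 h5
  have hN : (0 : ℝ) < dat.N := by
    have h5 : 0 < dat.N := by decide +kernel
    exact_mod_cast h5
  obtain ⟨as, bud, W, h6, h7, h8⟩ := bessel_dfs (h := fun x => (H x).re) (I := ∑ x, (H x).im ^ 2) (W := fun _ => 0)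
    (by norm_num) (by (clear * -; positivity)) (sum_ip M) lv h3 lv_chk dfs_chk List.Forall₂.nil (fun _ _ => by simp) (by
      simp only [Complex.normSq_apply, Finset.sum_add_distrib, ← sq] at h2
      simp only [sub_zero]
      push_cast at h2 ⊢
      linarith)
  have h9 := pair_lin cd h7
  have h10 := pair_lin cM h7
  simp only [cd_chk _ (ty_lt _)] at h9
  simp only [cM_chk _ (ty_lt _)] at h10
  have h11 : Cov.dot cd as = charDegree ψ := by
    exact_mod_cast mul_left_cancel₀ (by (clear * - hN; positivity)) (h9.symm.trans h5)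
  rw [leaf, h11] at h6
  simp only [Bool.or_eq_true, Bool.and_eq_true, decide_eq_true_eq, Nat.blt_eq] at h6
  rcases h6 with h6 | ⟨h6, h12⟩
  · have := Nat.odd_iff.1 ho
    omega
  · have h13 := penalty M h6 h10 h4 W
    have h14 : (44 * bud : ℝ) < 1000000 := by exact_mod_cast h12
    push_cast at h8
    nlinarith only [hN, h8, h13, h14]

include M in
theorem oddRat_md : Use.OddRat X := by
  intro ψ hψ ho τ hτ
  obtain ⟨w, h1, h2, -⟩ := ODD.Red.exists_central hψ (z := M.z) (Subgroup.mem_center_iff.2 fun g => (M.comm g).symm)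
  by_cases hw : w = 1
  · obtain ⟨η, h3, h4⟩ := exists_quot M.π M.surj hψ fun y hy => by
      obtain ⟨j, rfl⟩ := exists_om M ((MonoidHom.mem_ker.1 hy).trans (map_one M.π).symm)
      rw [om_val M h1, hw, one_pow, one_mul]
    intro x
    rw [← h4]
    exact odd η h3 (by rwa [charDegree_congr (show η 1 = ψ 1 by rw [← h4, map_one])]) τ hτ _
  · refine fix_md M hψ ho ((mul_eq_zero.1 (show (w - 1) * _ = 0 from ?_)).resolve_left (sub_ne_zero.2 hw)) h1 hτ
    linear_combination h2 3 M.cube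

end Cfsg.Agent.TAB.F22.Cv

namespace Cfsg.Agent.TAB.F22

open Cfsg Cfsg.Agent.H922.QS.FiThree Cfsg.Agent.H133.FibPce

/-- **`3.Fi22`** -/
theorem cov : Use.OddRatCov Spor.Fi22 := by
  intro X _ _ φ h1 h2 h3 h4
  have hφ : H51.Mult.PCE φ := ⟨h1, h2, h4⟩
  have := Fintype.ofFinite K3
  rcases dichotomy hφ pce3 (by rw [card_ker3]; exact Nat.prime_three) (h3.trans card_ker3.symm) with h | ⟨α, -⟩
  · have h5 := pce_fib hφ pce3 h
    have h6 := ODD.Cv.MB.of_cyc S2053.result _ h _ h5.surj h5.cen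
    rw [Nat.card_congr (kerFib φ pi3).toEquiv, Nat.card_prod, h3, card_ker3] at h6
    exact absurd h6 (by decide)
  · exact ODD.Cv.oddRat_congr α (Cv.oddRat_md Cv.mdK)

end Cfsg.Agent.TAB.F22

private theorem dce_a7390e953d46 : _root_.True := by
  try have : _root_.True := by simp only [_root_.Cfsg.Agent.TAB.F22.Cv.hh.eq_1]
  try have : _root_.True := by simp only [_root_.Cfsg.Agent.TAB.F22.Cv.okV.eq_1]
  try have : _root_.True := by simp only [_root_.Cfsg.Agent.TAB.F22.Cv.leaf.eq_1]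
  exact _root_.True.intro
end
end
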