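import Cfsg.Agent.TAB.F22.CovD
import Cfsg.Agent.Prune
set_option linter.all false
prune_inst 0x7f00000000000000000000000000000000000000000000000000000000000000000000000000000000000000000000000000000000000000000000000000000000000000000000000000000000000000003fffffffffffffffffffffffffffbeffbdffffffff
open scoped Cfsg.Agent.FastGrp

/-!
# Faster forms of the checks `dfs`, `okLev`, `lin`, `comb` on packed numbers (helper94)

Use odd bases (`3 ^ k`).
-/

set_option autoImplicit false

namespace Cfsg.Agent.TAB.Cov.Pk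

open Cfsg Cfsg.Agent.TAB.Eng


/-- the packed partial sums -/
noncomputable def pk (M K : ℕ) (lv : List Lev) : ℕ → List ℤ → ℤ :=
  List.rec (fun _ _ => 0) (fun l _ ih i as => (Cov.dot (l.r.drop i) as + K * l.p) + M * ih (i + 1) as) lv

/-- a packed column -/
noncomputable def col (M : ℕ) (lv : List Lev) : ℕ → ℤ :=
  List.rec (fun _ => 0) (fun l _ ih i => Int.add (nth l.r i) (Int.mul (Int.ofNat M) (ih (Nat.succ i)))) lv

/-- the first state -/
noncomputable def bias (M K : ℕ) (lv : List Lev) : ℕ :=
  List.rec 0 (fun l _ ih => Nat.add (Nat.mul K l.p) (Nat.mul M ih)) lv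

/-- the sum of the absolute values -/
noncomputable def sa (r : List ℤ) : ℕ := List.rec 0 (fun a _ ih => Nat.add a.natAbs ih) r

theorem dot_nil (r : List ℤ) : Cov.dot r [] = 0 := by cases r <;> rfl

theorem dot_drop (r : List ℤ) (i : ℕ) (x : ℤ) (as : List ℤ) :
    Cov.dot (r.drop i) (x :: as) = nth r i * x + Cov.dot (r.drop (i + 1)) as := by
  induction r generalizing i with
  | nil => rw [List.drop_nil, List.drop_nil, nth_nil, zero_mul, zero_add]; rfl
  | cons a r ih => cases i with
    | zero => rfl
    | succ i => exact ih i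

theorem pk_cons (M K : ℕ) (lv : List Lev) (i : ℕ) (x : ℤ) (as : List ℤ) :
    pk M K lv i (x :: as) = x * col M lv i + pk M K lv (i + 1) as := by
  induction lv generalizing i with
  | nil => exact ((add_zero _).trans (mul_zero x)).symm
  | cons l lv ih =>
    change (Cov.dot (l.r.drop i) (x :: as) + K * l.p) + M * pk M K lv (i + 1) (x :: as) =
      x * (nth l.r i + M * col M lv (i + 1)) + ((Cov.dot (l.r.drop (i + 1)) as + K * l.p) + M * pk M K lv (i + 1 + 1) as)
    rw [dot_drop, ih]
    ring

theorem pk_nil (M K : ℕ) (lv : List Lev) (i : ℕ) : pk M K lv i [] = bias M K lv := by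
  induction lv generalizing i with
  | nil => rfl
  | cons l lv ih =>
    change (Cov.dot (l.r.drop i) [] + K * l.p) + M * pk M K lv (i + 1) [] = ((K * l.p + M * bias M K lv : ℕ) : ℤ)
    rw [dot_nil, ih, zero_add, Nat.cast_add, Nat.cast_mul, Nat.cast_mul]

theorem dot_le {A : ℕ} (r : List ℤ) {as : List ℤ} (h : ∀ a ∈ as, a.natAbs ≤ A) : (Cov.dot r as).natAbs ≤ A * sa r := by
  induction r generalizing as with
  | nil => exact Nat.zero_le _
  | cons a r ih => cases as with
    | nil => exact Nat.zero_le _
    | cons b as =>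
      change (a * b + Cov.dot r as).natAbs ≤ A * (a.natAbs + sa r)
      rw [mul_add, mul_comm A]
      refine (Int.natAbs_add_le _ _).trans (add_le_add ?_ (ih fun c hc => h c (List.mem_cons_of_mem _ hc)))
      rw [Int.natAbs_mul]
      exact Nat.mul_le_mul_left _ (h b List.mem_cons_self)

theorem sa_drop (r : List ℤ) (i : ℕ) : sa (r.drop i) ≤ sa r := by
  induction r generalizing i with
  | nil => rw [List.drop_nil]
  | cons a r ih => cases i with
    | zero => exact le_rfl
    | succ i => exact (ih i).trans (Nat.le_add_left _ _)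

/-- the bounds for a level -/
noncomputable def okL (M K A : ℕ) (l : Lev) : Bool :=
  Nat.blt 0 l.p && Nat.ble (A * sa l.r) (K * l.p) && Nat.blt (K * l.p + A * sa l.r) M

theorem okL_spec {M K A : ℕ} {l : Lev} (h : okL M K A l = true) :
    (0 < l.p ∧ A * sa l.r ≤ K * l.p) ∧ K * l.p + A * sa l.r < M := by
  simpa only [okL, Bool.and_eq_true, Nat.blt_eq, Nat.ble_eq] using h

theorem pk_nonneg {M K A : ℕ} {lv : List Lev} (hl : ∀ l ∈ lv, okL M K A l = true) {as : List ℤ}
    (ha : ∀ a ∈ as, a.natAbs ≤ A) (i : ℕ) : 0 ≤ pk M K lv i as := by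
  induction lv generalizing i with
  | nil => exact le_rfl
  | cons l lv ih =>
    have h1 := ((dot_le (l.r.drop i) ha).trans (Nat.mul_le_mul_left A (sa_drop l.r i))).trans
      (okL_spec (hl l List.mem_cons_self)).1.2
    refine add_nonneg ?_ (mul_nonneg (Int.natCast_nonneg M) (ih (fun l h => hl l (List.mem_cons_of_mem _ h)) _))
    rw [← Nat.cast_mul]
    omega

/-- the loop over one coordinate -/
noncomputable def lp (f : ℕ → ℕ → Bool) (dq : ℕ → ℕ) (C n bud p fuel : ℕ) : ℕ → ℕ → Bool :=
  Nat.rec (fun _ _ => false) (fun _ ih q m => Bool.rec true (Bool.rec false (ih (dq q) (Nat.add m p))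
    (f q (Nat.sub bud (Nat.div (Nat.mul C (Nat.mul m m)) n)))) (Nat.ble (Nat.div (Nat.mul C (Nat.mul m m)) n) bud)) fuel

theorem lp_spec {f : ℕ → ℕ → Bool} {g : ℤ → ℕ → Bool} {dq : ℕ → ℕ} {K da : ℤ}
    (hg : ∀ q b, f q b = true → g (K - q) b = true ∧ K - dq q = K - q + da) {C n bud p fuel q m : ℕ}
    (h : lp f dq C n bud p fuel q m = true) : scan g C n bud da p fuel (K - q) m = true := by
  induction fuel generalizing q m with
  | zero => exact h
  | succ k ih =>
    change (Bool.rec true (Bool.rec false (lp f dq C n bud p k (dq q) (Nat.add m p)) (f q (Nat.sub bud (cost C n m))))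
      (Nat.ble (cost C n m) bud) : Bool) = true at h
    change (frI (K - q) fun a => frc m fun m => frc (cost C n m) fun c => cond (Nat.ble c bud)
      (frc (Nat.sub bud c) (g a) && scan g C n bud da p k (Int.add a da) (Nat.add m p)) true) = true
    simp only [frI_eq, frc_eq]
    cases e : Nat.ble (cost C n m) bud with
    | false => rfl
    | true =>
      rw [e] at h
      cases e2 : f q (Nat.sub bud (cost C n m)) with
      | false => rw [e2] at h; exact nomatch h
      | true =>
        rw [e2] at h
        rw [(hg _ _ e2).1]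
        exact ((hg _ _ e2).2 ▸ ih h :)

/-- the step to a child -/
noncomputable def stp (A W J u w Q : ℕ) (g : List ℤ → ℕ → ℕ → Bool) (as : List ℤ) (T q b : ℕ) : Bool :=
  Bool.rec false (g (Int.subNatNat A (Nat.mod q W) :: as)
    (Nat.sub (Nat.add T (Nat.mul (Nat.mod q W) w)) (Nat.add Q (Nat.mul (Nat.mod q W) u))) b) (Nat.beq (Nat.div q W) J)

/-- one node -/
noncomputable def node (M A W J C fuel u w P Q p n : ℕ) (g : List ℤ → ℕ → ℕ → Bool) (as : List ℤ) (S bud : ℕ) : Bool :=
  Bool.rec false (lp (stp A W J u w Q g as (Nat.add (Nat.div S M) P)) Nat.succ C n bud p fuel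
      (Nat.succ (Nat.div (Nat.mod S M) p)) (Nat.sub p (Nat.mod (Nat.mod S M) p)))
    (lp (stp A W J u w Q g as (Nat.add (Nat.div S M) P)) Nat.pred C n bud p fuel
      (Nat.div (Nat.mod S M) p) (Nat.mod (Nat.mod S M) p))

/-- the enumeration on packed states -/
noncomputable def run (lf : List ℤ → ℕ → Bool) (M A W J C fuel : ℕ) (lv : List Lev) : List ℤ → ℕ → ℕ → Bool :=
  List.rec (fun as _ b => lf as b) (fun l lv ih => node M A W J C fuel (col M lv 0).toNat (-col M lv 0).toNat
    (A * (col M lv 0).toNat) (A * (-col M lv 0).toNat) l.p l.n ih) lv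

/-- the same with evaluated constants -/
noncomputable def bld (lf : List ℤ → ℕ → Bool) (M A W J C fuel : ℕ) (lv : List Lev) :
    ((List ℤ → ℕ → ℕ → Bool) → Bool) → Bool :=
  List.rec (fun k => k fun as _ b => lf as b) (fun l lv ih k => frI (col M lv 0) fun c => frc c.toNat fun u =>
    frc (-c).toNat fun w => frc (A * u) fun P => frc (A * w) fun Q => frc l.p fun p => frc l.n fun n =>
      ih fun g => k (node M A W J C fuel u w P Q p n g)) lv

theorem bld_eq (lf : List ℤ → ℕ → Bool) (M A W J C fuel : ℕ) (lv : List Lev) (k : (List ℤ → ℕ → ℕ → Bool) → Bool) :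
    bld lf M A W J C fuel lv k = k (run lf M A W J C fuel lv) := by
  induction lv generalizing k with
  | nil => rfl
  | cons l lv ih =>
    change (frI (col M lv 0) fun c => frc c.toNat fun u => frc (-c).toNat fun w => frc (A * u) fun P =>
      frc (A * w) fun Q => frc l.p fun p => frc l.n fun n =>
        bld lf M A W J C fuel lv fun g => k (node M A W J C fuel u w P Q p n g)) = _
    rw [frI_eq, frc_eq, frc_eq, frc_eq, frc_eq, frc_eq, frc_eq, ih]
    rfl

theorem run_spec {lf : List ℤ → ℕ → Bool} {M K A W J C fuel : ℕ} (hW : W = 2 * A + 1) (hK : K = W * J + A) (hJ : 0 < J)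
    {lv : List Lev} (hl : ∀ l ∈ lv, okL M K A l = true)
    {as : List ℤ} (ha : ∀ a ∈ as, a.natAbs ≤ A) {S bud : ℕ} (hS : (S : ℤ) = pk M K lv 0 as)
    (h : run lf M A W J C fuel lv as S bud = true) : dfs lf C fuel lv as bud = true := by
  induction lv generalizing as S bud with
  | nil => exact h
  | cons l lv ih =>
    obtain ⟨⟨hp, h1⟩, h2⟩ := okL_spec (hl l List.mem_cons_self)
    replace hl := fun l h => hl l (List.mem_cons_of_mem _ h)
    have h3 := dot_le l.r ha
    change (S : ℤ) = (Cov.dot l.r as + K * l.p) + M * pk M K lv 1 as at hS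
    change (frI (Cov.dot l.r as) fun s => frI (-(s / l.p)) fun a => frc (s % l.p).toNat fun m =>
      scan (fun x b => dfs lf C fuel lv (x :: as) b) C l.n bud 1 l.p fuel a m &&
        scan (fun x b => dfs lf C fuel lv (x :: as) b) C l.n bud (-1) l.p fuel (a - 1) (l.p - m)) = true
    change node M A W J C fuel (col M lv 0).toNat (-col M lv 0).toNat (A * (col M lv 0).toNat) (A * (-col M lv 0).toNat)
      l.p l.n (run lf M A W J C fuel lv) as S bud = true at h
    simp only [frI_eq, frc_eq]
    generalize Cov.dot l.r as = s at hS h3 ⊢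
    obtain ⟨t, ht⟩ : ∃ t : ℕ, s + K * l.p = t := ⟨(s + K * l.p).toNat, by
      rw [Int.toNat_of_nonneg]
      rw [← Nat.cast_mul]
      omega⟩
    have h4 : t < M := by
      rw [← Nat.cast_mul] at ht
      omega
    have hM : (M : ℤ) ≠ 0 := by omega
    have h5 : Nat.mod S M = t := by
      refine Int.natCast_inj.1 ?_
      change ((S % M : ℕ) : ℤ) = _
      rw [Int.natCast_mod, hS, ht, Int.add_mul_emod_self_left, ← Int.natCast_mod, Nat.mod_eq_of_lt h4]
    have h6 : ((Nat.div S M : ℕ) : ℤ) = pk M K lv 1 as := by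
      change ((S / M : ℕ) : ℤ) = _
      rw [Int.natCast_div, hS, ht, Int.add_mul_ediv_left _ _ hM, ← Int.natCast_div, Nat.div_eq_of_lt h4, Nat.cast_zero,
        zero_add]
    have h7 : (K : ℤ) - (Nat.div t l.p : ℕ) = -(s / l.p) := by
      change (K : ℤ) - (t / l.p : ℕ) = _
      rw [Int.natCast_div, ← ht, Int.add_mul_ediv_right _ _ (by omega)]
      ring
    have h8 : Nat.mod t l.p = (s % l.p).toNat := by
      rw [← Int.add_mul_emod_self_right s K, ht, ← Int.natCast_mod, Int.toNat_natCast]
      rfl
    rw [node, h5, h8] at h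
    generalize Nat.div S M = T at h h6
    have h9 := Int.toNat_sub_toNat_neg (col M lv 0)
    have h10 := fun x => pk_cons M K lv 0 x as
    generalize (col M lv 0).toNat = u at h h9
    generalize (-col M lv 0).toNat = w at h h9
    have key : ∀ q b : ℕ, stp A W J u w (A * w) (run lf M A W J C fuel lv) as (Nat.add T (A * u)) q b = true →
        dfs lf C fuel lv (((K : ℤ) - q) :: as) b = true ∧ 0 < q := fun q b hx => by
      rw [stp] at hx
      cases e : Nat.beq (Nat.div q W) J with
      | false => rw [e] at hx; exact nomatch hx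
      | true =>
        rw [e] at hx
        have e1 : W * J + Nat.mod q W = q := Nat.eq_of_beq_eq_true e ▸ Nat.div_add_mod q W
        have e2 : Nat.mod q W < W := Nat.mod_lt q (by omega)
        have e3 : 0 < W * J := Nat.mul_pos (by omega) hJ
        generalize Nat.mod q W = y at hx e1 e2
        have e4 : Int.subNatNat A y = K - q := by rw [Int.subNatNat_eq_coe]; omega
        have e5 : ∀ a ∈ ((K : ℤ) - q) :: as, a.natAbs ≤ A := List.forall_mem_cons.2 ⟨by omega, ha⟩
        have e6 := pk_nonneg hl e5 0
        have e7 : pk M K lv 0 (((K : ℤ) - q) :: as) = ((T + A * u + y * w : ℕ) : ℤ) - (A * w + y * u : ℕ) := by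
          rw [h10, zero_add, ← h6, ← h9, ← e4, Int.subNatNat_eq_coe]
          push_cast
          ring
        rw [e4] at hx
        refine ⟨ih hl e5 ?_ hx, by omega⟩
        change ((T + A * u + y * w - (A * w + y * u) : ℕ) : ℤ) = _
        omega
    generalize stp A W J u w (A * w) (run lf M A W J C fuel lv) as (Nat.add T (A * u)) = f at h key
    cases e : lp f Nat.pred C l.n bud l.p fuel (Nat.div t l.p) (s % l.p).toNat with
    | false => rw [e] at h; exact nomatch h
    | true =>
      rw [e] at h
      have h11 := lp_spec (g := fun x b => dfs lf C fuel lv (x :: as) b) (K := K) (da := 1)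
        (fun q b e => ⟨(key q b e).1, by have := (key q b e).2; rw [Nat.pred_eq_sub_one]; omega⟩) e
      have h12 := lp_spec (g := fun x b => dfs lf C fuel lv (x :: as) b) (K := K) (da := -1)
        (fun q b e => ⟨(key q b e).1, by rw [Nat.succ_eq_add_one]; omega⟩) h
      rw [Nat.cast_succ, ← sub_sub] at h12
      rw [h7] at h11 h12
      exact Bool.and_eq_true_iff.2 ⟨h11, h12⟩

/-- the fast enumeration -/
noncomputable def fast (lf : List ℤ → ℕ → Bool) (M A J C fuel : ℕ) (lv : List Lev) (L : ℕ) : Bool :=
  frc M fun M => frc J fun J => frc C fun C => frc (2 * A + 1) fun W => frc (W * J + A) fun K =>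
    Nat.blt 0 J && allL (okL M K A) lv && frc (bias M K lv) fun S => bld lf M A W J C fuel lv fun g => g [] S L

theorem fast_spec {lf : List ℤ → ℕ → Bool} (M A J : ℕ) {C fuel : ℕ} {lv : List Lev} {L : ℕ}
    (h : fast lf M A J C fuel lv L = true) : dfs lf C fuel lv [] L = true := by
  simp only [fast, frc_eq, bld_eq, Bool.and_eq_true, Nat.blt_eq] at h
  exact run_spec rfl rfl h.1.1 (allL_spec h.1.2) (fun _ e => absurd e List.not_mem_nil) (pk_nil M _ lv 0).symm h.2

/-- the scalar product, zeros are skipped -/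
noncomputable def dz (r : List ℤ) : List ℤ → ℤ :=
  List.rec (fun _ => 0) (fun c _ ih a => List.rec 0 (fun x a' _ => Int.rec (fun k => Nat.rec (ih a')
    (fun _ _ => Int.add (Int.mul c x) (ih a')) k) (fun _ => Int.add (Int.mul c x) (ih a')) x) a) r

theorem dz_eq : Cov.dot = dz := by
  funext r a
  induction r generalizing a with
  | nil => rfl
  | cons c r ih => cases a with
    | nil => rfl
    | cons x a =>
      change c * x + Cov.dot r a = _
      rw [ih]
      rcases x with (_ | k) | k
      exacts [(congrArg (· + _) (mul_zero c)).trans (zero_add _), rfl, rfl]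

/-- a list of integers as one integer -/
noncomputable def pz (M : ℕ) (v : List ℤ) : ℤ := List.rec 0 (fun a _ ih => Int.add a (Int.mul (Int.ofNat M) ih)) v

/-- a bound for the entries -/
def Bd (B : ℕ) (v : List ℤ) : Prop := ∀ a ∈ v, a.natAbs ≤ B

/-- the check of the length and of a bound -/
noncomputable def bd (n B : ℕ) (v : List ℤ) : Bool := Nat.beq v.length n && allL (fun a => Nat.ble a.natAbs B) v

theorem bd_spec {n B : ℕ} {v : List ℤ} (h : bd n B v = true) : v.length = n ∧ Bd B v :=
  ⟨Nat.eq_of_beq_eq_true (Bool.and_eq_true_iff.1 h).1, fun a ha =>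
    Nat.le_of_ble_eq_true (allL_spec (Bool.and_eq_true_iff.1 h).2 a ha)⟩

theorem allL_of {β : Type} {f : β → Bool} {r : List β} (h : ∀ a ∈ r, f a = true) : allL f r = true := by
  induction r with
  | nil => rfl
  | cons b r ih =>
    change cond (f b) (allL f r) false = true
    rw [h b List.mem_cons_self]
    exact ih fun a ha => h a (List.mem_cons_of_mem _ ha)

theorem pz_addL (M : ℕ) (v w : List ℤ) : pz M (addL v w) = pz M v + pz M w := by
  induction v generalizing w with
  | nil => exact (zero_add _).symm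
  | cons a v ih => cases w with
    | nil => exact (add_zero _).symm
    | cons b w =>
      change a + b + M * pz M (addL v w) = a + M * pz M v + (b + M * pz M w)
      rw [ih]
      ring

theorem pz_map (M : ℕ) (c : ℤ) (v : List ℤ) : pz M (v.map (Int.mul c)) = c * pz M v := by
  induction v with
  | nil => exact (mul_zero c).symm
  | cons a v ih =>
    change c * a + M * pz M (v.map (Int.mul c)) = c * (a + M * pz M v)
    rw [ih]
    ring

theorem bd_addL {B C : ℕ} {v w : List ℤ} (h : Bd B v) (h' : Bd C w) : Bd (B + C) (addL v w) := by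
  induction v generalizing w with
  | nil => exact fun a ha => (h' a ha).trans (Nat.le_add_left _ _)
  | cons a v ih => cases w with
    | nil => exact fun a ha => (h a ha).trans (Nat.le_add_right _ _)
    | cons b w =>
      exact List.forall_mem_cons.2 ⟨(Int.natAbs_add_le a b).trans (add_le_add (h a List.mem_cons_self)
        (h' b List.mem_cons_self)), ih (fun x e => h x (List.mem_cons_of_mem _ e)) fun x e => h' x (List.mem_cons_of_mem _ e)⟩

theorem bd_map {B : ℕ} {v : List ℤ} (h : Bd B v) (c : ℤ) : Bd (c.natAbs * B) (v.map (Int.mul c)) := fun x e => by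
  obtain ⟨a, ha, rfl⟩ := List.mem_map.1 e
  exact (Int.natAbs_mul c a).trans_le (Nat.mul_le_mul_left _ (h a ha))

theorem len_addL (v w : List ℤ) : (addL v w).length = max v.length w.length := by
  induction v generalizing w with
  | nil => exact (Nat.zero_max _).symm
  | cons a v ih => cases w with
    | nil => exact (Nat.max_zero _).symm
    | cons b w => exact (congrArg (· + 1) (ih w)).trans (Nat.succ_max_succ _ _).symm

theorem eq_of_pz {M B C : ℕ} (hM : B + C < M) {v w : List ℤ} (hl : v.length = w.length) (h : Bd B v) (h' : Bd C w)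
    (e : pz M v = pz M w) : v = w := by
  induction v generalizing w with
  | nil => exact (List.length_eq_zero_iff.1 hl.symm).symm
  | cons a v ih => cases w with
    | nil => exact nomatch hl
    | cons b w =>
      change a + M * pz M v = b + M * pz M w at e
      have h1 := h a List.mem_cons_self
      have h2 := h' b List.mem_cons_self
      have h3 : a - b = 0 := Int.eq_zero_of_dvd_of_natAbs_lt_natAbs (d := M) ⟨pz M w - pz M v, by linear_combination e⟩
        (by omega)
      rw [sub_eq_zero.1 h3] at e ⊢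
      exact congrArg _ (ih (Nat.succ.inj hl) (fun x e => h x (List.mem_cons_of_mem _ e))
        (fun x e => h' x (List.mem_cons_of_mem _ e)) (mul_left_cancel₀ (by omega) (add_left_cancel e)))

theorem lin_dat (M : ℕ) {n B : ℕ} (c : List ℤ) {g : List (List ℤ)} (h : ∀ v ∈ g, v.length = n ∧ Bd B v) :
    (lin c g).length ≤ n ∧ Bd (sa c * B) (lin c g) ∧ pz M (lin c g) = Cov.dot c (g.map (pz M)) := by
  induction c generalizing g with
  | nil => exact ⟨Nat.zero_le _, fun _ e => absurd e List.not_mem_nil, rfl⟩
  | cons a c ih => cases g with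
    | nil => exact ⟨Nat.zero_le _, fun _ e => absurd e List.not_mem_nil, rfl⟩
    | cons v g =>
      obtain ⟨h1, h2, h3⟩ := ih fun x e => h x (List.mem_cons_of_mem v e)
      obtain ⟨h4, h5⟩ := h v List.mem_cons_self
      rw [show lin (a :: c) (v :: g) = addL (v.map (Int.mul a)) (lin c g) from rfl, len_addL, List.length_map, pz_addL,
        pz_map, h3, show sa (a :: c) = a.natAbs + sa c from rfl, add_mul]
      exact ⟨max_le h4.le h1, bd_addL (bd_map h5 a) h2, rfl⟩

theorem lin_len {n B : ℕ} (a : ℤ) (c v : List ℤ) {g : List (List ℤ)} (h : ∀ w ∈ v :: g, w.length = n ∧ Bd B w) :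
    (lin (a :: c) (v :: g)).length = n := by
  rw [show lin (a :: c) (v :: g) = addL (v.map (Int.mul a)) (lin c g) from rfl, len_addL, List.length_map,
    (h v List.mem_cons_self).1]
  exact max_eq_left (lin_dat 0 c fun x e => h x (List.mem_cons_of_mem v e)).1

/-- the check of linear combinations -/
noncomputable def linF {β : Type} (M n B C : ℕ) (g : List (List ℤ)) (f h : β → List ℤ) (L : List β) : Bool :=
  frc M fun M => frc B fun B => frc C fun C => Nat.blt 0 g.length && allL (bd n B) g && frL (g.map (pz M)) fun G =>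
    allL (fun a => Nat.blt 0 (f a).length && bd n C (h a) && Nat.blt (sa (f a) * B + C) M &&
      decide (dz (G) (f a) = pz M (h a))) L

theorem dot_comm (v w : List ℤ) : Cov.dot v w = Cov.dot w v := by
  induction v generalizing w with
  | nil => exact (dot_nil w).symm
  | cons a v ih => cases w with
    | nil => rfl
    | cons b w => exact congrArg₂ (· + ·) (mul_comm a b) (ih w)

theorem linF_spec {β : Type} (M n B C : ℕ) {g : List (List ℤ)} (f h : β → List ℤ) {L : List β}
    (H : linF M n B C g f h L = true) : ∀ a ∈ L, lin (f a) g = h a := fun a ha => by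
  simp only [linF, frc_eq, frL_eq, Bool.and_eq_true, Nat.blt_eq] at H
  have h1 := allL_spec H.2 a ha
  simp only [Bool.and_eq_true, Nat.blt_eq, decide_eq_true_eq] at h1
  have h2 := fun v e => bd_spec (allL_spec H.1.2 v e)
  have h3 := bd_spec h1.1.1.2
  have h4 := lin_dat M (f a) h2
  refine eq_of_pz h1.1.2 ?_ h4.2.1 h3.2 (by rw [h4.2.2, ← h1.2, ← dz_eq, dot_comm])
  obtain ⟨v, g, rfl⟩ := List.exists_cons_of_length_pos H.1.1
  obtain ⟨x, c, e⟩ := List.exists_cons_of_length_pos h1.1.1.1
  rw [e, lin_len x c v h2, h3.1]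

/-- the digits -/
def unp (M H n : ℕ) : ℕ → List ℤ :=
  Nat.rec (fun _ => []) (fun _ ih S => Int.subNatNat (Nat.mod S M) H :: ih (Nat.div S M)) n

theorem unp_dat (H n S : ℕ) (h : 0 < H) : (unp (H + H) H n S).length = n ∧ Bd H (unp (H + H) H n S) := by
  induction n generalizing S with
  | zero => exact ⟨rfl, fun _ e => absurd e List.not_mem_nil⟩
  | succ n ih =>
    refine ⟨congrArg (· + 1) (ih _).1, List.forall_mem_cons.2 ⟨?_, (ih _).2⟩⟩
    have : Nat.mod S (H + H) < H + H := Nat.mod_lt _ (by omega)
    rw [Int.subNatNat_eq_coe]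
    omega

/-- the digits as pairs -/
def sp (M K H n : ℕ) : ℕ → List (ℤ × ℕ) :=
  Nat.rec (fun _ => []) (fun _ ih S => (Int.subNatNat (Nat.div (Nat.mod S M) K) H, Nat.mod (Nat.mod S M) K) ::
    ih (Nat.div S M)) n

/-- the list with a given number -/
noncomputable def get (M H n E : ℕ) (U : ℤ) (k : List ℤ → Bool) : Bool :=
  frI U fun U => frL (unp M H n (Int.add U (Int.ofNat E)).toNat) fun u => decide (pz M u = U) && k u

theorem get_spec {H n E B : ℕ} {k : List ℤ → Bool} {v : List ℤ} (h : get (H + H) H n E (pz (H + H) v) k = true)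
    (hl : v.length = n) (hb : Bd B v) (hB : B < H) : k v = true := by
  simp only [get, frI_eq, frL_eq, Bool.and_eq_true, decide_eq_true_eq] at h
  have h1 := unp_dat H n (Int.add (pz (H + H) v) (Int.ofNat E)).toNat (by omega)
  rw [← eq_of_pz (by omega) (h1.1.trans hl.symm) h1.2 hb h.1]
  exact h.2

/-- the offset -/
noncomputable def off (M H n : ℕ) : ℕ := Nat.rec 0 (fun _ ih => Nat.add H (Nat.mul M ih)) n

/-- the product with the weights -/
noncomputable def ml (c : List ℕ) : List ℤ → List ℤ :=
  List.rec (fun _ => []) (fun x _ ih w => List.rec [] (fun a w' _ => Int.mul (Int.ofNat x) a :: ih w') w) c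

theorem dot_ml (c : List ℕ) (w u : List ℤ) : Cov.dot (ml c w) u = ipL c w u := by
  induction c generalizing w u with
  | nil => rfl
  | cons x c ih => cases w with
    | nil => rfl
    | cons a w => cases u with
      | nil => rfl
      | cons b u => exact congrArg₂ (· + ·) (mul_assoc (x : ℤ) a b) (ih w u)

theorem dot_addL (v w u : List ℤ) : Cov.dot (addL v w) u = Cov.dot v u + Cov.dot w u := by
  induction v generalizing w u with
  | nil => exact (zero_add _).symm
  | cons a v ih => cases w with
    | nil => exact (add_zero _).symm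
    | cons b w => cases u with
      | nil => rfl
      | cons x u =>
        change (a + b) * x + Cov.dot (addL v w) u = a * x + Cov.dot v u + (b * x + Cov.dot w u)
        rw [ih]
        ring

theorem dot_map (c : ℤ) (v u : List ℤ) : Cov.dot (v.map (Int.mul c)) u = c * Cov.dot v u := by
  induction v generalizing u with
  | nil => exact (mul_zero c).symm
  | cons a v ih => cases u with
    | nil => exact (mul_zero c).symm
    | cons x u =>
      change c * a * x + Cov.dot (v.map (Int.mul c)) u = c * (a * x + Cov.dot v u)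
      rw [ih]
      ring

theorem ip_le (c : List ℕ) (w u : List ℤ) {s : ℤ} (hs : s * s = 1) : 2 * (s * ipL c w u) ≤ ipL c w w + ipL c u u := by
  rw [ipL_eq, ipL_eq, ipL_eq, Finset.mul_sum, Finset.mul_sum, ← Finset.sum_add_distrib]
  refine Finset.sum_le_sum fun t _ => sub_nonneg.1 ((mul_nonneg (Int.natCast_nonneg (c.getD t 0))
    (mul_self_nonneg (nth w t - s * nth u t))).trans_eq ?_)
  linear_combination (c.getD t 0 * (nth u t * nth u t) : ℤ) * hs

/-- the check of the levels on packed numbers -/
noncomputable def okF (c : List ℕ) (M H n E B N : ℕ) (lv : List Lev) : List ℤ → List ℤ → Bool :=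
  List.rec (fun _ _ => true) (fun l _ ih G T => frI (pz M l.v) fun V =>
    get M H n E (dz (V :: G) (l.p :: l.r)) fun u => frL (ml c u) fun y =>
      Nat.blt 0 l.p && Nat.blt 0 l.n && Nat.blt l.n N && bd n B l.v && Nat.blt (sa (l.p :: l.r) * B) H &&
        decide (dz y u = l.n) && decide (dz T u = 0) && frL (addL y (T.map (Int.mul (Int.ofNat N)))) fun T =>
          ih (V :: G) T) lv

theorem okF_spec {D : Dat} {H n E B N : ℕ} {lv : List Lev} {vs us : List (List ℤ)} {T : List ℤ}
    (hv : ∀ v ∈ vs, v.length = n ∧ Bd B v) (hT : ∀ u, Cov.dot T u = pz N (us.map fun w => ip D w u))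
    (hu : ∀ w ∈ us, ip D w w < N) (h : okF D.cntL (H + H) H n E B N lv (vs.map (pz (H + H))) T = true) :
    okLev D lv vs us = true := by
  induction lv generalizing vs us T with
  | nil => rfl
  | cons l lv ih =>
    change (frI (pz (H + H) l.v) fun V => get (H + H) H n E (dz (V :: vs.map (pz (H + H))) (l.p :: l.r)) fun u =>
      frL (ml D.cntL u) fun y => Nat.blt 0 l.p && Nat.blt 0 l.n && Nat.blt l.n N && bd n B l.v &&
        Nat.blt (sa (l.p :: l.r) * B) H && decide (dz y u = l.n) && decide (dz T u = 0) &&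
          frL (addL y (T.map (Int.mul (Int.ofNat N)))) fun T =>
            okF D.cntL (H + H) H n E B N lv (V :: vs.map (pz (H + H))) T) = true at h
    change (frL (lin (l.p :: l.r) (l.v :: vs)) fun u => Nat.blt 0 l.p && Nat.blt 0 l.n && decide (ip D u u = l.n) &&
      allL (fun w => decide (ip D w u = 0)) us && okLev D lv (l.v :: vs) (u :: us)) = true
    have h0 := h
    simp only [get, frI_eq, frL_eq, Bool.and_eq_true, Nat.blt_eq] at h0
    have h1 : ∀ v ∈ l.v :: vs, v.length = n ∧ Bd B v := List.forall_mem_cons.2 ⟨bd_spec h0.2.1.1.1.1.2, hv⟩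
    have h2 := lin_dat (H + H) (l.p :: l.r) h1
    rw [frI_eq, ← dz_eq, dot_comm, ← List.map_cons, ← h2.2.2] at h
    replace h := get_spec h (lin_len _ _ _ h1) h2.2.1 h0.2.1.1.1.2
    rw [frL_eq]
    generalize lin (l.p :: l.r) (l.v :: vs) = u at h ⊢
    simp only [frL_eq, Bool.and_eq_true, Nat.blt_eq, decide_eq_true_eq, dot_ml, hT] at h ⊢
    obtain ⟨⟨⟨⟨⟨⟨⟨a1, a2⟩, a3⟩, -⟩, -⟩, a4⟩, a5⟩, a6⟩ := h
    change ip D u u = _ at a4
    have a7 : ip D u u < N := a4 ▸ Int.ofNat_lt.2 a3
    refine ⟨⟨⟨⟨a1, a2⟩, a4⟩, allL_of fun w hw => decide_eq_true ?_⟩, ih h1 (fun x => ?_) (List.forall_mem_cons.2 ⟨a7, hu⟩) a6⟩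
    · have h3 : us.map (fun w => ip D w u) = (us.map fun w => ip D w u).map (Int.mul 0) := by
        refine eq_of_pz (M := N) (B := N - 1) (C := 0) (by omega) (List.length_map _).symm (fun z hz => ?_)
          (fun z hz => ?_) (by rw [pz_map, a5, mul_zero])
        · obtain ⟨w, hw, rfl⟩ := List.mem_map.1 hz
          have h4 : 2 * (1 * ip D w u) ≤ ip D w w + ip D u u := ip_le _ w u rfl
          have h5 : 2 * (-1 * ip D w u) ≤ ip D w w + ip D u u := ip_le _ w u rfl
          have h6 := hu w hw
          omega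
        · obtain ⟨w, -, rfl⟩ := List.mem_map.1 hz
          exact (congrArg Int.natAbs (zero_mul w)).le
      obtain ⟨z, -, hz⟩ := List.mem_map.1 (h3 ▸ List.mem_map_of_mem (f := fun w => ip D w u) hw)
      exact hz.symm.trans (zero_mul z)
    · rw [dot_addL, dot_map, dot_ml, hT]
      rfl

/-- the check of the levels -/
noncomputable def okG (c : List ℕ) (H n B N : ℕ) (lv : List Lev) : Bool :=
  frc H fun H => frc (H + H) fun M => frc B fun B => frc N fun N => frc (off M H n) fun E => okF c M H n E B N lv [] []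

theorem okG_spec (H n B N : ℕ) {D : Dat} {lv : List Lev} (h : okG D.cntL H n B N lv = true) :
    okLev D lv [] [] = true := by
  simp only [okG, frc_eq] at h
  exact okF_spec (vs := []) (fun _ e => absurd e List.not_mem_nil) (fun _ => rfl) (fun _ e => absurd e List.not_mem_nil) h

/-- the linear combination, zeros are skipped -/
noncomputable def lnz (r : List ℤ) : List (List ℤ) → List ℤ :=
  List.rec (fun _ => []) (fun a _ ih w => List.rec [] (fun b w' _ => Int.rec (fun k => Nat.rec (ih w')
    (fun _ _ => addL (b.map (Int.mul a)) (ih w')) k) (fun _ => addL (b.map (Int.mul a)) (ih w')) a) w) r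

theorem nth_lnz (r : List ℤ) (vs : List (List ℤ)) (t : ℕ) : nth (lin r vs) t = nth (lnz r vs) t := by
  induction r generalizing vs with
  | nil => rfl
  | cons a r ih => cases vs with
    | nil => rfl
    | cons v vs =>
      rw [nth_lin_cons, ih, ← nth_map_mul, ← nth_addL]
      rcases a with (_ | k) | k
      exacts [(nth_addL _ _ t).trans ((congrArg (· + _) ((nth_map_mul _ v t).trans (zero_mul _))).trans (zero_add _)),
        rfl, rfl]

theorem ip_lnz (D : Dat) (u r : List ℤ) (vs : List (List ℤ)) : ip D u (lin r vs) = ip D u (lnz r vs) :=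
  (ipL_eq _ _ _).trans ((Finset.sum_congr rfl fun t _ => by rw [nth_lnz]).trans (ipL_eq _ _ _).symm)

theorem lnz_ip (D : Dat) (u r : List ℤ) (vs : List (List ℤ)) : ip D (lin r vs) u = ip D (lnz r vs) u :=
  (ipL_eq _ _ _).trans ((Finset.sum_congr rfl fun t _ => by rw [nth_lnz]).trans (ipL_eq _ _ _).symm)

/-- the number of a sparse combination -/
noncomputable def dc (G : List ℤ) (c : List (ℤ × ℕ)) : ℤ :=
  List.rec 0 (fun p _ ih => Int.add (Int.mul p.1 (nth G p.2)) ih) c

theorem pz_ntd (M : ℕ) (R : List (List ℤ)) (i : ℕ) : pz M (ntd R [] i) = nth (R.map (pz M)) i := by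
  induction R generalizing i with
  | nil => rfl
  | cons r R ih => cases i with
    | zero => rfl
    | succ i => exact ih i

theorem comb_dat (M : ℕ) {n B : ℕ} {R : List (List ℤ)} (h : ∀ v ∈ R, v.length = n ∧ Bd B v) (c : List (ℤ × ℕ)) :
    (comb R c).length ≤ n ∧ Bd (sa (c.map Prod.fst) * B) (comb R c) ∧ pz M (comb R c) = dc (R.map (pz M)) c := by
  induction c with
  | nil => exact ⟨Nat.zero_le _, fun _ e => absurd e List.not_mem_nil, rfl⟩
  | cons p c ih =>
    have h1 : (ntd R [] p.2).length ≤ n ∧ Bd B (ntd R [] p.2) := by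
      rcases ntd_mem R [] p.2 with e | e
      · rw [e]
        exact ⟨Nat.zero_le _, fun _ e => absurd e List.not_mem_nil⟩
      · exact ⟨(h _ e).1.le, (h _ e).2⟩
    rw [show comb R (p :: c) = addL ((ntd R [] p.2).map (Int.mul p.1)) (comb R c) from rfl, len_addL, List.length_map,
      pz_addL, pz_map, ih.2.2, pz_ntd, show sa ((p :: c).map Prod.fst) = p.1.natAbs + sa (c.map Prod.fst) from rfl, add_mul]
    exact ⟨max_le h1.1 ih.1, bd_addL (bd_map h1.2 _) ih.2.1, rfl⟩

/-- a sparse combination from its number -/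
noncomputable def cmb (M H n E B : ℕ) (R : List (List ℤ)) (G : List ℤ) (c : List (ℤ × ℕ)) (k : List ℤ → Bool) : Bool :=
  Nat.beq (ntd R [] (ntd c (0, 0) 0).2).length n && Nat.blt 0 c.length && Nat.blt (sa (c.map Prod.fst) * B) H &&
    get M H n E (dc G c) k

theorem cmb_spec {H n E B : ℕ} {R : List (List ℤ)} (hR : ∀ v ∈ R, v.length = n ∧ Bd B v) {c : List (ℤ × ℕ)}
    {k : List ℤ → Bool} (h : cmb (H + H) H n E B R (R.map (pz (H + H))) c k = true) : k (comb R c) = true := by
  simp only [cmb, Bool.and_eq_true, Nat.blt_eq, Nat.beq_eq] at h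
  have h1 := comb_dat (H + H) hR c
  rw [← h1.2.2] at h
  refine get_spec h.2 ?_ h1.2.1 h.1.2
  obtain ⟨p, c, rfl⟩ := List.exists_cons_of_length_pos h.1.1.2
  rw [show comb R (p :: c) = addL ((ntd R [] p.2).map (Int.mul p.1)) (comb R c) from rfl, len_addL, List.length_map,
    show (ntd R [] p.2).length = n from h.1.1.1]
  exact max_eq_left (comb_dat 0 hR c).1

/-- the fast enumeration below a node -/
noncomputable def fastA (lf : List ℤ → ℕ → Bool) (M A J C fuel : ℕ) (lv : List Lev) (as : List ℤ) (L : ℕ) : Bool :=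
  frc M fun M => frc J fun J => frc C fun C => frc (2 * A + 1) fun W => frc (W * J + A) fun K =>
    Nat.blt 0 J && allL (okL M K A) lv && allL (fun a => Nat.ble a.natAbs A) as &&
      frc (pk M K lv 0 as).toNat fun S => bld lf M A W J C fuel lv fun g => g as S L

theorem fastA_spec {lf : List ℤ → ℕ → Bool} {M A J C fuel : ℕ} {lv : List Lev} {as : List ℤ} {L : ℕ}
    (h : fastA lf M A J C fuel lv as L = true) : dfs lf C fuel lv as L = true := by
  simp only [fastA, frc_eq, bld_eq, Bool.and_eq_true, Nat.blt_eq] at h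
  have h1 := fun a e => Nat.le_of_ble_eq_true (allL_spec h.1.2 a e)
  exact run_spec rfl rfl h.1.1.1 (allL_spec h.1.1.2) h1 (Int.toNat_of_nonneg (pk_nonneg (allL_spec h.1.1.2) h1 0)) h.2

/-- the check of the levels after a first vector -/
noncomputable def okV (c : List ℕ) (H n B N : ℕ) (lv : List Lev) (v : List ℤ) : Bool :=
  frc H fun H => frc (H + H) fun M => frc B fun B => frc N fun N => frc (off M H n) fun E =>
    bd n B v && decide (ipL c v v < N) && okF c M H n E B N lv [pz M v] (ml c v)

theorem okV_spec (H n B N : ℕ) {D : Dat} {lv : List Lev} {v : List ℤ} (h : okV D.cntL H n B N lv v = true) :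
    okLev D lv [v] [v] = true := by
  simp only [okV, frc_eq, Bool.and_eq_true, decide_eq_true_eq] at h
  exact okF_spec (vs := [v]) (List.forall_mem_singleton.2 (bd_spec h.1.1))
    (fun u => (dot_ml _ _ _).trans ((add_zero _).symm.trans (congrArg (ip D v u + ·) (mul_zero (N : ℤ)).symm)))
    (List.forall_mem_singleton.2 h.1.2) h.2

/-- a linear combination from its number -/
noncomputable def lnK (M H n E B : ℕ) (G c : List ℤ) (k : List ℤ → Bool) : Bool :=
  Nat.blt 0 c.length && Nat.blt (sa c * B) H && get M H n E (dz G c) k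

theorem lnK_spec {H n E B : ℕ} {g : List (List ℤ)} (h0 : 0 < g.length) (hg : ∀ v ∈ g, v.length = n ∧ Bd B v) {c : List ℤ}
    {k : List ℤ → Bool} (h : lnK (H + H) H n E B (g.map (pz (H + H))) c k = true) : k (lin c g) = true := by
  simp only [lnK, Bool.and_eq_true, Nat.blt_eq] at h
  have h1 := lin_dat (H + H) c hg
  rw [← dz_eq, dot_comm, ← h1.2.2] at h
  refine get_spec h.2 ?_ h1.2.1 h.1.2
  obtain ⟨v, g, rfl⟩ := List.exists_cons_of_length_pos h0
  obtain ⟨x, c, rfl⟩ := List.exists_cons_of_length_pos h.1.1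
  exact lin_len x c v hg

end Cfsg.Agent.TAB.Cov.Pk
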