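import Cfsg.Agent.TAB.F22.FxC_m3
import Cfsg.Agent.H878.EPX.FiK
import Cfsg.Agent.S0148
import Cfsg.Agent.Prune
set_option linter.all false
open scoped Cfsg.Agent.FastGrp

/-!
# The character of degree 78 of `Fi22` (helper31, TAB)

* `chi`, `chi_isChar`, `chi_el` ; the values on the 59 representatives and on their images under the diagram swap.
-/

set_option autoImplicit false
set_option maxRecDepth 100000

namespace Cfsg.Agent.TAB.F22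

open Cfsg Cfsg.Spor Cfsg.Agent.H123.Cls.FiDat
open Cfsg.Agent.H494.F22 (ix ix_lt sw)

theorem cox_rel {x y : ℕ} (hy : y < 9) (hx : x ≤ y) : (cm 78 ms sc x * cm 78 ms sc y) ^ lab x y = 1 := by
  have h := rel_of_chk ok_ms (cox_chk y hy x hx)
  rwa [List.map_flatten, List.prod_flatten, List.map_replicate, List.map_replicate, List.prod_replicate,
    List.map_cons, List.map_cons, List.map_nil, List.prod_cons, List.prod_cons, List.prod_nil, mul_one] at h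

theorem cm_sq {x : ℕ} (hx : x < 9) : cm 78 ms sc x * cm 78 ms sc x = 1 := by
  have h := cox_rel hx le_rfl
  rwa [lab, if_pos rfl, pow_one] at h

/-- the matrix of a generator -/
noncomputable def gl (x : Fi22.Gen) : (Matrix (Fin 78) (Fin 78) ℂ)ˣ :=
  ⟨cm 78 ms sc (ix x), cm 78 ms sc (ix x), cm_sq (ix_lt x), cm_sq (ix_lt x)⟩

theorem gl_inv (x : Fi22.Gen) : (gl x)⁻¹ = gl x := rfl

theorem pair_rel (x y : Fi22.Gen) : (gl x * gl y) ^ coxLabel Fi22.edges x y = 1 := by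
  have h1 : ∀ x y : Fi22.Gen, ix x ≤ ix y → (gl x * gl y) ^ lab (ix x) (ix y) = 1 := fun x y h =>
    Units.ext (by rw [Units.val_pow_eq_pow_val]; exact cox_rel (ix_lt y) h)
  rcases le_total (ix x) (ix y) with h | h
  · have h2 : ix x ≤ ix y → coxLabel Fi22.edges x y = lab (ix x) (ix y) := by cases x <;> cases y <;> decide
    rw [h2 h, h1 x y h]
  · have h2 : ix y ≤ ix x → coxLabel Fi22.edges x y = lab (ix y) (ix x) := by cases x <;> cases y <;> decide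
    have h3 : gl x * gl y = (gl y * gl x)⁻¹ := by rw [mul_inv_rev, gl_inv, gl_inv]
    rw [h2 h, h3, inv_pow, h1 y x h, inv_one]

theorem pow_rel {w : List ℕ} {k : ℕ} (h : relB 78 ms sc fs 16 (List.replicate k w).flatten = true) :
    (w.map (cm 78 ms sc)).prod ^ k = 1 := by
  have h1 := rel_of_chk ok_ms h
  rwa [List.map_flatten, List.prod_flatten, List.map_replicate, List.map_replicate, List.prod_replicate] at h1

theorem rels : ∀ r ∈ (coxRelators Fi22.edges ∪ {r | r ∈ Fi22.extra} : Set (FreeGroup Fi22.Gen)),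
    FreeGroup.lift gl r = 1 := by
  rintro r (⟨x, -, y, -, rfl⟩ | hr)
  · rw [map_pow, map_mul, FreeGroup.lift_apply_of, FreeGroup.lift_apply_of]
    exact pair_rel x y
  · have hr' : r ∈ Fi22.extra := hr
    simp only [Fi22.extra, List.mem_cons, List.not_mem_nil, or_false] at hr'
    rcases hr' with rfl | rfl | rfl <;> simp only [map_pow, map_mul, FreeGroup.lift_apply_of] <;> apply Units.ext <;>
      simp only [Units.val_pow_eq_pow_val, Units.val_mul, Units.val_one, gl, ix]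
    · simpa only [List.map_cons, List.map_nil, List.prod_cons, List.prod_nil, mul_one, mul_assoc] using
        pow_rel spider_chk
    · simpa only [List.map_cons, List.map_nil, List.prod_cons, List.prod_nil, mul_one, mul_assoc] using
        pow_rel e7a_chk
    · simpa only [List.map_cons, List.map_nil, List.prod_cons, List.prod_nil, mul_one, mul_assoc] using
        pow_rel e7b_chk

/-- the representation of degree 78 -/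
noncomputable def rep : Spor.Fi22 →* Matrix (Fin 78) (Fin 78) ℂ :=
  (Units.coeHom _).comp (PresentedGroup.toGroup rels)

/-- the character of degree 78 -/
noncomputable def chi (g : Spor.Fi22) : ℂ := (rep g).trace

theorem chi_isChar : IsCharacter Spor.Fi22 chi := S0148.isCharacter_of_matrix rep

theorem rep_el : ∀ (w : List ℕ), (∀ x ∈ w, x < 9) → rep (el w) = (w.map (cm 78 ms sc)).prod
  | [], _ => map_one rep
  | x :: w, h => by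
    have h1 : ∀ x < 9, ix (gn x) = x := by decide
    rw [el_cons, map_mul, rep_el w fun y hy => h y (List.mem_cons_of_mem _ hy), List.map_cons, List.prod_cons]
    congr 1
    rw [rep, MonoidHom.comp_apply, PresentedGroup.toGroup.of]
    exact congrArg (cm 78 ms sc) (h1 x (h x List.mem_cons_self))

theorem chi_el {w : List ℕ} {t : ℤ} (h : trB 78 ms sc fs 16 w t = true) : chi (el w) = t := by
  have h1 := h
  rw [trB, Bool.and_eq_true, Bool.and_eq_true] at h1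
  rw [chi, rep_el w fun x hx => Nat.blt_eq.mp (Eng.allL_spec h1.1.1 x hx), trace_of_chk ok_ms h]

/-- the words of the representatives -/
noncomputable def wd (i : ℕ) : List ℕ :=
  (W.map fun y => y.2.1 ++ y.2.2.1 ++ y.2.1.reverse ++ y.2.2.1.reverse).getD i []

/-- the values of the character -/
def c78 : List ℤ := [-2, 14, -34, -3, -3, 6, 15, 2, -2, 2, -6, 6, 3, 1, 1, -2, 1, 2, 2, 5, -2, -1, -7, -7, 1, 0, 2, 2,
  -2, 0, 0, 3, -1, 1, 1, -1, 0, 2, -1, 3, -3, -1, 1, -3, -3, 0, 1, 0, 0, 2, -1, -1, -1, 1, -1, -1, 1, -2, 78]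

section
open Cfsg.Agent.TAB.Eng Cfsg.Agent.TAB.Sz

private noncomputable def mu (M : ℕ → ℕ → ℕ) (a x : ℕ) : ℕ :=
  Nat.rec (M a x) (fun n _ => Nat.rec x (fun _ _ => M a x) n) a

private noncomputable def sq (A M : ℕ → ℕ → ℕ) (u : List ℕ) (c C : ℕ) (l : List (ℕ × ℕ)) : ℕ :=
  List.rec (M c C) (fun p l' ih => List.rec (Nat.rec (mu M p.2 (ntd u 0 p.1)) (fun _ _ => A (mu M p.2 (ntd u 0 p.1)) ih) c)
    (fun _ _ _ => A (mu M p.2 (ntd u 0 p.1)) ih) l') l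

private theorem mu_eq (a x : ℕ) : mu Nat.mul a x = Nat.mul a x := by
  rcases a with _ | _ | a
  · rfl
  · exact (Nat.one_mul x).symm
  · rfl

private theorem sq_eq (u : List ℕ) (c C : ℕ) : ∀ l, sq Nat.add Nat.mul u c C l = sumL u (Nat.mul c C) l
  | [] => rfl
  | [p] => by
    cases c with
    | zero => exact (mu_eq _ _).trans (congrArg (Nat.add _) (Nat.zero_mul C)).symm
    | succ c => exact congrArg (Nat.add · _) (mu_eq _ _)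
  | p :: q :: l => congrArg₂ Nat.add (mu_eq _ _) (sq_eq u c C (q :: l))

private noncomputable def dsL (A M S : ℕ → ℕ → ℕ) (C : ℕ) (u : List ℕ) (m : List Row) : List ℕ :=
  List.rec [] (fun p _ ih => S (sq A M u p.1.2 C p.1.1) (sq A M u p.2.2 C p.2.1) :: ih) m

private noncomputable def fo (O : ℕ → ℕ → ℕ) (r : ℕ) (l : List ℕ) : ℕ := List.rec r (fun d _ ih => O d ih) l

private noncomputable def dv (D : ℕ → ℕ → ℕ) (s : ℕ) (l : List ℕ) : List ℕ := List.rec [] (fun d _ ih => D d s :: ih) l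

private noncomputable def stq (A M S D O N : ℕ → ℕ → ℕ) (e : ℕ → ℕ → Bool → Bool) (s C : ℕ) (u : List ℕ) (m : List Row)
    (k : List ℕ → Bool) : Bool :=
  e (fo O 0 (dsL A M S C u m)) (fo N (fo O 0 (dsL A M S C u m)) (dsL A M S C u m)) (k (dv D s (dsL A M S C u m)))

private noncomputable def fin (s B r m : ℕ) (b : Bool) : Bool :=
  Bool.rec false (Bool.rec false (Nat.rec false (fun _ _ => b) m) (Nat.ble r (Nat.mul s B))) (Nat.beq (Nat.mod r s) 0)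

private theorem fin_spec {s B r m : ℕ} {b : Bool} (h : fin s B r m b = true) : r % s = 0 ∧ r ≤ s * B ∧ m ≠ 0 ∧ b = true := by
  have h1 : (Bool.rec false (Bool.rec false (Nat.rec false (fun _ _ => b) m) (Nat.ble r (s * B))) (Nat.beq (r % s) 0) : Bool) =
    true := h
  cases h2 : Nat.beq (r % s) 0 with
  | false => rw [h2] at h1; cases h1
  | true =>
    cases h3 : Nat.ble r (s * B) with
    | false => rw [h2, h3] at h1; cases h1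
    | true =>
      rw [h2, h3] at h1
      cases m with
      | zero => cases h1
      | succ m => exact ⟨Nat.eq_of_beq_eq_true h2, Nat.le_of_ble_eq_true h3, Nat.succ_ne_zero m, h1⟩

private theorem ds_spec {j C B r : ℕ} {u : List ℕ} : ∀ m : List Row,
    fo Nat.lor 0 (dsL Nat.add Nat.mul Nat.sub C u m) % 2 ^ j = 0 → fo Nat.lor 0 (dsL Nat.add Nat.mul Nat.sub C u m) ≤ 2 ^ j * B →
    fo Nat.land r (dsL Nat.add Nat.mul Nat.sub C u m) ≠ 0 →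
      List.Forall₂ (fun y p => 2 ^ j * y + p.2 = p.1) (dv Nat.div (2 ^ j) (dsL Nat.add Nat.mul Nat.sub C u m)) (m.map (pq C u)) ∧
        ∀ y ∈ dv Nat.div (2 ^ j) (dsL Nat.add Nat.mul Nat.sub C u m), y ≤ B
  | [], _, _, _ => ⟨List.Forall₂.nil, fun _ h => (nomatch h)⟩
  | p :: m, h1, h2, h3 => by
    obtain ⟨d, hd⟩ : ∃ d, d = sq Nat.add Nat.mul u p.1.2 C p.1.1 - sq Nat.add Nat.mul u p.2.2 C p.2.1 := ⟨_, rfl⟩
    have e : dsL Nat.add Nat.mul Nat.sub C u (p :: m) = d :: dsL Nat.add Nat.mul Nat.sub C u m := hd ▸ rfl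
    rw [e] at h1 h2 h3 ⊢
    have h4 : (d ||| fo Nat.lor 0 (dsL Nat.add Nat.mul Nat.sub C u m)) % 2 ^ j = 0 := h1
    have h5 : d ||| fo Nat.lor 0 (dsL Nat.add Nat.mul Nat.sub C u m) ≤ 2 ^ j * B := h2
    have h6 : d &&& fo Nat.land r (dsL Nat.add Nat.mul Nat.sub C u m) ≠ 0 := h3
    rw [Nat.or_mod_two_pow, Nat.or_eq_zero_iff] at h4
    have h7 := ds_spec m h4.2 (Nat.right_le_or.trans h5) fun h => h6 (by rw [h, Nat.and_zero])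
    have h8 : d ≠ 0 := fun h => h6 (by rw [h, Nat.zero_and])
    refine ⟨List.Forall₂.cons ?_ h7.1, List.forall_mem_cons.2 ⟨Nat.div_le_of_le_mul (Nat.left_le_or.trans h5), h7.2⟩⟩
    show 2 ^ j * (d / 2 ^ j) + sumL u (Nat.mul p.2.2 C) p.2.1 = sumL u (Nat.mul p.1.2 C) p.1.1
    rw [sq_eq, sq_eq] at hd
    rw [Nat.mul_div_cancel' (Nat.dvd_of_mod_eq_zero h4.1)]
    omega

private noncomputable def hh (D O N : ℕ → ℕ → ℕ) (e : ℕ → ℕ → Bool → Bool) (s : ℕ) (K : ℕ → ℕ → ℕ → ℕ → ℕ → ℕ → ℕ → ℕ → ℕ → ℕ → ℕ → ℕ → ℕ → ℕ → ℕ → ℕ → ℕ → ℕ → ℕ → ℕ → ℕ → ℕ → ℕ → ℕ → ℕ → ℕ → ℕ → ℕ → ℕ → ℕ → ℕ → ℕ → ℕ → ℕ → ℕ → ℕ → ℕ → ℕ → ℕ → ℕ → ℕ → ℕ → ℕ → ℕ → ℕ → ℕ → ℕ → ℕ → ℕ → ℕ → ℕ → ℕ → ℕ → ℕ → ℕ → ℕ → ℕ → ℕ → ℕ → ℕ → ℕ → ℕ → ℕ → ℕ → ℕ → ℕ → ℕ → ℕ → ℕ → ℕ → ℕ → ℕ → ℕ → ℕ → ℕ → ℕ → ℕ → ℕ → Bool)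
    (d0 d1 d2 d3 d4 d5 d6 d7 d8 d9 d10 d11 d12 d13 d14 d15 d16 d17 d18 d19 d20 d21 d22 d23 d24 d25 d26 d27 d28 d29 d30 d31 d32 d33 d34 d35 d36 d37 d38 d39 d40 d41 d42 d43 d44 d45 d46 d47 d48 d49 d50 d51 d52 d53 d54 d55 d56 d57 d58 d59 d60 d61 d62 d63 d64 d65 d66 d67 d68 d69 d70 d71 d72 d73 d74 d75 d76 d77 : ℕ) : Bool :=
  (fun R => e R (N d0 (N d1 (N d2 (N d3 (N d4 (N d5 (N d6 (N d7 (N d8 (N d9 (N d10 (N d11 (N d12 (N d13 (N d14 (N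
  d15 (N d16 (N d17 (N d18 (N d19 (N d20 (N d21 (N d22 (N d23 (N d24 (N d25 (N d26 (N d27 (N d28 (N d29 (N d30 (N
  d31 (N d32 (N d33 (N d34 (N d35 (N d36 (N d37 (N d38 (N d39 (N d40 (N d41 (N d42 (N d43 (N d44 (N d45 (N d46 (N
  d47 (N d48 (N d49 (N d50 (N d51 (N d52 (N d53 (N d54 (N d55 (N d56 (N d57 (N d58 (N d59 (N d60 (N d61 (N d62 (N
  d63 (N d64 (N d65 (N d66 (N d67 (N d68 (N d69 (N d70 (N d71 (N d72 (N d73 (N d74 (N d75 (N d76 (N d77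
  R)))))))))))))))))))))))))))))))))))))))))))))))))))))))))))))))))))))))))))))) (K (D d0 s) (D d1 s) (D d2 s) (D
  d3 s) (D d4 s) (D d5 s) (D d6 s) (D d7 s) (D d8 s) (D d9 s) (D d10 s) (D d11 s) (D d12 s) (D d13 s) (D d14 s) (D
  d15 s) (D d16 s) (D d17 s) (D d18 s) (D d19 s) (D d20 s) (D d21 s) (D d22 s) (D d23 s) (D d24 s) (D d25 s) (D d26
  s) (D d27 s) (D d28 s) (D d29 s) (D d30 s) (D d31 s) (D d32 s) (D d33 s) (D d34 s) (D d35 s) (D d36 s) (D d37 s)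
  (D d38 s) (D d39 s) (D d40 s) (D d41 s) (D d42 s) (D d43 s) (D d44 s) (D d45 s) (D d46 s) (D d47 s) (D d48 s) (D
  d49 s) (D d50 s) (D d51 s) (D d52 s) (D d53 s) (D d54 s) (D d55 s) (D d56 s) (D d57 s) (D d58 s) (D d59 s) (D d60
  s) (D d61 s) (D d62 s) (D d63 s) (D d64 s) (D d65 s) (D d66 s) (D d67 s) (D d68 s) (D d69 s) (D d70 s) (D d71 s)
  (D d72 s) (D d73 s) (D d74 s) (D d75 s) (D d76 s) (D d77 s))) (O d0 (O d1 (O d2 (O d3 (O d4 (O d5 (O d6 (O d7 (O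
  d8 (O d9 (O d10 (O d11 (O d12 (O d13 (O d14 (O d15 (O d16 (O d17 (O d18 (O d19 (O d20 (O d21 (O d22 (O d23 (O d24
  (O d25 (O d26 (O d27 (O d28 (O d29 (O d30 (O d31 (O d32 (O d33 (O d34 (O d35 (O d36 (O d37 (O d38 (O d39 (O d40 (O
  d41 (O d42 (O d43 (O d44 (O d45 (O d46 (O d47 (O d48 (O d49 (O d50 (O d51 (O d52 (O d53 (O d54 (O d55 (O d56 (O
  d57 (O d58 (O d59 (O d60 (O d61 (O d62 (O d63 (O d64 (O d65 (O d66 (O d67 (O d68 (O d69 (O d70 (O d71 (O d72 (O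
  d73 (O d74 (O d75 (O d76 (O d77 0))))))))))))))))))))))))))))))))))))))))))))))))))))))))))))))))))))))))))))))

private theorem stp_of {s : ℕ} (hs : 0 < s) {z : List ℕ} {l : List (ℕ × ℕ)}
    (h : List.Forall₂ (fun y p => s * y + p.2 = p.1) z l) : ∀ k : List ℕ → Bool, stp s l k = k z := by
  induction h with
  | nil => exact fun _ => rfl
  | @cons y p z l h1 _ ih =>
    intro k
    show (frc p.1 fun P => frc p.2 fun Q => frc ((P - Q) / s) fun y =>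
      (Bool.rec false (stp s l fun l' => k (y :: l')) (Nat.beq (s * y + Q) P) : Bool)) = _
    rw [frc_eq, frc_eq, frc_eq, ← h1, Nat.add_sub_cancel, Nat.mul_div_cancel_left _ hs, Nat.beq_refl]
    exact ih _

private noncomputable def mo (S : ℕ → ℕ → ℕ) (B : ℕ) (u : List ℕ) (d : List (ℕ × Bool)) : List ℕ :=
  List.rec [] (fun p _ ih => (Bool.rec (ntd u 0 p.1) (S B (ntd u 0 p.1)) p.2 : ℕ) :: ih) d

private def mr (p : ℕ × Bool) : Row := Bool.rec (([(p.1, 1)], 0), [], 0) (([], 2), [(p.1, 1)], 0) p.2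

private theorem mo_spec {C : ℕ} {u : List ℕ} (hu : ∀ y ∈ u, y ≤ 2 * C) : ∀ d : List (ℕ × Bool),
    List.Forall₂ (fun y p => 1 * y + p.2 = p.1) (mo Nat.sub (2 * C) u d) ((d.map mr).map (pq C u)) ∧
      ∀ y ∈ mo Nat.sub (2 * C) u d, y ≤ 2 * C
  | [] => ⟨List.Forall₂.nil, fun _ h => (nomatch h)⟩
  | (j, b) :: d => by
    have h : ntd u 0 j ≤ 2 * C := (ntd_mem u 0 j).elim (fun h => h.trans_le (Nat.zero_le _)) (hu _)
    cases b with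
    | false =>
      exact ⟨List.Forall₂.cons (rfl : 1 * ntd u 0 j + 0 * C = 1 * ntd u 0 j + 0 * C) (mo_spec hu d).1,
        List.forall_mem_cons.2 ⟨h, (mo_spec hu d).2⟩⟩
    | true =>
      exact ⟨List.Forall₂.cons (by omega : 1 * (2 * C - ntd u 0 j) + (1 * ntd u 0 j + 0 * C) = 2 * C) (mo_spec hu d).1,
        List.forall_mem_cons.2 ⟨Nat.sub_le _ _, (mo_spec hu d).2⟩⟩

private def RR (C : ℕ) (K : Fn Bool 78) (k : List ℕ → Bool) : Prop :=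
  ∀ u : List ℕ, u.length = 78 → (∀ y ∈ u, y ≤ 2 * C) → ap 78 K u = true → k u = true

private theorem rr_mo {C : ℕ} {K : Fn Bool 78} {k : List ℕ → Bool} (h : RR C K k) (d : List (ℕ × Bool)) (hd : d.length = 78) :
    RR C (lam 78 fun u => ap 78 K (mo Nat.sub (2 * C) u d)) fun u => stp 1 (ap 78 (fnOf 78 (d.map mr) C) u) k := by
  intro u hl hu h1
  rw [ap_lam _ _ _ hl] at h1
  have h2 := mo_spec hu d
  show stp 1 (ap 78 (lam 78 fun u => (d.map mr).map (pq C u)) u) k = true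
  rw [ap_lam _ _ _ hl, stp_of Nat.one_pos h2.1]
  exact h _ (by rw [h2.1.length_eq, List.length_map, List.length_map, hd]) h2.2 h1

private theorem rr_de {C : ℕ} {K : Fn Bool 78} {k : List ℕ → Bool} (h : RR C K k) (j : ℕ) (m : List Row) (hd : m.length = 78) :
    RR C (lam 78 fun u => stq Nat.add Nat.mul Nat.sub Nat.div Nat.lor Nat.land (fin (2 ^ j) (2 * C)) (2 ^ j) C u m (ap 78 K))
      fun u => stp (2 ^ j) (ap 78 (fnOf 78 m C) u) k := by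
  intro u hl hu h1
  rw [ap_lam _ _ _ hl] at h1
  obtain ⟨a1, a2, a3, h4⟩ := fin_spec h1
  obtain ⟨h2, h3⟩ := ds_spec m a1 a2 a3
  show stp (2 ^ j) (ap 78 (lam 78 fun u => m.map (pq C u)) u) k = true
  rw [ap_lam _ _ _ hl, stp_of (Nat.two_pow_pos j) h2]
  exact h _ (by rw [h2.length_eq, List.length_map, hd]) h3 h4

private def d0 : List (ℕ × Bool) := [
  (0, false), (1, false), (2, true), (3, false), (4, true), (5, false), (6, true), (7, true), (8, false), (9, true),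
  (10, true), (11, false), (12, true), (13, true), (14, false), (15, true), (16, true), (17, true), (18, true), (19,
  true), (20, true), (21, true), (22, true), (23, true), (24, true), (25, false), (26, false), (27, true), (28, true),
  (29, false), (30, true), (31, true), (32, true), (33, true), (34, false), (35, true), (36, false), (37, true), (38,
  false), (39, true), (40, true), (41, true), (42, false), (43, true), (44, false), (45, true), (46, true), (47,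
  true), (48, true), (49, false), (50, true), (51, false), (52, true), (53, true), (54, true), (55, true), (56, true),
  (57, true), (58, true), (59, true), (60, false), (61, true), (62, false), (63, true), (64, false), (65, true), (66,
  false), (67, true), (68, true), (69, true), (70, true), (71, true), (72, true), (73, true), (74, true), (75, true),
  (76, true), (77, false)]

private noncomputable def g0 (S : ℕ → ℕ → ℕ) (B : ℕ) (K : ℕ → ℕ → ℕ → ℕ → ℕ → ℕ → ℕ → ℕ → ℕ → ℕ → ℕ → ℕ → ℕ → ℕ → ℕ → ℕ → ℕ → ℕ → ℕ → ℕ → ℕ → ℕ → ℕ → ℕ → ℕ → ℕ → ℕ → ℕ → ℕ → ℕ → ℕ → ℕ → ℕ → ℕ → ℕ → ℕ → ℕ → ℕ → ℕ → ℕ → ℕ → ℕ → ℕ → ℕ → ℕ → ℕ → ℕ → ℕ → ℕ → ℕ → ℕ → ℕ → ℕ → ℕ → ℕ → ℕ → ℕ → ℕ → ℕ → ℕ → ℕ → ℕ → ℕ → ℕ → ℕ → ℕ → ℕ → ℕ → ℕ → ℕ → ℕ → ℕ → ℕ → ℕ → ℕ → ℕ → ℕ → ℕ → Bool)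
    (x0 x1 x2 x3 x4 x5 x6 x7 x8 x9 x10 x11 x12 x13 x14 x15 x16 x17 x18 x19 x20 x21 x22 x23 x24 x25 x26 x27 x28 x29 x30 x31 x32 x33 x34 x35 x36 x37 x38 x39 x40 x41 x42 x43 x44 x45 x46 x47 x48 x49 x50 x51 x52 x53 x54 x55 x56 x57 x58 x59 x60 x61 x62 x63 x64 x65 x66 x67 x68 x69 x70 x71 x72 x73 x74 x75 x76 x77 : ℕ) : Bool :=
  K x0 x1 (S B x2) x3 (S B x4) x5 (S B x6) (S B x7) x8 (S B x9) (S B x10) x11 (S B x12) (S B x13) x14 (S B x15) (S B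
  x16) (S B x17) (S B x18) (S B x19) (S B x20) (S B x21) (S B x22) (S B x23) (S B x24) x25 x26 (S B x27) (S B x28) x29
  (S B x30) (S B x31) (S B x32) (S B x33) x34 (S B x35) x36 (S B x37) x38 (S B x39) (S B x40) (S B x41) x42 (S B x43)
  x44 (S B x45) (S B x46) (S B x47) (S B x48) x49 (S B x50) x51 (S B x52) (S B x53) (S B x54) (S B x55) (S B x56) (S B
  x57) (S B x58) (S B x59) x60 (S B x61) x62 (S B x63) x64 (S B x65) x66 (S B x67) (S B x68) (S B x69) (S B x70) (S B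
  x71) (S B x72) (S B x73) (S B x74) (S B x75) (S B x76) x77

private theorem g0_eq (S : ℕ → ℕ → ℕ) (B : ℕ) (K : Fn Bool 78) :
    g0 S B K = lam 78 fun u => ap 78 K (mo S B u d0) := Eq.refl (g0 S B K)

private noncomputable def g1 (A M S D O N : ℕ → ℕ → ℕ) (e : ℕ → ℕ → Bool → Bool) (s C : ℕ)
    (K : ℕ → ℕ → ℕ → ℕ → ℕ → ℕ → ℕ → ℕ → ℕ → ℕ → ℕ → ℕ → ℕ → ℕ → ℕ → ℕ → ℕ → ℕ → ℕ → ℕ → ℕ → ℕ → ℕ → ℕ → ℕ → ℕ → ℕ → ℕ → ℕ → ℕ → ℕ → ℕ → ℕ → ℕ → ℕ → ℕ → ℕ → ℕ → ℕ → ℕ → ℕ → ℕ → ℕ → ℕ → ℕ → ℕ → ℕ → ℕ → ℕ → ℕ → ℕ → ℕ → ℕ → ℕ → ℕ → ℕ → ℕ → ℕ → ℕ → ℕ → ℕ → ℕ → ℕ → ℕ → ℕ → ℕ → ℕ → ℕ → ℕ → ℕ → ℕ → ℕ → ℕ → ℕ → ℕ → ℕ → ℕ → ℕ → Bool)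
    (x0 x1 x2 x3 x4 x5 x6 x7 x8 x9 x10 x11 x12 x13 x14 x15 x16 x17 x18 x19 x20 x21 x22 x23 x24 x25 x26 x27 x28 x29 x30 x31 x32 x33 x34 x35 x36 x37 x38 x39 x40 x41 x42 x43 x44 x45 x46 x47 x48 x49 x50 x51 x52 x53 x54 x55 x56 x57 x58 x59 x60 x61 x62 x63 x64 x65 x66 x67 x68 x69 x70 x71 x72 x73 x74 x75 x76 x77 : ℕ) : Bool :=
  hh D O N e s K (S (A (M 2 x32) (M 4 C)) (M 2 x0)) (S (A (M 2 x16) (A (M 2 x50) (M 4 C))) (A (M 2 x1) (M 2 x63))) (S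
  (M 12 C) (A (M 2 x2) (A (M 2 x21) (A (M 2 x49) (M 2 x58))))) (S (A (M 2 x15) (A (M 2 x24) (M 4 C))) (A (M 2 x3) (M 2
  x73))) (S (A x19 (A x20 (A x42 (A x46 (A x59 (A x62 (A x75 (A x76 (M 4 C))))))))) (A x4 (A x11 (A x26 (A x28 (A x47
  (A x51 (A x64 x67)))))))) (S (A (M 2 x10) (A (M 2 x68) (M 4 C))) (A (M 2 x5) (M 2 x41))) (S (A (M 2 x25) (A (M 2
  x48) (M 4 C))) (A (M 2 x6) (M 2 x61))) (S (M 12 C) (A (M 2 x7) (A (M 2 x23) (A (M 2 x44) (M 2 x65))))) (S (A (M 2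
  x12) (A (M 2 x27) (M 4 C))) (A (M 2 x8) (M 2 x74))) (S (M 12 C) (A (M 2 x9) (A (M 2 x17) (A (M 2 x43) (M 2 x66)))))
  (S (A (M 2 x5) (A (M 2 x68) (M 4 C))) (A (M 2 x10) (M 2 x41))) (S (A x42 (A x46 (A x47 (A x51 (A x59 (A x62 (A x64
  (A x67 (M 4 C))))))))) (A x4 (A x11 (A x19 (A x20 (A x26 (A x28 (A x75 x76)))))))) (S (A (M 2 x8) (A (M 2 x27) (M 4
  C))) (A (M 2 x12) (M 2 x74))) (S (M 12 C) (A (M 2 x13) (A (M 2 x18) (A (M 2 x52) (M 2 x60))))) (S (A (M 2 x22) (A (M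
  2 x57) (M 4 C))) (A (M 2 x14) (M 2 x45))) (S (A (M 2 x3) (A (M 2 x24) (M 4 C))) (A (M 2 x15) (M 2 x73))) (S (A (M 2
  x1) (A (M 2 x50) (M 4 C))) (A (M 2 x16) (M 2 x63))) (S (A (M 2 x43) (A (M 2 x66) (M 4 C))) (A (M 2 x9) (M 2 x17)))
  (S (A (M 2 x52) (A (M 2 x60) (M 4 C))) (A (M 2 x13) (M 2 x18))) (S (A x4 (A x28 (A x42 (A x47 (A x59 (A x64 (A x75
  (A x76 (M 4 C))))))))) (A x11 (A x19 (A x20 (A x26 (A x46 (A x51 (A x62 x67)))))))) (S (A x4 (A x28 (A x46 (A x51 (A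
  x62 (A x67 (A x75 (A x76 (M 4 C))))))))) (A x11 (A x19 (A x20 (A x26 (A x42 (A x47 (A x59 x64)))))))) (S (A (M 2
  x49) (A (M 2 x58) (M 4 C))) (A (M 2 x2) (M 2 x21))) (S (A (M 2 x14) (A (M 2 x57) (M 4 C))) (A (M 2 x22) (M 2 x45)))
  (S (A (M 2 x44) (A (M 2 x65) (M 4 C))) (A (M 2 x7) (M 2 x23))) (S (A (M 2 x3) (A (M 2 x15) (M 4 C))) (A (M 2 x24) (M
  2 x73))) (S (A (M 2 x6) (A (M 2 x48) (M 4 C))) (A (M 2 x25) (M 2 x61))) (S (M 20 C) (A x4 (A x11 (A x19 (A x20 (A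
  x26 (A x28 (A x42 (A x46 (A x47 (A x51 (A x59 (A x62 (A x64 (A x67 (A x75 x76)))))))))))))))) (S (A (M 2 x8) (A (M 2
  x12) (M 4 C))) (A (M 2 x27) (M 2 x74))) (S (A x19 (A x20 (A x47 (A x51 (A x64 (A x67 (A x75 (A x76 (M 4 C)))))))))
  (A x4 (A x11 (A x26 (A x28 (A x42 (A x46 (A x59 x62)))))))) (S (A (M 2 x40) (A (M 2 x71) (M 4 C))) (A (M 2 x29) (M 2
  x54))) (S (A (M 2 x34) (A (M 2 x56) (M 4 C))) (A (M 2 x30) (M 2 x69))) (S (M 12 C) (A (M 2 x31) (A (M 2 x37) (A (M 2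
  x39) (M 2 x77))))) (S (A (M 6 x0) (M 2 x32)) (M 4 C)) (S (A (M 2 x36) (A (M 2 x72) (M 4 C))) (A (M 2 x33) (M 2
  x55))) (S (A (M 2 x30) (A (M 2 x56) (M 4 C))) (A (M 2 x34) (M 2 x69))) (S (A (M 2 x38) (A (M 2 x53) (M 4 C))) (A (M
  2 x35) (M 2 x70))) (S (A (M 2 x33) (A (M 2 x72) (M 4 C))) (A (M 2 x36) (M 2 x55))) (S (A (M 2 x39) (A (M 2 x77) (M 4
  C))) (A (M 2 x31) (M 2 x37))) (S (A (M 2 x35) (A (M 2 x53) (M 4 C))) (A (M 2 x38) (M 2 x70))) (S (A (M 2 x37) (A (M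
  2 x77) (M 4 C))) (A (M 2 x31) (M 2 x39))) (S (A (M 2 x29) (A (M 2 x71) (M 4 C))) (A (M 2 x40) (M 2 x54))) (S (M 12
  C) (A (M 2 x5) (A (M 2 x10) (A (M 2 x41) (M 2 x68))))) (S (A x4 (A x11 (A x19 (A x51 (A x59 (A x62 (A x64 (A x76 (M
  4 C))))))))) (A x20 (A x26 (A x28 (A x42 (A x46 (A x47 (A x67 x75)))))))) (S (A (M 2 x17) (A (M 2 x66) (M 4 C))) (A
  (M 2 x9) (M 2 x43))) (S (A (M 2 x23) (A (M 2 x65) (M 4 C))) (A (M 2 x7) (M 2 x44))) (S (M 12 C) (A (M 2 x14) (A (M 2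
  x22) (A (M 2 x45) (M 2 x57))))) (S (A x4 (A x11 (A x20 (A x47 (A x59 (A x62 (A x67 (A x75 (M 4 C))))))))) (A x19 (A
  x26 (A x28 (A x42 (A x46 (A x51 (A x64 x76)))))))) (S (A x11 (A x19 (A x28 (A x46 (A x59 (A x64 (A x67 (A x75 (M 4
  C))))))))) (A x4 (A x20 (A x26 (A x42 (A x47 (A x51 (A x62 x76)))))))) (S (A (M 2 x6) (A (M 2 x25) (M 4 C))) (A (M 2
  x48) (M 2 x61))) (S (A (M 2 x21) (A (M 2 x58) (M 4 C))) (A (M 2 x2) (M 2 x49))) (S (A (M 2 x1) (A (M 2 x16) (M 4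
  C))) (A (M 2 x50) (M 2 x63))) (S (A x11 (A x20 (A x28 (A x42 (A x62 (A x64 (A x67 (A x76 (M 4 C))))))))) (A x4 (A
  x19 (A x26 (A x46 (A x47 (A x51 (A x59 x75)))))))) (S (A (M 2 x18) (A (M 2 x60) (M 4 C))) (A (M 2 x13) (M 2 x52)))
  (S (A (M 2 x35) (A (M 2 x38) (M 4 C))) (A (M 2 x53) (M 2 x70))) (S (M 12 C) (A (M 2 x29) (A (M 2 x40) (A (M 2 x54)
  (M 2 x71))))) (S (M 12 C) (A (M 2 x33) (A (M 2 x36) (A (M 2 x55) (M 2 x72))))) (S (A (M 2 x30) (A (M 2 x34) (M 4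
  C))) (A (M 2 x56) (M 2 x69))) (S (A (M 2 x14) (A (M 2 x22) (M 4 C))) (A (M 2 x45) (M 2 x57))) (S (A (M 2 x21) (A (M
  2 x49) (M 4 C))) (A (M 2 x2) (M 2 x58))) (S (A x4 (A x11 (A x19 (A x42 (A x46 (A x47 (A x67 (A x76 (M 4 C)))))))))
  (A x20 (A x26 (A x28 (A x51 (A x59 (A x62 (A x64 x75)))))))) (S (A (M 2 x18) (A (M 2 x52) (M 4 C))) (A (M 2 x13) (M
  2 x60))) (S (M 12 C) (A (M 2 x6) (A (M 2 x25) (A (M 2 x48) (M 2 x61))))) (S (A x4 (A x11 (A x20 (A x42 (A x46 (A x51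
  (A x64 (A x75 (M 4 C))))))))) (A x19 (A x26 (A x28 (A x47 (A x59 (A x62 (A x67 x76)))))))) (S (M 12 C) (A (M 2 x1)
  (A (M 2 x16) (A (M 2 x50) (M 2 x63))))) (S (A x11 (A x19 (A x28 (A x42 (A x47 (A x51 (A x62 (A x75 (M 4 C)))))))))
  (A x4 (A x20 (A x26 (A x46 (A x59 (A x64 (A x67 x76)))))))) (S (A (M 2 x23) (A (M 2 x44) (M 4 C))) (A (M 2 x7) (M 2
  x65))) (S (A (M 2 x17) (A (M 2 x43) (M 4 C))) (A (M 2 x9) (M 2 x66))) (S (A x11 (A x20 (A x28 (A x46 (A x47 (A x51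
  (A x59 (A x76 (M 4 C))))))))) (A x4 (A x19 (A x26 (A x42 (A x62 (A x64 (A x67 x75)))))))) (S (A (M 2 x5) (A (M 2
  x10) (M 4 C))) (A (M 2 x41) (M 2 x68))) (S (M 12 C) (A (M 2 x30) (A (M 2 x34) (A (M 2 x56) (M 2 x69))))) (S (M 12 C)
  (A (M 2 x35) (A (M 2 x38) (A (M 2 x53) (M 2 x70))))) (S (A (M 2 x29) (A (M 2 x40) (M 4 C))) (A (M 2 x54) (M 2 x71)))
  (S (A (M 2 x33) (A (M 2 x36) (M 4 C))) (A (M 2 x55) (M 2 x72))) (S (M 12 C) (A (M 2 x3) (A (M 2 x15) (A (M 2 x24) (M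
  2 x73))))) (S (M 12 C) (A (M 2 x8) (A (M 2 x12) (A (M 2 x27) (M 2 x74))))) (S (A x4 (A x19 (A x20 (A x28 (A x46 (A
  x47 (A x62 (A x64 (M 4 C))))))))) (A x11 (A x26 (A x42 (A x51 (A x59 (A x67 (A x75 x76)))))))) (S (A x4 (A x19 (A
  x20 (A x28 (A x42 (A x51 (A x59 (A x67 (M 4 C))))))))) (A x11 (A x26 (A x46 (A x47 (A x62 (A x64 (A x75 x76))))))))
  (S (A (M 2 x37) (A (M 2 x39) (M 4 C))) (A (M 2 x31) (M 2 x77)))

private theorem g1_eq (A M S D O N : ℕ → ℕ → ℕ) (e : ℕ → ℕ → Bool → Bool) (s C : ℕ) (K : Fn Bool 78) :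
    g1 A M S D O N e s C K = lam 78 fun u => stq A M S D O N e s C u m1 (ap 78 K) := Eq.refl (g1 A M S D O N e s C K)

private def d2 : List (ℕ × Bool) := [
  (0, false), (1, true), (2, true), (3, false), (4, true), (5, true), (6, false), (7, true), (8, false), (9, true),
  (10, false), (11, false), (12, true), (13, true), (14, true), (15, true), (16, false), (17, true), (18, true), (19,
  true), (20, true), (21, true), (22, false), (23, true), (24, true), (25, true), (26, false), (27, true), (28, true),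
  (29, true), (30, false), (31, true), (32, true), (33, false), (34, true), (35, false), (36, true), (37, true), (38,
  true), (39, true), (40, false), (41, true), (42, true), (43, false), (44, true), (45, true), (46, false), (47,
  false), (48, true), (49, true), (50, true), (51, true), (52, false), (53, true), (54, true), (55, true), (56, true),
  (57, true), (58, false), (59, false), (60, true), (61, true), (62, true), (63, true), (64, true), (65, false), (66,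
  true), (67, false), (68, true), (69, true), (70, true), (71, true), (72, true), (73, true), (74, true), (75, true),
  (76, true), (77, false)]

private noncomputable def g2 (S : ℕ → ℕ → ℕ) (B : ℕ) (K : ℕ → ℕ → ℕ → ℕ → ℕ → ℕ → ℕ → ℕ → ℕ → ℕ → ℕ → ℕ → ℕ → ℕ → ℕ → ℕ → ℕ → ℕ → ℕ → ℕ → ℕ → ℕ → ℕ → ℕ → ℕ → ℕ → ℕ → ℕ → ℕ → ℕ → ℕ → ℕ → ℕ → ℕ → ℕ → ℕ → ℕ → ℕ → ℕ → ℕ → ℕ → ℕ → ℕ → ℕ → ℕ → ℕ → ℕ → ℕ → ℕ → ℕ → ℕ → ℕ → ℕ → ℕ → ℕ → ℕ → ℕ → ℕ → ℕ → ℕ → ℕ → ℕ → ℕ → ℕ → ℕ → ℕ → ℕ → ℕ → ℕ → ℕ → ℕ → ℕ → ℕ → ℕ → ℕ → ℕ → ℕ → ℕ → Bool)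
    (x0 x1 x2 x3 x4 x5 x6 x7 x8 x9 x10 x11 x12 x13 x14 x15 x16 x17 x18 x19 x20 x21 x22 x23 x24 x25 x26 x27 x28 x29 x30 x31 x32 x33 x34 x35 x36 x37 x38 x39 x40 x41 x42 x43 x44 x45 x46 x47 x48 x49 x50 x51 x52 x53 x54 x55 x56 x57 x58 x59 x60 x61 x62 x63 x64 x65 x66 x67 x68 x69 x70 x71 x72 x73 x74 x75 x76 x77 : ℕ) : Bool :=
  K x0 (S B x1) (S B x2) x3 (S B x4) (S B x5) x6 (S B x7) x8 (S B x9) x10 x11 (S B x12) (S B x13) (S B x14) (S B x15)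
  x16 (S B x17) (S B x18) (S B x19) (S B x20) (S B x21) x22 (S B x23) (S B x24) (S B x25) x26 (S B x27) (S B x28) (S B
  x29) x30 (S B x31) (S B x32) x33 (S B x34) x35 (S B x36) (S B x37) (S B x38) (S B x39) x40 (S B x41) (S B x42) x43
  (S B x44) (S B x45) x46 x47 (S B x48) (S B x49) (S B x50) (S B x51) x52 (S B x53) (S B x54) (S B x55) (S B x56) (S B
  x57) x58 x59 (S B x60) (S B x61) (S B x62) (S B x63) (S B x64) x65 (S B x66) x67 (S B x68) (S B x69) (S B x70) (S B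
  x71) (S B x72) (S B x73) (S B x74) (S B x75) (S B x76) x77

private theorem g2_eq (S : ℕ → ℕ → ℕ) (B : ℕ) (K : Fn Bool 78) :
    g2 S B K = lam 78 fun u => ap 78 K (mo S B u d2) := Eq.refl (g2 S B K)

private noncomputable def g3 (A M S D O N : ℕ → ℕ → ℕ) (e : ℕ → ℕ → Bool → Bool) (s C : ℕ)
    (K : ℕ → ℕ → ℕ → ℕ → ℕ → ℕ → ℕ → ℕ → ℕ → ℕ → ℕ → ℕ → ℕ → ℕ → ℕ → ℕ → ℕ → ℕ → ℕ → ℕ → ℕ → ℕ → ℕ → ℕ → ℕ → ℕ → ℕ → ℕ → ℕ → ℕ → ℕ → ℕ → ℕ → ℕ → ℕ → ℕ → ℕ → ℕ → ℕ → ℕ → ℕ → ℕ → ℕ → ℕ → ℕ → ℕ → ℕ → ℕ → ℕ → ℕ → ℕ → ℕ → ℕ → ℕ → ℕ → ℕ → ℕ → ℕ → ℕ → ℕ → ℕ → ℕ → ℕ → ℕ → ℕ → ℕ → ℕ → ℕ → ℕ → ℕ → ℕ → ℕ → ℕ → ℕ → ℕ → ℕ → ℕ → ℕ → Bool)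
    (x0 x1 x2 x3 x4 x5 x6 x7 x8 x9 x10 x11 x12 x13 x14 x15 x16 x17 x18 x19 x20 x21 x22 x23 x24 x25 x26 x27 x28 x29 x30 x31 x32 x33 x34 x35 x36 x37 x38 x39 x40 x41 x42 x43 x44 x45 x46 x47 x48 x49 x50 x51 x52 x53 x54 x55 x56 x57 x58 x59 x60 x61 x62 x63 x64 x65 x66 x67 x68 x69 x70 x71 x72 x73 x74 x75 x76 x77 : ℕ) : Bool :=
  hh D O N e s K (S (A (M 2 x14) (M 4 C)) (M 2 x0)) (S (M 12 C) (A (M 2 x1) (A (M 2 x5) (A (M 2 x25) (M 2 x77))))) (S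
  (M 12 C) (A (M 2 x2) (A (M 2 x4) (A (M 2 x55) (M 2 x67))))) (S (M 12 C) (A (M 2 x3) (A (M 2 x34) (A (M 2 x44) (M 2
  x66))))) (S (A (M 2 x55) (A (M 2 x67) (M 4 C))) (A (M 2 x2) (M 2 x4))) (S (A (M 2 x25) (A (M 2 x77) (M 4 C))) (A (M
  2 x1) (M 2 x5))) (S (A (M 2 x39) (A (M 2 x63) (M 4 C))) (A (M 2 x6) (M 2 x41))) (S (A (M 2 x24) (A (M 2 x69) (M 4
  C))) (A (M 2 x7) (M 2 x43))) (S (A (M 2 x38) (A (M 2 x62) (M 4 C))) (A (M 2 x8) (M 2 x42))) (S (M 12 C) (A (M 2 x9)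
  (A (M 2 x23) (A (M 2 x30) (M 2 x73))))) (S (M 12 C) (A (M 2 x10) (A (M 2 x31) (A (M 2 x50) (M 2 x61))))) (S (M 12 C)
  (A (M 2 x11) (A (M 2 x29) (A (M 2 x51) (M 2 x60))))) (S (A x13 (A x20 (A x33 (A x46 (A x52 (A x53 (A x58 (A x74 (M 4
  C))))))))) (A x12 (A x21 (A x40 (A x54 (A x59 (A x70 (A x72 x76)))))))) (S (A x12 (A x21 (A x33 (A x46 (A x52 (A x54
  (A x59 (A x74 (M 4 C))))))))) (A x13 (A x20 (A x40 (A x53 (A x58 (A x70 (A x72 x76)))))))) (S (A (M 6 x0) (M 2 x14))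
  (M 4 C)) (S (M 12 C) (A (M 2 x15) (A (M 2 x17) (A (M 2 x56) (M 2 x65))))) (S (M 12 C) (A (M 2 x16) (A (M 2 x37) (A
  (M 2 x48) (M 2 x68))))) (S (A (M 2 x56) (A (M 2 x65) (M 4 C))) (A (M 2 x15) (M 2 x17))) (S (A (M 2 x28) (A (M 2 x71)
  (M 4 C))) (A (M 2 x18) (M 2 x47))) (S (M 12 C) (A (M 2 x19) (A (M 2 x27) (A (M 2 x35) (M 2 x75))))) (S (A x12 (A x21
  (A x40 (A x46 (A x52 (A x53 (A x58 (A x76 (M 4 C))))))))) (A x13 (A x20 (A x33 (A x54 (A x59 (A x70 (A x72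
  x74)))))))) (S (A x13 (A x20 (A x40 (A x46 (A x52 (A x54 (A x59 (A x76 (M 4 C))))))))) (A x12 (A x21 (A x33 (A x53
  (A x58 (A x70 (A x72 x74)))))))) (S (A (M 2 x32) (A (M 2 x57) (M 4 C))) (A (M 2 x22) (M 2 x45))) (S (A (M 2 x30) (A
  (M 2 x73) (M 4 C))) (A (M 2 x9) (M 2 x23))) (S (A (M 2 x7) (A (M 2 x69) (M 4 C))) (A (M 2 x24) (M 2 x43))) (S (A (M
  2 x5) (A (M 2 x77) (M 4 C))) (A (M 2 x1) (M 2 x25))) (S (A (M 2 x36) (A (M 2 x64) (M 4 C))) (A (M 2 x26) (M 2 x49)))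
  (S (A (M 2 x35) (A (M 2 x75) (M 4 C))) (A (M 2 x19) (M 2 x27))) (S (A (M 2 x18) (A (M 2 x71) (M 4 C))) (A (M 2 x28)
  (M 2 x47))) (S (A (M 2 x51) (A (M 2 x60) (M 4 C))) (A (M 2 x11) (M 2 x29))) (S (A (M 2 x23) (A (M 2 x73) (M 4 C)))
  (A (M 2 x9) (M 2 x30))) (S (A (M 2 x50) (A (M 2 x61) (M 4 C))) (A (M 2 x10) (M 2 x31))) (S (A (M 2 x22) (A (M 2 x57)
  (M 4 C))) (A (M 2 x32) (M 2 x45))) (S (A x12 (A x13 (A x40 (A x52 (A x53 (A x54 (A x70 (A x74 (M 4 C))))))))) (A x20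
  (A x21 (A x33 (A x46 (A x58 (A x59 (A x72 x76)))))))) (S (A (M 2 x44) (A (M 2 x66) (M 4 C))) (A (M 2 x3) (M 2 x34)))
  (S (A (M 2 x27) (A (M 2 x75) (M 4 C))) (A (M 2 x19) (M 2 x35))) (S (A (M 2 x26) (A (M 2 x64) (M 4 C))) (A (M 2 x36)
  (M 2 x49))) (S (A (M 2 x48) (A (M 2 x68) (M 4 C))) (A (M 2 x16) (M 2 x37))) (S (A (M 2 x8) (A (M 2 x62) (M 4 C))) (A
  (M 2 x38) (M 2 x42))) (S (A (M 2 x6) (A (M 2 x63) (M 4 C))) (A (M 2 x39) (M 2 x41))) (S (A x20 (A x21 (A x33 (A x52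
  (A x53 (A x54 (A x70 (A x76 (M 4 C))))))))) (A x12 (A x13 (A x40 (A x46 (A x58 (A x59 (A x72 x74)))))))) (S (M 12 C)
  (A (M 2 x6) (A (M 2 x39) (A (M 2 x41) (M 2 x63))))) (S (M 12 C) (A (M 2 x8) (A (M 2 x38) (A (M 2 x42) (M 2 x62)))))
  (S (M 12 C) (A (M 2 x7) (A (M 2 x24) (A (M 2 x43) (M 2 x69))))) (S (A (M 2 x34) (A (M 2 x66) (M 4 C))) (A (M 2 x3)
  (M 2 x44))) (S (M 12 C) (A (M 2 x22) (A (M 2 x32) (A (M 2 x45) (M 2 x57))))) (S (A x12 (A x13 (A x20 (A x21 (A x53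
  (A x54 (A x58 (A x59 (M 4 C))))))))) (A x33 (A x40 (A x46 (A x52 (A x70 (A x72 (A x74 x76)))))))) (S (M 12 C) (A (M
  2 x18) (A (M 2 x28) (A (M 2 x47) (M 2 x71))))) (S (A (M 2 x37) (A (M 2 x68) (M 4 C))) (A (M 2 x16) (M 2 x48))) (S (M
  12 C) (A (M 2 x26) (A (M 2 x36) (A (M 2 x49) (M 2 x64))))) (S (A (M 2 x31) (A (M 2 x61) (M 4 C))) (A (M 2 x10) (M 2
  x50))) (S (A (M 2 x29) (A (M 2 x60) (M 4 C))) (A (M 2 x11) (M 2 x51))) (S (A x12 (A x13 (A x20 (A x21 (A x33 (A x40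
  (A x74 (A x76 (M 4 C))))))))) (A x46 (A x52 (A x53 (A x54 (A x58 (A x59 (A x70 x72)))))))) (S (A x12 (A x20 (A x33
  (A x40 (A x46 (A x54 (A x58 (A x70 (M 4 C))))))))) (A x13 (A x21 (A x52 (A x53 (A x59 (A x72 (A x74 x76)))))))) (S
  (A x13 (A x21 (A x33 (A x40 (A x46 (A x53 (A x59 (A x70 (M 4 C))))))))) (A x12 (A x20 (A x52 (A x54 (A x58 (A x72 (A
  x74 x76)))))))) (S (A (M 2 x4) (A (M 2 x67) (M 4 C))) (A (M 2 x2) (M 2 x55))) (S (A (M 2 x17) (A (M 2 x65) (M 4 C)))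
  (A (M 2 x15) (M 2 x56))) (S (A (M 2 x22) (A (M 2 x32) (M 4 C))) (A (M 2 x45) (M 2 x57))) (S (A x12 (A x20 (A x46 (A
  x53 (A x59 (A x70 (A x74 (A x76 (M 4 C))))))))) (A x13 (A x21 (A x33 (A x40 (A x52 (A x54 (A x58 x72)))))))) (S (A
  x13 (A x21 (A x46 (A x54 (A x58 (A x70 (A x74 (A x76 (M 4 C))))))))) (A x12 (A x20 (A x33 (A x40 (A x52 (A x53 (A
  x59 x72)))))))) (S (A (M 2 x29) (A (M 2 x51) (M 4 C))) (A (M 2 x11) (M 2 x60))) (S (A (M 2 x31) (A (M 2 x50) (M 4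
  C))) (A (M 2 x10) (M 2 x61))) (S (A (M 2 x8) (A (M 2 x38) (M 4 C))) (A (M 2 x42) (M 2 x62))) (S (A (M 2 x6) (A (M 2
  x39) (M 4 C))) (A (M 2 x41) (M 2 x63))) (S (A (M 2 x26) (A (M 2 x36) (M 4 C))) (A (M 2 x49) (M 2 x64))) (S (A (M 2
  x17) (A (M 2 x56) (M 4 C))) (A (M 2 x15) (M 2 x65))) (S (A (M 2 x34) (A (M 2 x44) (M 4 C))) (A (M 2 x3) (M 2 x66)))
  (S (A (M 2 x4) (A (M 2 x55) (M 4 C))) (A (M 2 x2) (M 2 x67))) (S (A (M 2 x37) (A (M 2 x48) (M 4 C))) (A (M 2 x16) (M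
  2 x68))) (S (A (M 2 x7) (A (M 2 x24) (M 4 C))) (A (M 2 x43) (M 2 x69))) (S (A x33 (A x40 (A x53 (A x54 (A x58 (A x59
  (A x74 (A x76 (M 4 C))))))))) (A x12 (A x13 (A x20 (A x21 (A x46 (A x52 (A x70 x72)))))))) (S (A (M 2 x18) (A (M 2
  x28) (M 4 C))) (A (M 2 x47) (M 2 x71))) (S (M 20 C) (A x12 (A x13 (A x20 (A x21 (A x33 (A x40 (A x46 (A x52 (A x53
  (A x54 (A x58 (A x59 (A x70 (A x72 (A x74 x76)))))))))))))))) (S (A (M 2 x23) (A (M 2 x30) (M 4 C))) (A (M 2 x9) (M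
  2 x73))) (S (A x12 (A x13 (A x33 (A x52 (A x58 (A x59 (A x70 (A x76 (M 4 C))))))))) (A x20 (A x21 (A x40 (A x46 (A
  x53 (A x54 (A x72 x74)))))))) (S (A (M 2 x27) (A (M 2 x35) (M 4 C))) (A (M 2 x19) (M 2 x75))) (S (A x20 (A x21 (A
  x40 (A x52 (A x58 (A x59 (A x70 (A x74 (M 4 C))))))))) (A x12 (A x13 (A x33 (A x46 (A x53 (A x54 (A x72 x76))))))))
  (S (A (M 2 x5) (A (M 2 x25) (M 4 C))) (A (M 2 x1) (M 2 x77)))

private theorem g3_eq (A M S D O N : ℕ → ℕ → ℕ) (e : ℕ → ℕ → Bool → Bool) (s C : ℕ) (K : Fn Bool 78) :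
    g3 A M S D O N e s C K = lam 78 fun u => stq A M S D O N e s C u m3 (ap 78 K) := Eq.refl (g3 A M S D O N e s C K)

private def d4 : List (ℕ × Bool) := [
  (0, false), (1, true), (2, false), (3, false), (4, true), (5, false), (6, true), (7, true), (8, true), (9, true),
  (10, false), (11, true), (12, true), (13, false), (14, true), (15, false), (16, true), (17, true), (18, false), (19,
  true), (20, true), (21, false), (22, true), (23, true), (24, false), (25, true), (26, true), (27, true), (28, true),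
  (29, true), (30, true), (31, true), (32, false), (33, true), (34, true), (35, false), (36, true), (37, true), (38,
  false), (39, true), (40, true), (41, false), (42, true), (43, true), (44, true), (45, true), (46, true), (47, true),
  (48, true), (49, false), (50, true), (51, true), (52, false), (53, false), (54, true), (55, true), (56, true), (57,
  true), (58, false), (59, true), (60, false), (61, true), (62, true), (63, true), (64, true), (65, true), (66, true),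
  (67, true), (68, false), (69, true), (70, false), (71, true), (72, true), (73, false), (74, true), (75, true), (76,
  true), (77, true)]

private noncomputable def g4 (S : ℕ → ℕ → ℕ) (B : ℕ) (K : ℕ → ℕ → ℕ → ℕ → ℕ → ℕ → ℕ → ℕ → ℕ → ℕ → ℕ → ℕ → ℕ → ℕ → ℕ → ℕ → ℕ → ℕ → ℕ → ℕ → ℕ → ℕ → ℕ → ℕ → ℕ → ℕ → ℕ → ℕ → ℕ → ℕ → ℕ → ℕ → ℕ → ℕ → ℕ → ℕ → ℕ → ℕ → ℕ → ℕ → ℕ → ℕ → ℕ → ℕ → ℕ → ℕ → ℕ → ℕ → ℕ → ℕ → ℕ → ℕ → ℕ → ℕ → ℕ → ℕ → ℕ → ℕ → ℕ → ℕ → ℕ → ℕ → ℕ → ℕ → ℕ → ℕ → ℕ → ℕ → ℕ → ℕ → ℕ → ℕ → ℕ → ℕ → ℕ → ℕ → ℕ → ℕ → Bool)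
    (x0 x1 x2 x3 x4 x5 x6 x7 x8 x9 x10 x11 x12 x13 x14 x15 x16 x17 x18 x19 x20 x21 x22 x23 x24 x25 x26 x27 x28 x29 x30 x31 x32 x33 x34 x35 x36 x37 x38 x39 x40 x41 x42 x43 x44 x45 x46 x47 x48 x49 x50 x51 x52 x53 x54 x55 x56 x57 x58 x59 x60 x61 x62 x63 x64 x65 x66 x67 x68 x69 x70 x71 x72 x73 x74 x75 x76 x77 : ℕ) : Bool :=
  K x0 (S B x1) x2 x3 (S B x4) x5 (S B x6) (S B x7) (S B x8) (S B x9) x10 (S B x11) (S B x12) x13 (S B x14) x15 (S B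
  x16) (S B x17) x18 (S B x19) (S B x20) x21 (S B x22) (S B x23) x24 (S B x25) (S B x26) (S B x27) (S B x28) (S B x29)
  (S B x30) (S B x31) x32 (S B x33) (S B x34) x35 (S B x36) (S B x37) x38 (S B x39) (S B x40) x41 (S B x42) (S B x43)
  (S B x44) (S B x45) (S B x46) (S B x47) (S B x48) x49 (S B x50) (S B x51) x52 x53 (S B x54) (S B x55) (S B x56) (S B
  x57) x58 (S B x59) x60 (S B x61) (S B x62) (S B x63) (S B x64) (S B x65) (S B x66) (S B x67) x68 (S B x69) x70 (S B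
  x71) (S B x72) x73 (S B x74) (S B x75) (S B x76) (S B x77)

private theorem g4_eq (S : ℕ → ℕ → ℕ) (B : ℕ) (K : Fn Bool 78) :
    g4 S B K = lam 78 fun u => ap 78 K (mo S B u d4) := Eq.refl (g4 S B K)

private noncomputable def g5 (A M S D O N : ℕ → ℕ → ℕ) (e : ℕ → ℕ → Bool → Bool) (s C : ℕ)
    (K : ℕ → ℕ → ℕ → ℕ → ℕ → ℕ → ℕ → ℕ → ℕ → ℕ → ℕ → ℕ → ℕ → ℕ → ℕ → ℕ → ℕ → ℕ → ℕ → ℕ → ℕ → ℕ → ℕ → ℕ → ℕ → ℕ → ℕ → ℕ → ℕ → ℕ → ℕ → ℕ → ℕ → ℕ → ℕ → ℕ → ℕ → ℕ → ℕ → ℕ → ℕ → ℕ → ℕ → ℕ → ℕ → ℕ → ℕ → ℕ → ℕ → ℕ → ℕ → ℕ → ℕ → ℕ → ℕ → ℕ → ℕ → ℕ → ℕ → ℕ → ℕ → ℕ → ℕ → ℕ → ℕ → ℕ → ℕ → ℕ → ℕ → ℕ → ℕ → ℕ → ℕ → ℕ → ℕ → ℕ → ℕ → ℕ → Bool)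
    (x0 x1 x2 x3 x4 x5 x6 x7 x8 x9 x10 x11 x12 x13 x14 x15 x16 x17 x18 x19 x20 x21 x22 x23 x24 x25 x26 x27 x28 x29 x30 x31 x32 x33 x34 x35 x36 x37 x38 x39 x40 x41 x42 x43 x44 x45 x46 x47 x48 x49 x50 x51 x52 x53 x54 x55 x56 x57 x58 x59 x60 x61 x62 x63 x64 x65 x66 x67 x68 x69 x70 x71 x72 x73 x74 x75 x76 x77 : ℕ) : Bool :=
  hh D O N e s K (S (M 8 C) (A (M 2 x0) (M 2 x8))) (S (A (M 2 x29) (A (M 2 x49) (M 2 x66))) (M 2 x1)) (S (A (M 2 x9)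
  (M 8 C)) (A (M 2 x2) (A (M 2 x50) (M 2 x71)))) (S (A (M 2 x11) (A (M 2 x26) (M 2 x77))) (M 2 x3)) (S (A (M 2 x28) (A
  (M 2 x31) (M 2 x73))) (M 2 x4)) (S (A (M 2 x64) (M 8 C)) (A (M 2 x5) (A (M 2 x34) (M 2 x51)))) (S (A (M 2 x33) (M 8
  C)) (A (M 2 x6) (A (M 2 x52) (M 2 x65)))) (S (A (M 2 x13) (A (M 2 x48) (M 2 x72))) (M 2 x7)) (S (A (M 2 x8) (M 8 C))
  (M 6 x0)) (S (A (M 2 x2) (M 8 C)) (A (M 2 x9) (A (M 2 x50) (M 2 x71)))) (S (A (M 2 x47) (M 8 C)) (A (M 2 x10) (A (M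
  2 x30) (M 2 x67)))) (S (A (M 2 x3) (A (M 2 x26) (M 2 x77))) (M 2 x11)) (S (A (M 2 x27) (M 8 C)) (A (M 2 x12) (A (M 2
  x32) (M 2 x74)))) (S (A (M 2 x7) (A (M 2 x48) (M 2 x72))) (M 2 x13)) (S (A (M 2 x42) (M 8 C)) (A (M 2 x14) (A (M 2
  x38) (M 2 x62)))) (S (A x37 (A x39 (A x53 (A x56 (A x69 (A x70 (M 8 C))))))) (A x15 (A x19 (A x20 (A x24 (A x41 (A
  x45 (A x57 (A x68 (A x75 x76)))))))))) (S (A (M 2 x40) (A (M 2 x43) (M 2 x58))) (M 2 x16)) (S (A (M 2 x21) (M 8 C))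
  (A (M 2 x17) (A (M 2 x54) (M 2 x63)))) (S (A (M 2 x23) (A (M 2 x55) (M 2 x61))) (M 2 x18)) (S (A x57 (A x68 (A x69
  (A x70 (A x75 (A x76 (M 8 C))))))) (A x15 (A x19 (A x20 (A x24 (A x37 (A x39 (A x41 (A x45 (A x53 x56)))))))))) (S
  (A x41 (A x45 (A x53 (A x56 (A x75 (A x76 (M 8 C))))))) (A x15 (A x19 (A x20 (A x24 (A x37 (A x39 (A x57 (A x68 (A
  x69 x70)))))))))) (S (A (M 2 x17) (M 8 C)) (A (M 2 x21) (A (M 2 x54) (M 2 x63)))) (S (A (M 2 x59) (M 8 C)) (A (M 2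
  x22) (A (M 2 x35) (M 2 x46)))) (S (A (M 2 x18) (A (M 2 x55) (M 2 x61))) (M 2 x23)) (S (A x37 (A x39 (A x41 (A x45 (A
  x57 (A x68 (M 8 C))))))) (A x15 (A x19 (A x20 (A x24 (A x53 (A x56 (A x69 (A x70 (A x75 x76)))))))))) (S (A (M 2
  x36) (M 8 C)) (A (M 2 x25) (A (M 2 x44) (M 2 x60)))) (S (A (M 2 x3) (A (M 2 x11) (M 2 x77))) (M 2 x26)) (S (A (M 2
  x12) (M 8 C)) (A (M 2 x27) (A (M 2 x32) (M 2 x74)))) (S (A (M 2 x4) (A (M 2 x31) (M 2 x73))) (M 2 x28)) (S (A (M 2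
  x1) (A (M 2 x49) (M 2 x66))) (M 2 x29)) (S (A (M 2 x67) (M 8 C)) (A (M 2 x10) (A (M 2 x30) (M 2 x47)))) (S (A (M 2
  x4) (A (M 2 x28) (M 2 x73))) (M 2 x31)) (S (A (M 2 x74) (M 8 C)) (A (M 2 x12) (A (M 2 x27) (M 2 x32)))) (S (A (M 2
  x6) (M 8 C)) (A (M 2 x33) (A (M 2 x52) (M 2 x65)))) (S (A (M 2 x51) (M 8 C)) (A (M 2 x5) (A (M 2 x34) (M 2 x64))))
  (S (A (M 2 x46) (M 8 C)) (A (M 2 x22) (A (M 2 x35) (M 2 x59)))) (S (A (M 2 x25) (M 8 C)) (A (M 2 x36) (A (M 2 x44)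
  (M 2 x60)))) (S (A x15 (A x24 (A x45 (A x56 (A x57 (A x69 (M 8 C))))))) (A x19 (A x20 (A x37 (A x39 (A x41 (A x53 (A
  x68 (A x70 (A x75 x76)))))))))) (S (A (M 2 x62) (M 8 C)) (A (M 2 x14) (A (M 2 x38) (M 2 x42)))) (S (A x15 (A x24 (A
  x41 (A x53 (A x68 (A x70 (M 8 C))))))) (A x19 (A x20 (A x37 (A x39 (A x45 (A x56 (A x57 (A x69 (A x75 x76))))))))))
  (S (A (M 2 x16) (A (M 2 x43) (M 2 x58))) (M 2 x40)) (S (A x20 (A x24 (A x39 (A x56 (A x68 (A x76 (M 8 C))))))) (A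
  x15 (A x19 (A x37 (A x41 (A x45 (A x53 (A x57 (A x69 (A x70 x75)))))))))) (S (A (M 2 x14) (M 8 C)) (A (M 2 x38) (A
  (M 2 x42) (M 2 x62)))) (S (A (M 2 x16) (A (M 2 x40) (M 2 x58))) (M 2 x43)) (S (A (M 2 x60) (M 8 C)) (A (M 2 x25) (A
  (M 2 x36) (M 2 x44)))) (S (A x20 (A x24 (A x37 (A x53 (A x57 (A x75 (M 8 C))))))) (A x15 (A x19 (A x39 (A x41 (A x45
  (A x56 (A x68 (A x69 (A x70 x76)))))))))) (S (A (M 2 x35) (M 8 C)) (A (M 2 x22) (A (M 2 x46) (M 2 x59)))) (S (A (M 2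
  x10) (M 8 C)) (A (M 2 x30) (A (M 2 x47) (M 2 x67)))) (S (A (M 2 x7) (A (M 2 x13) (M 2 x72))) (M 2 x48)) (S (A (M 2
  x1) (A (M 2 x29) (M 2 x66))) (M 2 x49)) (S (A (M 2 x71) (M 8 C)) (A (M 2 x2) (A (M 2 x9) (M 2 x50)))) (S (A (M 2
  x34) (M 8 C)) (A (M 2 x5) (A (M 2 x51) (M 2 x64)))) (S (A (M 2 x65) (M 8 C)) (A (M 2 x6) (A (M 2 x33) (M 2 x52))))
  (S (A x15 (A x20 (A x39 (A x45 (A x70 (A x75 (M 8 C))))))) (A x19 (A x24 (A x37 (A x41 (A x53 (A x56 (A x57 (A x68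
  (A x69 x76)))))))))) (S (A (M 2 x63) (M 8 C)) (A (M 2 x17) (A (M 2 x21) (M 2 x54)))) (S (A (M 2 x18) (A (M 2 x23) (M
  2 x61))) (M 2 x55)) (S (A x15 (A x20 (A x37 (A x41 (A x69 (A x76 (M 8 C))))))) (A x19 (A x24 (A x39 (A x45 (A x53 (A
  x56 (A x57 (A x68 (A x70 x75)))))))))) (S (A x19 (A x24 (A x37 (A x45 (A x70 (A x76 (M 8 C))))))) (A x15 (A x20 (A
  x39 (A x41 (A x53 (A x56 (A x57 (A x68 (A x69 x75)))))))))) (S (A (M 2 x16) (A (M 2 x40) (M 2 x43))) (M 2 x58)) (S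
  (A (M 2 x22) (M 8 C)) (A (M 2 x35) (A (M 2 x46) (M 2 x59)))) (S (A (M 2 x44) (M 8 C)) (A (M 2 x25) (A (M 2 x36) (M 2
  x60)))) (S (A (M 2 x18) (A (M 2 x23) (M 2 x55))) (M 2 x61)) (S (A (M 2 x38) (M 8 C)) (A (M 2 x14) (A (M 2 x42) (M 2
  x62)))) (S (A (M 2 x54) (M 8 C)) (A (M 2 x17) (A (M 2 x21) (M 2 x63)))) (S (A (M 2 x5) (M 8 C)) (A (M 2 x34) (A (M 2
  x51) (M 2 x64)))) (S (A (M 2 x52) (M 8 C)) (A (M 2 x6) (A (M 2 x33) (M 2 x65)))) (S (A (M 2 x1) (A (M 2 x29) (M 2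
  x49))) (M 2 x66)) (S (A (M 2 x30) (M 8 C)) (A (M 2 x10) (A (M 2 x47) (M 2 x67)))) (S (A x19 (A x24 (A x39 (A x41 (A
  x69 (A x75 (M 8 C))))))) (A x15 (A x20 (A x37 (A x45 (A x53 (A x56 (A x57 (A x68 (A x70 x76)))))))))) (S (A x15 (A
  x19 (A x37 (A x56 (A x68 (A x75 (M 8 C))))))) (A x20 (A x24 (A x39 (A x41 (A x45 (A x53 (A x57 (A x69 (A x70
  x76)))))))))) (S (A x15 (A x19 (A x39 (A x53 (A x57 (A x76 (M 8 C))))))) (A x20 (A x24 (A x37 (A x41 (A x45 (A x56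
  (A x68 (A x69 (A x70 x75)))))))))) (S (A (M 2 x50) (M 8 C)) (A (M 2 x2) (A (M 2 x9) (M 2 x71)))) (S (A (M 2 x7) (A
  (M 2 x13) (M 2 x48))) (M 2 x72)) (S (A (M 2 x4) (A (M 2 x28) (M 2 x31))) (M 2 x73)) (S (A (M 2 x32) (M 8 C)) (A (M 2
  x12) (A (M 2 x27) (M 2 x74)))) (S (A x19 (A x20 (A x45 (A x53 (A x68 (A x69 (M 8 C))))))) (A x15 (A x24 (A x37 (A
  x39 (A x41 (A x56 (A x57 (A x70 (A x75 x76)))))))))) (S (A x19 (A x20 (A x41 (A x56 (A x57 (A x70 (M 8 C))))))) (A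
  x15 (A x24 (A x37 (A x39 (A x45 (A x53 (A x68 (A x69 (A x75 x76)))))))))) (S (A (M 2 x3) (A (M 2 x11) (M 2 x26))) (M
  2 x77))

private theorem g5_eq (A M S D O N : ℕ → ℕ → ℕ) (e : ℕ → ℕ → Bool → Bool) (s C : ℕ) (K : Fn Bool 78) :
    g5 A M S D O N e s C K = lam 78 fun u => stq A M S D O N e s C u m5 (ap 78 K) := Eq.refl (g5 A M S D O N e s C K)

private def d6 : List (ℕ × Bool) := [
  (0, false), (1, true), (2, true), (3, false), (4, true), (5, true), (6, true), (7, false), (8, true), (9, false),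
  (10, true), (11, true), (12, true), (13, true), (14, false), (15, false), (16, true), (17, false), (18, true), (19,
  true), (20, true), (21, true), (22, false), (23, false), (24, false), (25, true), (26, true), (27, true), (28,
  true), (29, true), (30, false), (31, true), (32, false), (33, true), (34, false), (35, true), (36, true), (37,
  true), (38, true), (39, true), (40, true), (41, true), (42, true), (43, false), (44, false), (45, false), (46,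
  true), (47, true), (48, true), (49, true), (50, true), (51, true), (52, true), (53, true), (54, true), (55, true),
  (56, false), (57, false), (58, true), (59, true), (60, true), (61, true), (62, true), (63, true), (64, true), (65,
  false), (66, false), (67, true), (68, true), (69, false), (70, true), (71, true), (72, true), (73, false), (74,
  true), (75, true), (76, true), (77, true)]

private noncomputable def g6 (S : ℕ → ℕ → ℕ) (B : ℕ) (K : ℕ → ℕ → ℕ → ℕ → ℕ → ℕ → ℕ → ℕ → ℕ → ℕ → ℕ → ℕ → ℕ → ℕ → ℕ → ℕ → ℕ → ℕ → ℕ → ℕ → ℕ → ℕ → ℕ → ℕ → ℕ → ℕ → ℕ → ℕ → ℕ → ℕ → ℕ → ℕ → ℕ → ℕ → ℕ → ℕ → ℕ → ℕ → ℕ → ℕ → ℕ → ℕ → ℕ → ℕ → ℕ → ℕ → ℕ → ℕ → ℕ → ℕ → ℕ → ℕ → ℕ → ℕ → ℕ → ℕ → ℕ → ℕ → ℕ → ℕ → ℕ → ℕ → ℕ → ℕ → ℕ → ℕ → ℕ → ℕ → ℕ → ℕ → ℕ → ℕ → ℕ → ℕ → ℕ → ℕ → ℕ → ℕ → Bool)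
    (x0 x1 x2 x3 x4 x5 x6 x7 x8 x9 x10 x11 x12 x13 x14 x15 x16 x17 x18 x19 x20 x21 x22 x23 x24 x25 x26 x27 x28 x29 x30 x31 x32 x33 x34 x35 x36 x37 x38 x39 x40 x41 x42 x43 x44 x45 x46 x47 x48 x49 x50 x51 x52 x53 x54 x55 x56 x57 x58 x59 x60 x61 x62 x63 x64 x65 x66 x67 x68 x69 x70 x71 x72 x73 x74 x75 x76 x77 : ℕ) : Bool :=
  K x0 (S B x1) (S B x2) x3 (S B x4) (S B x5) (S B x6) x7 (S B x8) x9 (S B x10) (S B x11) (S B x12) (S B x13) x14 x15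
  (S B x16) x17 (S B x18) (S B x19) (S B x20) (S B x21) x22 x23 x24 (S B x25) (S B x26) (S B x27) (S B x28) (S B x29)
  x30 (S B x31) x32 (S B x33) x34 (S B x35) (S B x36) (S B x37) (S B x38) (S B x39) (S B x40) (S B x41) (S B x42) x43
  x44 x45 (S B x46) (S B x47) (S B x48) (S B x49) (S B x50) (S B x51) (S B x52) (S B x53) (S B x54) (S B x55) x56 x57
  (S B x58) (S B x59) (S B x60) (S B x61) (S B x62) (S B x63) (S B x64) x65 x66 (S B x67) (S B x68) x69 (S B x70) (S B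
  x71) (S B x72) x73 (S B x74) (S B x75) (S B x76) (S B x77)

private theorem g6_eq (S : ℕ → ℕ → ℕ) (B : ℕ) (K : Fn Bool 78) :
    g6 S B K = lam 78 fun u => ap 78 K (mo S B u d6) := Eq.refl (g6 S B K)

private def d7 : List (ℕ × Bool) := [
  (0, false), (1, true), (2, true), (3, true), (4, true), (5, true), (6, false), (7, false), (8, false), (9, true),
  (10, true), (11, true), (12, false), (13, false), (14, true), (15, true), (16, true), (17, true), (18, false), (19,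
  true), (20, true), (21, true), (22, true), (23, false), (24, true), (25, false), (26, true), (27, false), (28,
  true), (29, true), (30, true), (31, true), (32, false), (33, false), (34, true), (35, true), (36, false), (37,
  true), (38, true), (39, true), (40, true), (41, true), (42, true), (43, true), (44, false), (45, true), (46, true),
  (47, true), (48, false), (49, true), (50, true), (51, true), (52, false), (53, true), (54, true), (55, false), (56,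
  true), (57, true), (58, true), (59, true), (60, false), (61, false), (62, true), (63, true), (64, true), (65,
  false), (66, true), (67, true), (68, true), (69, true), (70, true), (71, true), (72, false), (73, true), (74,
  false), (75, true), (76, true), (77, true)]

private noncomputable def g7 (S : ℕ → ℕ → ℕ) (B : ℕ) (K : ℕ → ℕ → ℕ → ℕ → ℕ → ℕ → ℕ → ℕ → ℕ → ℕ → ℕ → ℕ → ℕ → ℕ → ℕ → ℕ → ℕ → ℕ → ℕ → ℕ → ℕ → ℕ → ℕ → ℕ → ℕ → ℕ → ℕ → ℕ → ℕ → ℕ → ℕ → ℕ → ℕ → ℕ → ℕ → ℕ → ℕ → ℕ → ℕ → ℕ → ℕ → ℕ → ℕ → ℕ → ℕ → ℕ → ℕ → ℕ → ℕ → ℕ → ℕ → ℕ → ℕ → ℕ → ℕ → ℕ → ℕ → ℕ → ℕ → ℕ → ℕ → ℕ → ℕ → ℕ → ℕ → ℕ → ℕ → ℕ → ℕ → ℕ → ℕ → ℕ → ℕ → ℕ → ℕ → ℕ → ℕ → ℕ → Bool)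
    (x0 x1 x2 x3 x4 x5 x6 x7 x8 x9 x10 x11 x12 x13 x14 x15 x16 x17 x18 x19 x20 x21 x22 x23 x24 x25 x26 x27 x28 x29 x30 x31 x32 x33 x34 x35 x36 x37 x38 x39 x40 x41 x42 x43 x44 x45 x46 x47 x48 x49 x50 x51 x52 x53 x54 x55 x56 x57 x58 x59 x60 x61 x62 x63 x64 x65 x66 x67 x68 x69 x70 x71 x72 x73 x74 x75 x76 x77 : ℕ) : Bool :=
  K x0 (S B x1) (S B x2) (S B x3) (S B x4) (S B x5) x6 x7 x8 (S B x9) (S B x10) (S B x11) x12 x13 (S B x14) (S B x15)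
  (S B x16) (S B x17) x18 (S B x19) (S B x20) (S B x21) (S B x22) x23 (S B x24) x25 (S B x26) x27 (S B x28) (S B x29)
  (S B x30) (S B x31) x32 x33 (S B x34) (S B x35) x36 (S B x37) (S B x38) (S B x39) (S B x40) (S B x41) (S B x42) (S B
  x43) x44 (S B x45) (S B x46) (S B x47) x48 (S B x49) (S B x50) (S B x51) x52 (S B x53) (S B x54) x55 (S B x56) (S B
  x57) (S B x58) (S B x59) x60 x61 (S B x62) (S B x63) (S B x64) x65 (S B x66) (S B x67) (S B x68) (S B x69) (S B x70)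
  (S B x71) x72 (S B x73) x74 (S B x75) (S B x76) (S B x77)

private theorem g7_eq (S : ℕ → ℕ → ℕ) (B : ℕ) (K : Fn Bool 78) :
    g7 S B K = lam 78 fun u => ap 78 K (mo S B u d7) := Eq.refl (g7 S B K)

private noncomputable def g8 (A M S D O N : ℕ → ℕ → ℕ) (e : ℕ → ℕ → Bool → Bool) (s C : ℕ)
    (K : ℕ → ℕ → ℕ → ℕ → ℕ → ℕ → ℕ → ℕ → ℕ → ℕ → ℕ → ℕ → ℕ → ℕ → ℕ → ℕ → ℕ → ℕ → ℕ → ℕ → ℕ → ℕ → ℕ → ℕ → ℕ → ℕ → ℕ → ℕ → ℕ → ℕ → ℕ → ℕ → ℕ → ℕ → ℕ → ℕ → ℕ → ℕ → ℕ → ℕ → ℕ → ℕ → ℕ → ℕ → ℕ → ℕ → ℕ → ℕ → ℕ → ℕ → ℕ → ℕ → ℕ → ℕ → ℕ → ℕ → ℕ → ℕ → ℕ → ℕ → ℕ → ℕ → ℕ → ℕ → ℕ → ℕ → ℕ → ℕ → ℕ → ℕ → ℕ → ℕ → ℕ → ℕ → ℕ → ℕ → ℕ → ℕ → Bool)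
    (x0 x1 x2 x3 x4 x5 x6 x7 x8 x9 x10 x11 x12 x13 x14 x15 x16 x17 x18 x19 x20 x21 x22 x23 x24 x25 x26 x27 x28 x29 x30 x31 x32 x33 x34 x35 x36 x37 x38 x39 x40 x41 x42 x43 x44 x45 x46 x47 x48 x49 x50 x51 x52 x53 x54 x55 x56 x57 x58 x59 x60 x61 x62 x63 x64 x65 x66 x67 x68 x69 x70 x71 x72 x73 x74 x75 x76 x77 : ℕ) : Bool :=
  hh D O N e s K (S (M 8 C) (A (M 2 x0) (M 2 x3))) (S (A (M 2 x51) (M 8 C)) (A (M 2 x1) (A (M 2 x36) (M 2 x62)))) (S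
  (A (M 2 x13) (A (M 2 x53) (M 2 x68))) (M 2 x2)) (S (A (M 2 x3) (M 8 C)) (M 6 x0)) (S (A x61 (A x63 (A x71 (A x72 (A
  x75 (A x76 (M 8 C))))))) (A x4 (A x12 (A x27 (A x28 (A x37 (A x39 (A x48 (A x50 (A x54 x55)))))))))) (S (A (M 2 x38)
  (M 8 C)) (A (M 2 x5) (A (M 2 x49) (M 2 x60)))) (S (A (M 2 x47) (M 8 C)) (A (M 2 x6) (A (M 2 x40) (M 2 x59)))) (S (A
  (M 2 x9) (M 8 C)) (A (M 2 x7) (A (M 2 x56) (M 2 x57)))) (S (A (M 2 x11) (A (M 2 x26) (M 2 x77))) (M 2 x8)) (S (A (M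
  2 x7) (M 8 C)) (A (M 2 x9) (A (M 2 x56) (M 2 x57)))) (S (A (M 2 x35) (M 8 C)) (A (M 2 x10) (A (M 2 x52) (M 2 x58))))
  (S (A (M 2 x8) (A (M 2 x26) (M 2 x77))) (M 2 x11)) (S (A x37 (A x39 (A x48 (A x50 (A x61 (A x63 (M 8 C))))))) (A x4
  (A x12 (A x27 (A x28 (A x54 (A x55 (A x71 (A x72 (A x75 x76)))))))))) (S (A (M 2 x2) (A (M 2 x53) (M 2 x68))) (M 2
  x13)) (S (A (M 2 x34) (A (M 2 x44) (M 2 x66))) (M 2 x14)) (S (A (M 2 x24) (M 8 C)) (A (M 2 x15) (A (M 2 x32) (M 2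
  x73)))) (S (A (M 2 x67) (M 8 C)) (A (M 2 x16) (A (M 2 x33) (M 2 x46)))) (S (A (M 2 x23) (M 8 C)) (A (M 2 x17) (A (M
  2 x45) (M 2 x69)))) (S (A (M 2 x21) (A (M 2 x41) (M 2 x70))) (M 2 x18)) (S (A (M 2 x20) (A (M 2 x31) (M 2 x74))) (M
  2 x19)) (S (A (M 2 x19) (A (M 2 x31) (M 2 x74))) (M 2 x20)) (S (A (M 2 x18) (A (M 2 x41) (M 2 x70))) (M 2 x21)) (S
  (A (M 2 x30) (A (M 2 x43) (M 2 x65))) (M 2 x22)) (S (A (M 2 x17) (M 8 C)) (A (M 2 x23) (A (M 2 x45) (M 2 x69)))) (S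
  (A (M 2 x15) (M 8 C)) (A (M 2 x24) (A (M 2 x32) (M 2 x73)))) (S (A (M 2 x64) (M 8 C)) (A (M 2 x25) (A (M 2 x29) (M 2
  x42)))) (S (A (M 2 x8) (A (M 2 x11) (M 2 x77))) (M 2 x26)) (S (A x37 (A x39 (A x54 (A x55 (A x71 (A x72 (M 8
  C))))))) (A x4 (A x12 (A x27 (A x28 (A x48 (A x50 (A x61 (A x63 (A x75 x76)))))))))) (S (A x48 (A x50 (A x54 (A x55
  (A x75 (A x76 (M 8 C))))))) (A x4 (A x12 (A x27 (A x28 (A x37 (A x39 (A x61 (A x63 (A x71 x72)))))))))) (S (A (M 2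
  x42) (M 8 C)) (A (M 2 x25) (A (M 2 x29) (M 2 x64)))) (S (A (M 2 x22) (A (M 2 x43) (M 2 x65))) (M 2 x30)) (S (A (M 2
  x19) (A (M 2 x20) (M 2 x74))) (M 2 x31)) (S (A (M 2 x73) (M 8 C)) (A (M 2 x15) (A (M 2 x24) (M 2 x32)))) (S (A (M 2
  x46) (M 8 C)) (A (M 2 x16) (A (M 2 x33) (M 2 x67)))) (S (A (M 2 x14) (A (M 2 x44) (M 2 x66))) (M 2 x34)) (S (A (M 2
  x10) (M 8 C)) (A (M 2 x35) (A (M 2 x52) (M 2 x58)))) (S (A (M 2 x62) (M 8 C)) (A (M 2 x1) (A (M 2 x36) (M 2 x51))))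
  (S (A x12 (A x27 (A x50 (A x54 (A x63 (A x71 (M 8 C))))))) (A x4 (A x28 (A x37 (A x39 (A x48 (A x55 (A x61 (A x72 (A
  x75 x76)))))))))) (S (A (M 2 x5) (M 8 C)) (A (M 2 x38) (A (M 2 x49) (M 2 x60)))) (S (A x12 (A x27 (A x48 (A x55 (A
  x61 (A x72 (M 8 C))))))) (A x4 (A x28 (A x37 (A x39 (A x50 (A x54 (A x63 (A x71 (A x75 x76)))))))))) (S (A (M 2 x59)
  (M 8 C)) (A (M 2 x6) (A (M 2 x40) (M 2 x47)))) (S (A (M 2 x18) (A (M 2 x21) (M 2 x70))) (M 2 x41)) (S (A (M 2 x29)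
  (M 8 C)) (A (M 2 x25) (A (M 2 x42) (M 2 x64)))) (S (A (M 2 x22) (A (M 2 x30) (M 2 x65))) (M 2 x43)) (S (A (M 2 x14)
  (A (M 2 x34) (M 2 x66))) (M 2 x44)) (S (A (M 2 x69) (M 8 C)) (A (M 2 x17) (A (M 2 x23) (M 2 x45)))) (S (A (M 2 x33)
  (M 8 C)) (A (M 2 x16) (A (M 2 x46) (M 2 x67)))) (S (A (M 2 x6) (M 8 C)) (A (M 2 x40) (A (M 2 x47) (M 2 x59)))) (S (A
  x12 (A x28 (A x39 (A x54 (A x61 (A x75 (M 8 C))))))) (A x4 (A x27 (A x37 (A x48 (A x50 (A x55 (A x63 (A x71 (A x72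
  x76)))))))))) (S (A (M 2 x60) (M 8 C)) (A (M 2 x5) (A (M 2 x38) (M 2 x49)))) (S (A x12 (A x28 (A x37 (A x55 (A x63
  (A x76 (M 8 C))))))) (A x4 (A x27 (A x39 (A x48 (A x50 (A x54 (A x61 (A x71 (A x72 x75)))))))))) (S (A (M 2 x1) (M 8
  C)) (A (M 2 x36) (A (M 2 x51) (M 2 x62)))) (S (A (M 2 x58) (M 8 C)) (A (M 2 x10) (A (M 2 x35) (M 2 x52)))) (S (A (M
  2 x2) (A (M 2 x13) (M 2 x68))) (M 2 x53)) (S (A x27 (A x28 (A x37 (A x48 (A x71 (A x75 (M 8 C))))))) (A x4 (A x12 (A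
  x39 (A x50 (A x54 (A x55 (A x61 (A x63 (A x72 x76)))))))))) (S (A x27 (A x28 (A x39 (A x50 (A x72 (A x76 (M 8
  C))))))) (A x4 (A x12 (A x37 (A x48 (A x54 (A x55 (A x61 (A x63 (A x71 x75)))))))))) (S (A (M 2 x57) (M 8 C)) (A (M
  2 x7) (A (M 2 x9) (M 2 x56)))) (S (A (M 2 x56) (M 8 C)) (A (M 2 x7) (A (M 2 x9) (M 2 x57)))) (S (A (M 2 x52) (M 8
  C)) (A (M 2 x10) (A (M 2 x35) (M 2 x58)))) (S (A (M 2 x40) (M 8 C)) (A (M 2 x6) (A (M 2 x47) (M 2 x59)))) (S (A (M 2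
  x49) (M 8 C)) (A (M 2 x5) (A (M 2 x38) (M 2 x60)))) (S (A x4 (A x12 (A x39 (A x48 (A x71 (A x76 (M 8 C))))))) (A x27
  (A x28 (A x37 (A x50 (A x54 (A x55 (A x61 (A x63 (A x72 x75)))))))))) (S (A (M 2 x36) (M 8 C)) (A (M 2 x1) (A (M 2
  x51) (M 2 x62)))) (S (A x4 (A x12 (A x37 (A x50 (A x72 (A x75 (M 8 C))))))) (A x27 (A x28 (A x39 (A x48 (A x54 (A
  x55 (A x61 (A x63 (A x71 x76)))))))))) (S (A (M 2 x25) (M 8 C)) (A (M 2 x29) (A (M 2 x42) (M 2 x64)))) (S (A (M 2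
  x22) (A (M 2 x30) (M 2 x43))) (M 2 x65)) (S (A (M 2 x14) (A (M 2 x34) (M 2 x44))) (M 2 x66)) (S (A (M 2 x16) (M 8
  C)) (A (M 2 x33) (A (M 2 x46) (M 2 x67)))) (S (A (M 2 x2) (A (M 2 x13) (M 2 x53))) (M 2 x68)) (S (A (M 2 x45) (M 8
  C)) (A (M 2 x17) (A (M 2 x23) (M 2 x69)))) (S (A (M 2 x18) (A (M 2 x21) (M 2 x41))) (M 2 x70)) (S (A x4 (A x27 (A
  x37 (A x54 (A x61 (A x76 (M 8 C))))))) (A x12 (A x28 (A x39 (A x48 (A x50 (A x55 (A x63 (A x71 (A x72 x75))))))))))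
  (S (A x4 (A x27 (A x39 (A x55 (A x63 (A x75 (M 8 C))))))) (A x12 (A x28 (A x37 (A x48 (A x50 (A x54 (A x61 (A x71 (A
  x72 x76)))))))))) (S (A (M 2 x32) (M 8 C)) (A (M 2 x15) (A (M 2 x24) (M 2 x73)))) (S (A (M 2 x19) (A (M 2 x20) (M 2
  x31))) (M 2 x74)) (S (A x4 (A x28 (A x48 (A x54 (A x63 (A x72 (M 8 C))))))) (A x12 (A x27 (A x37 (A x39 (A x50 (A
  x55 (A x61 (A x71 (A x75 x76)))))))))) (S (A x4 (A x28 (A x50 (A x55 (A x61 (A x71 (M 8 C))))))) (A x12 (A x27 (A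
  x37 (A x39 (A x48 (A x54 (A x63 (A x72 (A x75 x76)))))))))) (S (A (M 2 x8) (A (M 2 x11) (M 2 x26))) (M 2 x77))

private theorem g8_eq (A M S D O N : ℕ → ℕ → ℕ) (e : ℕ → ℕ → Bool → Bool) (s C : ℕ) (K : Fn Bool 78) :
    g8 A M S D O N e s C K = lam 78 fun u => stq A M S D O N e s C u m8 (ap 78 K) := Eq.refl (g8 A M S D O N e s C K)

private noncomputable def gs : List ((ℕ → ℕ → Fn Bool 78 → Fn Bool 78) × Unit) := [
  (fun _ B K => g0 Nat.sub B K, ()),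
  (fun C B K => g1 Nat.add Nat.mul Nat.sub Nat.div Nat.lor Nat.land (fin 4 B) 4 C K, ()),
  (fun _ B K => g2 Nat.sub B K, ()),
  (fun C B K => g3 Nat.add Nat.mul Nat.sub Nat.div Nat.lor Nat.land (fin 4 B) 4 C K, ()),
  (fun _ B K => g4 Nat.sub B K, ()),
  (fun C B K => g5 Nat.add Nat.mul Nat.sub Nat.div Nat.lor Nat.land (fin 4 B) 4 C K, ()),
  (fun _ B K => g6 Nat.sub B K, ()),
  (fun _ B K => g7 Nat.sub B K, ()),
  (fun C B K => g8 Nat.add Nat.mul Nat.sub Nat.div Nat.lor Nat.land (fin 4 B) 4 C K, ())]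

private noncomputable def apF (C B : ℕ) (w : List ℕ) : Fn Bool 78 → Fn Bool 78 :=
  List.rec (fun K => K) (fun x _ ih K => ih ((ntd gs (fun _ _ K => K, ()) x).1 C B K)) w

private theorem r0 {C : ℕ} {K : Fn Bool 78} {k : List ℕ → Bool} (h : RR C K k) :
    RR C (g0 Nat.sub (2 * C) K) fun u => stp 1 (ap 78 (f0 C) u) k := by
  rw [g0_eq, f0_eq]
  exact rr_mo h d0 (Eq.refl 78)

private theorem r1 {C : ℕ} {K : Fn Bool 78} {k : List ℕ → Bool} (h : RR C K k) :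
    RR C (g1 Nat.add Nat.mul Nat.sub Nat.div Nat.lor Nat.land (fin 4 (2 * C)) 4 C K) fun u => stp 4 (ap 78 (f1 C) u) k := by
  rw [g1_eq, f1_eq]
  exact rr_de h 2 m1 (Eq.refl 78)

private theorem r2 {C : ℕ} {K : Fn Bool 78} {k : List ℕ → Bool} (h : RR C K k) :
    RR C (g2 Nat.sub (2 * C) K) fun u => stp 1 (ap 78 (f2 C) u) k := by
  rw [g2_eq, f2_eq]
  exact rr_mo h d2 (Eq.refl 78)

private theorem r3 {C : ℕ} {K : Fn Bool 78} {k : List ℕ → Bool} (h : RR C K k) :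
    RR C (g3 Nat.add Nat.mul Nat.sub Nat.div Nat.lor Nat.land (fin 4 (2 * C)) 4 C K) fun u => stp 4 (ap 78 (f3 C) u) k := by
  rw [g3_eq, f3_eq]
  exact rr_de h 2 m3 (Eq.refl 78)

private theorem r4 {C : ℕ} {K : Fn Bool 78} {k : List ℕ → Bool} (h : RR C K k) :
    RR C (g4 Nat.sub (2 * C) K) fun u => stp 1 (ap 78 (f4 C) u) k := by
  rw [g4_eq, f4_eq]
  exact rr_mo h d4 (Eq.refl 78)

private theorem r5 {C : ℕ} {K : Fn Bool 78} {k : List ℕ → Bool} (h : RR C K k) :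
    RR C (g5 Nat.add Nat.mul Nat.sub Nat.div Nat.lor Nat.land (fin 4 (2 * C)) 4 C K) fun u => stp 4 (ap 78 (f5 C) u) k := by
  rw [g5_eq, f5_eq]
  exact rr_de h 2 m5 (Eq.refl 78)

private theorem r6 {C : ℕ} {K : Fn Bool 78} {k : List ℕ → Bool} (h : RR C K k) :
    RR C (g6 Nat.sub (2 * C) K) fun u => stp 1 (ap 78 (f6 C) u) k := by
  rw [g6_eq, f6_eq]
  exact rr_mo h d6 (Eq.refl 78)

private theorem r7 {C : ℕ} {K : Fn Bool 78} {k : List ℕ → Bool} (h : RR C K k) :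
    RR C (g7 Nat.sub (2 * C) K) fun u => stp 1 (ap 78 (f7 C) u) k := by
  rw [g7_eq, f7_eq]
  exact rr_mo h d7 (Eq.refl 78)

private theorem r8 {C : ℕ} {K : Fn Bool 78} {k : List ℕ → Bool} (h : RR C K k) :
    RR C (g8 Nat.add Nat.mul Nat.sub Nat.div Nat.lor Nat.land (fin 4 (2 * C)) 4 C K) fun u => stp 4 (ap 78 (f8 C) u) k := by
  rw [g8_eq, f8_eq]
  exact rr_de h 2 m8 (Eq.refl 78)

private theorem rr_sel {C x s : ℕ} {K : Fn Bool 78} {k : List ℕ → Bool} {G : ℕ → ℕ → Fn Bool 78 → Fn Bool 78}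
    (f : ℕ → Fn (List (ℕ × ℕ)) 78) (e1 : ntd gs (fun _ _ K => K, ()) x = (G, ())) (e2 : ntd sc 1 x = s)
    (e3 : ntd fs (fnOf 78 []) x = f) (h : RR C (G C (2 * C) K) fun u => stp s (ap 78 (f C) u) k) :
    RR C ((ntd gs (fun _ _ K => K, ()) x).1 C (2 * C) K) fun u => stp (ntd sc 1 x) (ap 78 (ntd fs (fnOf 78 []) x C) u) k := by
  rw [e1, e2, e3]
  exact h

private theorem rr_st {C : ℕ} {K : Fn Bool 78} {k : List ℕ → Bool} (h : RR C K k) : ∀ x < 9,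
    RR C ((ntd gs (fun _ _ K => K, ()) x).1 C (2 * C) K) fun u => stp (ntd sc 1 x) (ap 78 (ntd fs (fnOf 78 []) x C) u) k
    := by
  intro x hx
  rcases x with _ | _ | _ | _ | _ | _ | _ | _ | _ | x
  exacts [rr_sel f0 rfl rfl rfl (r0 h),
    rr_sel f1 rfl rfl rfl (r1 h),
    rr_sel f2 rfl rfl rfl (r2 h),
    rr_sel f3 rfl rfl rfl (r3 h),
    rr_sel f4 rfl rfl rfl (r4 h),
    rr_sel f5 rfl rfl rfl (r5 h),
    rr_sel f6 rfl rfl rfl (r6 h),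
    rr_sel f7 rfl rfl rfl (r7 h),
    rr_sel f8 rfl rfl rfl (r8 h),
    absurd hx (Nat.not_lt.2 (Nat.le_add_left 9 x))]

private theorem app_of {C : ℕ} {v : List ℕ} (hl : v.length = 78) (hv : ∀ y ∈ v, y ≤ 2 * C) : ∀ (w : List ℕ),
    (∀ x ∈ w, x < 9) → ∀ K k, RR C K k → ap 78 (apF C (2 * C) w K) v = true → app 78 sc fs C v w k = true
  | [], _, _, _, h, h1 => h v hl hv h1
  | x :: w, hw, _, _, h, h1 => app_of hl hv w (fun y hy => hw y (List.mem_cons_of_mem _ hy)) _ _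
      (rr_st h x (hw x List.mem_cons_self)) h1

private theorem rec_and {a b : Bool} (h : (Bool.rec false a b : Bool) = true) : b = true ∧ a = true := by
  cases b with
  | false => cases h
  | true => exact ⟨rfl, h⟩

private noncomputable def ini (B C : ℕ) (F : ℕ → ℕ → ℕ → ℕ → ℕ → ℕ → ℕ → ℕ → ℕ → ℕ → ℕ → ℕ → ℕ → ℕ → ℕ → ℕ → ℕ → ℕ → ℕ → ℕ → ℕ → ℕ → ℕ → ℕ → ℕ → ℕ → ℕ → ℕ → ℕ → ℕ → ℕ → ℕ → ℕ → ℕ → ℕ → ℕ → ℕ → ℕ → ℕ → ℕ → ℕ → ℕ → ℕ → ℕ → ℕ → ℕ → ℕ → ℕ → ℕ → ℕ → ℕ → ℕ → ℕ → ℕ → ℕ → ℕ → ℕ → ℕ → ℕ → ℕ → ℕ → ℕ → ℕ → ℕ → ℕ → ℕ → ℕ → ℕ → ℕ → ℕ → ℕ → ℕ → ℕ → ℕ → ℕ → ℕ → ℕ → ℕ → Bool) : Bool :=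
  F (Nat.add (Nat.mul 16 (Nat.pow B 0)) C) (Nat.add (Nat.mul 16 (Nat.pow B 1)) C) (Nat.add (Nat.mul 16 (Nat.pow B
  2)) C) (Nat.add (Nat.mul 16 (Nat.pow B 3)) C) (Nat.add (Nat.mul 16 (Nat.pow B 4)) C) (Nat.add (Nat.mul 16 (Nat.pow
  B 5)) C) (Nat.add (Nat.mul 16 (Nat.pow B 6)) C) (Nat.add (Nat.mul 16 (Nat.pow B 7)) C) (Nat.add (Nat.mul 16
  (Nat.pow B 8)) C) (Nat.add (Nat.mul 16 (Nat.pow B 9)) C) (Nat.add (Nat.mul 16 (Nat.pow B 10)) C) (Nat.add (Nat.mul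
  16 (Nat.pow B 11)) C) (Nat.add (Nat.mul 16 (Nat.pow B 12)) C) (Nat.add (Nat.mul 16 (Nat.pow B 13)) C) (Nat.add
  (Nat.mul 16 (Nat.pow B 14)) C) (Nat.add (Nat.mul 16 (Nat.pow B 15)) C) (Nat.add (Nat.mul 16 (Nat.pow B 16)) C)
  (Nat.add (Nat.mul 16 (Nat.pow B 17)) C) (Nat.add (Nat.mul 16 (Nat.pow B 18)) C) (Nat.add (Nat.mul 16 (Nat.pow B
  19)) C) (Nat.add (Nat.mul 16 (Nat.pow B 20)) C) (Nat.add (Nat.mul 16 (Nat.pow B 21)) C) (Nat.add (Nat.mul 16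
  (Nat.pow B 22)) C) (Nat.add (Nat.mul 16 (Nat.pow B 23)) C) (Nat.add (Nat.mul 16 (Nat.pow B 24)) C) (Nat.add
  (Nat.mul 16 (Nat.pow B 25)) C) (Nat.add (Nat.mul 16 (Nat.pow B 26)) C) (Nat.add (Nat.mul 16 (Nat.pow B 27)) C)
  (Nat.add (Nat.mul 16 (Nat.pow B 28)) C) (Nat.add (Nat.mul 16 (Nat.pow B 29)) C) (Nat.add (Nat.mul 16 (Nat.pow B
  30)) C) (Nat.add (Nat.mul 16 (Nat.pow B 31)) C) (Nat.add (Nat.mul 16 (Nat.pow B 32)) C) (Nat.add (Nat.mul 16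
  (Nat.pow B 33)) C) (Nat.add (Nat.mul 16 (Nat.pow B 34)) C) (Nat.add (Nat.mul 16 (Nat.pow B 35)) C) (Nat.add
  (Nat.mul 16 (Nat.pow B 36)) C) (Nat.add (Nat.mul 16 (Nat.pow B 37)) C) (Nat.add (Nat.mul 16 (Nat.pow B 38)) C)
  (Nat.add (Nat.mul 16 (Nat.pow B 39)) C) (Nat.add (Nat.mul 16 (Nat.pow B 40)) C) (Nat.add (Nat.mul 16 (Nat.pow B
  41)) C) (Nat.add (Nat.mul 16 (Nat.pow B 42)) C) (Nat.add (Nat.mul 16 (Nat.pow B 43)) C) (Nat.add (Nat.mul 16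
  (Nat.pow B 44)) C) (Nat.add (Nat.mul 16 (Nat.pow B 45)) C) (Nat.add (Nat.mul 16 (Nat.pow B 46)) C) (Nat.add
  (Nat.mul 16 (Nat.pow B 47)) C) (Nat.add (Nat.mul 16 (Nat.pow B 48)) C) (Nat.add (Nat.mul 16 (Nat.pow B 49)) C)
  (Nat.add (Nat.mul 16 (Nat.pow B 50)) C) (Nat.add (Nat.mul 16 (Nat.pow B 51)) C) (Nat.add (Nat.mul 16 (Nat.pow B
  52)) C) (Nat.add (Nat.mul 16 (Nat.pow B 53)) C) (Nat.add (Nat.mul 16 (Nat.pow B 54)) C) (Nat.add (Nat.mul 16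
  (Nat.pow B 55)) C) (Nat.add (Nat.mul 16 (Nat.pow B 56)) C) (Nat.add (Nat.mul 16 (Nat.pow B 57)) C) (Nat.add
  (Nat.mul 16 (Nat.pow B 58)) C) (Nat.add (Nat.mul 16 (Nat.pow B 59)) C) (Nat.add (Nat.mul 16 (Nat.pow B 60)) C)
  (Nat.add (Nat.mul 16 (Nat.pow B 61)) C) (Nat.add (Nat.mul 16 (Nat.pow B 62)) C) (Nat.add (Nat.mul 16 (Nat.pow B
  63)) C) (Nat.add (Nat.mul 16 (Nat.pow B 64)) C) (Nat.add (Nat.mul 16 (Nat.pow B 65)) C) (Nat.add (Nat.mul 16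
  (Nat.pow B 66)) C) (Nat.add (Nat.mul 16 (Nat.pow B 67)) C) (Nat.add (Nat.mul 16 (Nat.pow B 68)) C) (Nat.add
  (Nat.mul 16 (Nat.pow B 69)) C) (Nat.add (Nat.mul 16 (Nat.pow B 70)) C) (Nat.add (Nat.mul 16 (Nat.pow B 71)) C)
  (Nat.add (Nat.mul 16 (Nat.pow B 72)) C) (Nat.add (Nat.mul 16 (Nat.pow B 73)) C) (Nat.add (Nat.mul 16 (Nat.pow B
  74)) C) (Nat.add (Nat.mul 16 (Nat.pow B 75)) C) (Nat.add (Nat.mul 16 (Nat.pow B 76)) C) (Nat.add (Nat.mul 16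
  (Nat.pow B 77)) C)

private theorem ini_eq (B C : ℕ) (F : Fn Bool 78) : ini B C F = ap 78 F (st 78 16 B C) := Eq.refl (ini B C F)

private theorem st_le {B C : ℕ} (hB : 16 ≤ B) (hC : C = B ^ (78 + 1) + 7) : ∀ y ∈ st 78 16 B C, y ≤ 2 * C := fun y hy => by
  obtain ⟨j, hj, rfl⟩ := List.mem_map.1 hy
  have h1 : B ^ (j + 1) ≤ B ^ (78 + 1) := Nat.pow_le_pow_right (by omega) (by have := List.mem_range.1 hj; omega)
  have h2 : B ^ j * 16 ≤ B ^ (j + 1) := Nat.mul_le_mul_left _ hB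
  omega

private noncomputable def runF (w : List ℕ) (K : ℕ → ℕ → ℕ → ℕ → Fn Bool 78) : Bool :=
  Bool.rec false (frc (ws sc w) fun s => frc (16 * s ^ 2) fun h => frc (4 * h + 11400714819323198485) fun B =>
    frc (B ^ (78 + 1) + 7) fun C => frc (2 * C) fun E => ini B C (apF C E w (K s h B C))) (allL (fun x => Nat.blt x 9) w)

private theorem core {B C : ℕ} {w : List ℕ} {K : Fn Bool 78} {k : List ℕ → Bool} (hB : 16 ≤ B) (hC : C = B ^ (78 + 1) + 7)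
    (hw : ∀ x ∈ w, x < 9) (hK : RR C K k) (h : ini B C (apF C (2 * C) w K) = true) :
    app 78 sc fs C (st 78 16 B C) w k = true :=
  app_of (by rw [st, List.length_map, List.length_range]) (st_le hB hC) w hw _ _ hK ((ini_eq _ _ _).symm.trans h)

private theorem run_of {w : List ℕ} {K : ℕ → ℕ → ℕ → ℕ → Fn Bool 78} {k : ℕ → ℕ → ℕ → ℕ → List ℕ → List ℕ → Bool}
    (hK : ∀ s h B C, h = 16 * s ^ 2 → 16 ≤ B → C = B ^ (78 + 1) + 7 → RR C (K s h B C) (k s h B C (st 78 16 B C)))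
    (h : runF w K = true) :
    (allL (fun x => Nat.blt x ms.length) w && Nat.blt 0 16 && frc (ws sc w) fun s => frc (16 * s ^ 2) fun h =>
      frc (4 * h + 11400714819323198485) fun B => frc (B ^ (78 + 1) + 7) fun C => frcL (st 78 16 B C) fun v =>
        app 78 sc fs C v w (k s h B C v)) = true := by
  have h1 := rec_and h
  have h2 := h1.2
  have h3 : ∀ a : ℕ, 16 ≤ a + 11400714819323198485 := fun a => by omega
  rw [frc_eq, frc_eq, frc_eq, frc_eq, frc_eq] at h2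
  rw [Bool.and_eq_true, Bool.and_eq_true, frc_eq, frc_eq, frc_eq, frc_eq, frcL_eq]
  exact ⟨⟨h1.1, Eq.refl true⟩, core (h3 _) rfl (fun x hx => Nat.blt_eq.mp (allL_spec h1.1 x hx))
    (hK _ _ _ _ rfl (h3 _) rfl) h2⟩

private noncomputable def dsum (A M D Q P : ℕ → ℕ → ℕ) (s o B : ℕ) (u l : List ℕ) : ℕ :=
  List.rec 0 (fun i _ ih => A (Q (D (A (M s (ntd u 0 i)) o) (P B i)) B) ih) l

private noncomputable def kT (A M D Q P : ℕ → ℕ → ℕ) (e : ℕ → Bool) (s o B : ℕ)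
    (x0 x1 x2 x3 x4 x5 x6 x7 x8 x9 x10 x11 x12 x13 x14 x15 x16 x17 x18 x19 x20 x21 x22 x23 x24 x25 x26 x27 x28 x29 x30 x31 x32 x33 x34 x35 x36 x37 x38 x39 x40 x41 x42 x43 x44 x45 x46 x47 x48 x49 x50 x51 x52 x53 x54 x55 x56 x57 x58 x59 x60 x61 x62 x63 x64 x65 x66 x67 x68 x69 x70 x71 x72 x73 x74 x75 x76 x77 : ℕ) : Bool :=
  e (A (Q (D (A (M s x0) o) (P B 0)) B) (A (Q (D (A (M s x1) o) (P B 1)) B) (A (Q (D (A (M s x2) o) (P B 2)) B) (A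
  (Q (D (A (M s x3) o) (P B 3)) B) (A (Q (D (A (M s x4) o) (P B 4)) B) (A (Q (D (A (M s x5) o) (P B 5)) B) (A (Q (D
  (A (M s x6) o) (P B 6)) B) (A (Q (D (A (M s x7) o) (P B 7)) B) (A (Q (D (A (M s x8) o) (P B 8)) B) (A (Q (D (A (M
  s x9) o) (P B 9)) B) (A (Q (D (A (M s x10) o) (P B 10)) B) (A (Q (D (A (M s x11) o) (P B 11)) B) (A (Q (D (A (M s
  x12) o) (P B 12)) B) (A (Q (D (A (M s x13) o) (P B 13)) B) (A (Q (D (A (M s x14) o) (P B 14)) B) (A (Q (D (A (M s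
  x15) o) (P B 15)) B) (A (Q (D (A (M s x16) o) (P B 16)) B) (A (Q (D (A (M s x17) o) (P B 17)) B) (A (Q (D (A (M s
  x18) o) (P B 18)) B) (A (Q (D (A (M s x19) o) (P B 19)) B) (A (Q (D (A (M s x20) o) (P B 20)) B) (A (Q (D (A (M s
  x21) o) (P B 21)) B) (A (Q (D (A (M s x22) o) (P B 22)) B) (A (Q (D (A (M s x23) o) (P B 23)) B) (A (Q (D (A (M s
  x24) o) (P B 24)) B) (A (Q (D (A (M s x25) o) (P B 25)) B) (A (Q (D (A (M s x26) o) (P B 26)) B) (A (Q (D (A (M s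
  x27) o) (P B 27)) B) (A (Q (D (A (M s x28) o) (P B 28)) B) (A (Q (D (A (M s x29) o) (P B 29)) B) (A (Q (D (A (M s
  x30) o) (P B 30)) B) (A (Q (D (A (M s x31) o) (P B 31)) B) (A (Q (D (A (M s x32) o) (P B 32)) B) (A (Q (D (A (M s
  x33) o) (P B 33)) B) (A (Q (D (A (M s x34) o) (P B 34)) B) (A (Q (D (A (M s x35) o) (P B 35)) B) (A (Q (D (A (M s
  x36) o) (P B 36)) B) (A (Q (D (A (M s x37) o) (P B 37)) B) (A (Q (D (A (M s x38) o) (P B 38)) B) (A (Q (D (A (M s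
  x39) o) (P B 39)) B) (A (Q (D (A (M s x40) o) (P B 40)) B) (A (Q (D (A (M s x41) o) (P B 41)) B) (A (Q (D (A (M s
  x42) o) (P B 42)) B) (A (Q (D (A (M s x43) o) (P B 43)) B) (A (Q (D (A (M s x44) o) (P B 44)) B) (A (Q (D (A (M s
  x45) o) (P B 45)) B) (A (Q (D (A (M s x46) o) (P B 46)) B) (A (Q (D (A (M s x47) o) (P B 47)) B) (A (Q (D (A (M s
  x48) o) (P B 48)) B) (A (Q (D (A (M s x49) o) (P B 49)) B) (A (Q (D (A (M s x50) o) (P B 50)) B) (A (Q (D (A (M s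
  x51) o) (P B 51)) B) (A (Q (D (A (M s x52) o) (P B 52)) B) (A (Q (D (A (M s x53) o) (P B 53)) B) (A (Q (D (A (M s
  x54) o) (P B 54)) B) (A (Q (D (A (M s x55) o) (P B 55)) B) (A (Q (D (A (M s x56) o) (P B 56)) B) (A (Q (D (A (M s
  x57) o) (P B 57)) B) (A (Q (D (A (M s x58) o) (P B 58)) B) (A (Q (D (A (M s x59) o) (P B 59)) B) (A (Q (D (A (M s
  x60) o) (P B 60)) B) (A (Q (D (A (M s x61) o) (P B 61)) B) (A (Q (D (A (M s x62) o) (P B 62)) B) (A (Q (D (A (M s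
  x63) o) (P B 63)) B) (A (Q (D (A (M s x64) o) (P B 64)) B) (A (Q (D (A (M s x65) o) (P B 65)) B) (A (Q (D (A (M s
  x66) o) (P B 66)) B) (A (Q (D (A (M s x67) o) (P B 67)) B) (A (Q (D (A (M s x68) o) (P B 68)) B) (A (Q (D (A (M s
  x69) o) (P B 69)) B) (A (Q (D (A (M s x70) o) (P B 70)) B) (A (Q (D (A (M s x71) o) (P B 71)) B) (A (Q (D (A (M s
  x72) o) (P B 72)) B) (A (Q (D (A (M s x73) o) (P B 73)) B) (A (Q (D (A (M s x74) o) (P B 74)) B) (A (Q (D (A (M s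
  x75) o) (P B 75)) B) (A (Q (D (A (M s x76) o) (P B 76)) B) (A (Q (D (A (M s x77) o) (P B 77)) B)
  0))))))))))))))))))))))))))))))))))))))))))))))))))))))))))))))))))))))))))))))

private theorem kT_eq (A M D Q P : ℕ → ℕ → ℕ) (e : ℕ → Bool) (s o B : ℕ) : kT A M D Q P e s o B =
    lam 78 fun u => e (dsum A M D Q P s o B u (List.range 78)) := Eq.refl (kT A M D Q P e s o B)

private theorem dsum_eq {s o B : ℕ} {h O C : ℤ} (hB : 0 < B) (hC : C = B ^ (78 + 1) + 7) (hO : O = o + 7 * s) (u : List ℕ) :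
    ∀ l : List ℕ, (∀ i ∈ l, i < 78) → (l.map fun i => (s * ((ntd u 0 i : ℕ) - C) + O) / (B : ℤ) ^ i % B - h).sum =
      (dsum Nat.add Nat.mul Nat.div Nat.mod Nat.pow s o B u l : ℕ) - l.length * h
  | [], _ => by
    show (0 : ℤ) = (0 : ℕ) - (0 : ℕ) * h
    rw [Nat.cast_zero, zero_mul, sub_zero]
  | i :: l, hl => by
    obtain ⟨d, hd⟩ : ∃ d, 78 = i + d := ⟨78 - i, by have := hl i List.mem_cons_self; omega⟩
    have h1 : (s : ℤ) * ((ntd u 0 i : ℕ) - C) + O = (s * (ntd u 0 i : ℕ) + o) + B ^ i * (B * (-s * B ^ d)) := by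
      rw [hC, hO, hd, pow_succ, pow_add]
      ring
    rw [List.map_cons, List.sum_cons, dsum_eq hB hC hO u l fun j hj => hl j (List.mem_cons_of_mem _ hj), h1,
      Int.add_mul_ediv_left _ _ (pow_ne_zero _ (Int.natCast_ne_zero.2 hB.ne')), Int.add_mul_emod_self_left]
    show _ = (((s * ntd u 0 i + o) / B ^ i % B + dsum Nat.add Nat.mul Nat.div Nat.mod Nat.pow s o B u l : ℕ) : ℤ) -
      ((l.length + 1 : ℕ) : ℤ) * h
    push_cast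
    ring

private noncomputable def trF (w : List ℕ) (t : ℤ) : Bool :=
  runF w fun s h B _ => kT Nat.add Nat.mul Nat.div Nat.mod Nat.pow
    (fun d => decide ((d : ℤ) - (78 : ℕ) * (h : ℤ) = (16 : ℕ) * (s * t))) s
    (Nat.sub (Nat.mul h (Nat.div (Nat.sub (Nat.pow B 78) 1) (Nat.sub B 1))) (Nat.mul 7 s)) B

private theorem tr_of {w : List ℕ} {t : ℤ} (h : trF w t = true) : trB 78 ms sc fs 16 w t = true :=
  run_of (k := fun s h B C _ u => frZ (h * (pws 78 B).sum) fun o => decide (((List.range 78).map fun i =>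
    (s * ((ntd u 0 i : ℕ) - (C : ℤ)) + o) / (B : ℤ) ^ i % B - h).sum = (16 : ℕ) * (s * t))) (fun s h B C e1 e2 e3 u hl _ h1 => by
      rw [kT_eq, ap_lam _ _ _ hl] at h1
      have h2 : ∑ k ∈ Finset.range 78, B ^ k = (B ^ 78 - 1) / (B - 1) := Nat.geomSum_eq (by omega) 78
      have h3 : 1 ≤ (B ^ 78 - 1) / (B - 1) := h2 ▸ (pow_zero B).ge.trans
        (Finset.single_le_sum (f := fun k => B ^ k) (fun _ _ => Nat.zero_le _) (Finset.mem_range.2 (by decide)))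
      have h4 : 7 * s ≤ h * ((B ^ 78 - 1) / (B - 1)) :=
        (by rw [e1]; exact Nat.mul_le_mul (by decide) (Nat.le_self_pow (by decide) s) : 7 * s ≤ h).trans
          (Nat.le_mul_of_pos_right _ h3)
      have h5 : (h : ℤ) * (pws 78 B).sum = (h * ((B ^ 78 - 1) / (B - 1)) - 7 * s : ℕ) + 7 * s := by
        rw [Nat.cast_sub h4, ← h2, pws, TAB.Sm2.sum_range_eq']
        push_cast
        ring
      beta_reduce
      rw [frZ_eq, dsum_eq (by omega) (by rw [e3]; push_cast; rfl) h5 u _ fun i hi => List.mem_range.1 hi, List.length_range]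
      exact h1) h


end

theorem tr_chk : ∀ i < 59, trB 78 ms sc fs 16 (wd i) (c78.getD i 0) = true := fun i hi =>
  tr_of ((by decide +kernel : ∀ i < 59, trF (wd i) (c78.getD i 0) = true) i hi)

theorem tr_chk' : ∀ i < 59, trB 78 ms sc fs 16 ((wd i).map sw) (c78.getD i 0) = true := fun i hi =>
  tr_of ((by decide +kernel : ∀ i < 59, trF ((wd i).map sw) (c78.getD i 0) = true) i hi)

theorem tr_sq : ∀ i ∈ [55, 56], trB 78 ms sc fs 16 (wd i ++ wd i) 3 = true := fun i hi =>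
  tr_of ((by decide +kernel : ∀ i ∈ [55, 56], trF (wd i ++ wd i) 3 = true) i hi)

end Cfsg.Agent.TAB.F22

private theorem dce_1164a150b690 : _root_.True := by
  try have : _root_.True := by simp only [_root_.Cfsg.Agent.TAB.F22.gl.eq_1]
  try have : _root_.True := by simp only [_root_.Cfsg.Agent.TAB.F22.chi.eq_1]
  try have : _root_.True := by simp only [_root_.Cfsg.Agent.TAB.F22.rep.eq_1]
  try have : _root_.True := by simp only [_root_.Cfsg.Agent.TAB.F22.lab.eq_1]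
  exact _root_.True.intro
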